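import Cfsg.Agent.H6.ChevSpec
import Cfsg.Prelude.Def_ChevB2

set_option autoImplicit false
set_option maxRecDepth 100000
namespace Cfsg.Agent.H6
open Cfsg.Lie
namespace TB2

def S : ℕ := nat_lit 0x405
def P : ℕ := nat_lit 0x70506030401020000000000000000000000000000000000000000000000000000000000000000000000000000000000000000000000000000000000000000000000000000000000000000000000000000000000000000000000000000000000000000000000000000000000000000000000000000000000000000000000000000000000000000000000000000000000000000000000000000000000000000000000000000000000000000000000000000000000000000000000000000000000000000000000000000000000000000000000000000000000000000000000000000000000000000000000000000000000000000000000000000000000000000000406020700050103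
def E : ℕ := nat_lit 0x5a00000000000000000000000000000000000000000000000000000000000000ff
def CA : ℕ := nat_lit 0x897a697800000000000000000000000000000000000000000000000000000000000000000000000000000000000000000000000000000000000000000000000000000000000000000000000000000000000000000000000000000000000000000000000000000000000000000000000000000000000000000000000000000000a8a6a686
def CO : ℕ := nat_lit 0x81810000000000008281000000000000808100000000000081800000000000007f80000000000000807f0000000000007e7f0000000000007f7f
def MO : ℕ := nat_lit 0x81820000000000008181000000000000808100000000000081800000000000007f80000000000000807f0000000000007f7f0000000000007f7e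
def G : List (List ℕ) := [[nat_lit 0x6000000c0800000a02000000a600000032800000098000001e400000052, nat_lit 0x140d82800000060000004060028050200000044800001800000001a400000012, nat_lit 0xc1283000000810000001d00000000e000c0280800000254000004000000005d, nat_lit 0x35800001414000000de0000001600000004800000c040000006c00000081, nat_lit 0x78000001b000000a0c0000008d0000000b8000000f40000060400000011, nat_lit 0x7900000181c0000003e00183b060000004800000034c00000c0600181b01, nat_lit 0x4a8000002800000040e000000a100141d828000018100000007200282502, nat_lit 0x60000001940000012a0000009300000007800000c1800000a0a000000f2]]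
theorem c_neg : chkNeg chevB2 (nat_lit 8) = true := by decide +kernel
theorem c_simple : chkSimple chevB2 (nat_lit 2) S = true := by decide +kernel
theorem c_cartan : chkCartan chevB2 (nat_lit 2) (nat_lit 8) CA = true := by decide +kernel
theorem c_coroot : chkCoroot chevB2 (nat_lit 2) (nat_lit 8) CO = true := by decide +kernel
theorem c_chain : chkChain chevB2 (nat_lit 8) (nat_lit 33) G = true := by decide +kernel
theorem c_k2_0 : chkK2i (nat_lit 8) (nat_lit 33) G P E (nat_lit 0) = true := by decide +kernel
theorem c_k2_1 : chkK2i (nat_lit 8) (nat_lit 33) G P E (nat_lit 1) = true := by decide +kernel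
theorem c_w : allB (nat_lit 2) (fun i => chkW (nat_lit 8) (nat_lit 4) S P E CA i) = true := by decide +kernel
theorem c_reflect : allB (nat_lit 2) (fun i => chkReflect (nat_lit 2) (nat_lit 8) (nat_lit 33) G S CA P i) = true := by decide +kernel
theorem c_s : allB (nat_lit 2) (fun i => chkS (nat_lit 8) (nat_lit 4) S E CA i) = true := by decide +kernel
theorem c_cw : allB (nat_lit 2) (fun i => chkCW (nat_lit 2) (nat_lit 8) S P CA i) = true := by decide +kernel
theorem c_cow : allB (nat_lit 2) (fun i => chkCoW (nat_lit 2) (nat_lit 8) S P CA CO i) = true := by decide +kernel
theorem c_rw : allB (nat_lit 2) (fun i => chkRW (nat_lit 2) (nat_lit 8) P CA MO i) = true := by decide +kernel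
theorem c_r : chkR (nat_lit 2) (nat_lit 8) (nat_lit 4) S CA CO MO = true := by decide +kernel
theorem c_rs : chkRS (nat_lit 2) S MO = true := by decide +kernel
theorem c_mono : chkMono (nat_lit 2) (nat_lit 8) MO = true := by decide +kernel
theorem c_add : chkAdd (nat_lit 2) (nat_lit 8) (nat_lit 33) G MO = true := by decide +kernel
theorem c_n_0 : chkN (nat_lit 2) (nat_lit 8) (nat_lit 33) G S P E CA CO (nat_lit 0) = true := by decide +kernel
theorem c_n_1 : chkN (nat_lit 2) (nat_lit 8) (nat_lit 33) G S P E CA CO (nat_lit 1) = true := by decide +kernel
theorem c_dom : chkDom (nat_lit 2) (nat_lit 8) (nat_lit 33) G CA CO = true := by decide +kernel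
theorem chk : Chk chevB2 2 8 33 4 G S P E CA CO MO where
  rank := rfl
  nroots := rfl
  n2 := rfl
  neg := c_neg
  simple := c_simple
  cartan := c_cartan
  coroot := c_coroot
  chain := c_chain
  w := c_w
  reflect := c_reflect
  s := c_s
  cw := c_cw
  cow := c_cow
  rw := c_rw
  r := c_r
  rs := c_rs
  mono := c_mono
  add := c_add
  dom := c_dom
  k2 := fun i hi => match i, hi with
    | 0, _ => c_k2_0
    | 1, _ => c_k2_1
    | (k + 2), hk => absurd hk (by omega)
  nn := fun i hi => match i, hi with
    | 0, _ => c_n_0
    | 1, _ => c_n_1
    | (k + 2), hk => absurd hk (by omega)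
theorem good : Good chevB2 4 (etF E) (cO MO) := chk.good
end TB2
end Cfsg.Agent.H6
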