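import Cfsg.Agent.H6.ChevPerf

/-!
Perfectness of the Chevalley groups: the individual types.
-/

set_option autoImplicit false
set_option maxHeartbeats 400000
set_option maxRecDepth 100000

namespace Cfsg.Agent.H6
open Cfsg.Lie

theorem TD4.perfect {F : Type*} [Field F] : commutator ↥(chevD4.group F) = ⊤ := by
  have h : ∀ i < 4, chkPure chevD4 (chevD4.simple i) ([6, 1, 3, 2].getD i 0) ([22, 23, 22, 22].getD i 0) = true := by decide +kernel
  exact TD4.good.perfect_of_simple TD4.ext fun i hi t =>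
    pure_of_chk TD4.good TD4.ext (fun r _ t => TD4.good.xg_mem_group r t) (h i hi) t

theorem TF4.perfect {F : Type*} [Field F] : commutator ↥(chevF4.group F) = ⊤ := by
  have h : ∀ i < 4, chkPure chevF4 (chevF4.simple i) ([7, 8, 2, 1].getD i 0) ([44, 40, 46, 47].getD i 0) = true := by decide +kernel
  exact TF4.good.perfect_of_simple TF4.ext fun i hi t =>
    pure_of_chk TF4.good TF4.ext (fun r _ t => TF4.good.xg_mem_group r t) (h i hi) t

theorem TE6.perfect {F : Type*} [Field F] : commutator ↥(chevE6.group F) = ⊤ := by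
  have h : ∀ i < 6, chkPure chevE6 (chevE6.simple i) ([16, 1, 5, 2, 3, 4].getD i 0) ([66, 71, 69, 70, 69, 68].getD i 0) = true := by decide +kernel
  exact TE6.good.perfect_of_simple TE6.ext fun i hi t =>
    pure_of_chk TE6.good TE6.ext (fun r _ t => TE6.good.xg_mem_group r t) (h i hi) t

theorem TE7.perfect {F : Type*} [Field F] : commutator ↥(chevE7.group F) = ⊤ := by
  have h : ∀ i < 7, chkPure chevE7 (chevE7.simple i) ([1, 7, 2, 3, 4, 5, 6].getD i 0) ([125, 122, 124, 123, 122, 121, 120].getD i 0) = true := by decide +kernel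
  exact TE7.good.perfect_of_simple TE7.ext fun i hi t =>
    pure_of_chk TE7.good TE7.ext (fun r _ t => TE7.good.xg_mem_group r t) (h i hi) t

theorem TE8.perfect {F : Type*} [Field F] : commutator ↥(chevE8.group F) = ⊤ := by
  have h : ∀ i < 8, chkPure chevE8 (chevE8.simple i) ([14, 7, 6, 5, 4, 3, 2, 1].getD i 0) ([233, 234, 234, 235, 236, 237, 238, 239].getD i 0) = true := by decide +kernel
  exact TE8.good.perfect_of_simple TE8.ext fun i hi t =>
    pure_of_chk TE8.good TE8.ext (fun r _ t => TE8.good.xg_mem_group r t) (h i hi) t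

theorem TG2.perfect {F : Type*} [Field F] (hF : ∃ a : F, a ≠ 0 ∧ a ≠ 1) : commutator ↥(chevG2.group F) = ⊤ := by
  obtain ⟨a, ha0, ha1⟩ := hF
  have hm : ∀ r < chevG2.nroots, ∀ t : F, xg chevG2 F r t ∈ chevG2.group F := fun r _ t => TG2.good.xg_mem_group r t
  have hc : ∀ k ∈ [(0, (1, 5)), (5, (0, 10)), (6, (1, 11))], chkPure chevG2 k.1 k.2.1 k.2.2 = true := by decide +kernel
  have h0 : ∀ t : F, xg chevG2 F 0 t ∈ dS (chevG2.group F) := fun t => pure_of_chk TG2.good TG2.ext hm (hc (0, (1, 5)) (by simp)) t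
  have h5 : ∀ t : F, xg chevG2 F 5 t ∈ dS (chevG2.group F) := fun t => pure_of_chk TG2.good TG2.ext hm (hc (5, (0, 10)) (by simp)) t
  have h6 : ∀ t : F, xg chevG2 F 6 t ∈ dS (chevG2.group F) := fun t => pure_of_chk TG2.good TG2.ext hm (hc (6, (1, 11)) (by simp)) t
  have hT : chevG2.commTerms 2 10 = (7, -1, 1, 1) :: (3, 1, 2, 1) :: [(0, 1, 3, 1), (5, 1, 3, 2)] := by decide +kernel
  have h7 := (TG2.good.mixed_mem TG2.ext hm (r := 2) (s := 10) (by decide) (by decide) (by decide) (by decide +kernel)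
    (Or.inr rfl) (Or.inl rfl) hT (Or.inr ⟨rfl, rfl⟩) (by
      intro x hx t
      rw [List.mem_cons, List.mem_singleton] at hx
      rcases hx with rfl | rfl
      · exact h0 t
      · exact h5 t) ha0 ha1).1
  apply TG2.good.perfect_of_simple TG2.ext
  have hs : ∀ i < 2, chevG2.simple i = 7 ∨ chevG2.simple i = 6 := by decide +kernel
  intro i hi t
  rcases hs i hi with h | h <;> rw [h]
  · exact h7 t
  · exact h6 t

theorem TB2.perfect {F : Type*} [Field F] (hF : ∃ a : F, a ≠ 0 ∧ a ≠ 1) : commutator ↥(chevB2.group F) = ⊤ := by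
  obtain ⟨a, ha0, ha1⟩ := hF
  have hm : ∀ r < chevB2.nroots, ∀ t : F, xg chevB2 F r t ∈ chevB2.group F := fun r _ t => TB2.good.xg_mem_group r t
  have hT : chevB2.commTerms 1 7 = (5, -1, 1, 1) :: (3, 1, 2, 1) :: [] := by decide +kernel
  have hT' : chevB2.commTerms 0 6 = (2, -1, 1, 1) :: (4, 1, 1, 2) :: [] := by decide +kernel
  have h5 := (TB2.good.mixed_mem TB2.ext hm (r := 1) (s := 7) (by decide) (by decide) (by decide) (by decide +kernel)
    (Or.inr rfl) (Or.inl rfl) hT (Or.inr ⟨rfl, rfl⟩) (by intro x hx; exact absurd hx List.not_mem_nil) ha0 ha1).1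
  have h4 := (TB2.good.mixed_mem TB2.ext hm (r := 0) (s := 6) (by decide) (by decide) (by decide) (by decide +kernel)
    (Or.inr rfl) (Or.inl rfl) hT' (Or.inl ⟨rfl, rfl⟩) (by intro x hx; exact absurd hx List.not_mem_nil) ha0 ha1).2
  apply TB2.good.perfect_of_simple TB2.ext
  have hs : ∀ i < 2, chevB2.simple i = 5 ∨ chevB2.simple i = 4 := by decide +kernel
  intro i hi t
  rcases hs i hi with h | h <;> rw [h]
  · exact h5 t
  · exact h4 t

end Cfsg.Agent.H6
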