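import Cfsg.Agent.H6.TwCox
import Cfsg.Agent.H6.TwComm
import Cfsg.Agent.H6.TwBN
import Cfsg.Agent.H6.TwE6
import Cfsg.Agent.H6.TwD4

/-!
The Coxeter type of the group of `ρ`-fixed elements of the Weyl group.
-/

set_option autoImplicit false
set_option linter.unusedSectionVars false
set_option maxHeartbeats 400000
set_option maxRecDepth 10000

namespace Cfsg.Agent.H6
open Cfsg.Lie

/-- iterated word -/
def powL {α : Type*} (k : ℕ) (L : List α) : List α := (List.replicate k L).flatten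

/-- the word acts trivially -/
def chkId (n P : ℕ) (L : List ℕ) : Bool := allB n fun r => Nat.beq (rfP P L r) r

/-- the order of the word is `k` -/
def chkOrd (n P : ℕ) (L : List ℕ) (k : ℕ) : Bool :=
  chkId n P (powL k L) && allB k fun m => Nat.beq m 0 || !chkId n P (powL m L)

theorem wp_powL {W ι : Type*} [Group W] {s : ι → W} (k : ℕ) (L : List ι) : wp s (powL k L) = wp s L ^ k := by
  induction k with
  | zero => rw [pow_zero]; rfl
  | succ k ih =>
    unfold powL at ih ⊢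
    rw [List.replicate_succ, List.flatten_cons, wp_append, ih, pow_succ']

theorem powL_map {α β : Type*} (f : α → β) (k : ℕ) (L : List α) : (powL k L).map f = powL k (L.map f) := by
  unfold powL
  rw [List.map_flatten, List.map_replicate]

section
variable {D : ChevalleyDatum} {W N : ℕ} {G : List (List ℕ)} {S P E CA CO MO : ℕ} {η : ℕ → ℕ → ℤ} {rc : ℕ → ℕ → ℤ}

theorem Chk.id_iff {l n : ℕ} (h : Chk D l n W N G S P E CA CO MO) (hG : Good D N η rc) (L : List (Fin D.rank)) :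
    wp hG.s L = 1 ↔ chkId n P (L.map Fin.val) = true := by
  obtain rfl := h.rank
  obtain rfl := h.nroots
  have hw := h.hw
  constructor
  · intro h1
    apply allB_intro
    intro r hr
    have h2 := wp_val hG L ⟨r, hr⟩
    rw [h1, (rfw_eq hw hG.w_lt L hr).1] at h2
    rw [← h2]
    exact Nat.beq_refl _
  · intro h1
    apply Subtype.ext
    ext r
    rw [wp_val hG L r, (rfw_eq hw hG.w_lt L r.2).1, Nat.eq_of_beq_eq_true (allB_spec h1 r r.2)]
    rfl

theorem Chk.orderOf_eq {l n : ℕ} (h : Chk D l n W N G S P E CA CO MO) (hG : Good D N η rc) (L : List (Fin D.rank)) {k : ℕ} (hk : 0 < k)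
    (hc : chkOrd n P (L.map Fin.val) k = true) : orderOf (wp hG.s L) = k := by
  rw [chkOrd, Bool.and_eq_true] at hc
  rw [orderOf_eq_iff hk]
  constructor
  · rw [← wp_powL, h.id_iff hG, powL_map]; exact hc.1
  · intro m hm hm0 h1
    rw [← wp_powL, h.id_iff hG, powL_map] at h1
    have h2 := allB_spec hc.2 m hm
    rw [h1, Bool.or_eq_true] at h2
    rcases h2 with h2 | h2
    · have := Nat.eq_of_beq_eq_true h2; omega
    · simp at h2

end

namespace TwCtx
variable {D : ChevalleyDatum} {N : ℕ} {η : ℕ → ℕ → ℤ} {rc : ℕ → ℕ → ℤ} {F : Type*} [Field F]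
  {m : ℕ} {rho inv lam pi : ℕ → ℕ} {ep : ℕ → ℤ} {e : ℕ} {σ : ↥(D.group F) →* ↥(D.group F)}
  {ι : Type} {L : ι → List (Fin D.rank)}
variable (h : TwCtx D N η rc F m rho inv lam pi ep e σ) (hO : TwOrb D N rc rho pi L)
variable {W : ℕ} {G : List (List ℕ)} {S P E CA CO MO : ℕ}

theorem orderOf_wS {l n : ℕ} (hC : Chk D l n W N G S P E CA CO MO) (i j : ι) {k : ℕ} (hk : 0 < k)
    (hc : chkOrd n P ((L i).map Fin.val ++ (L j).map Fin.val) k = true) : orderOf (h.wS hO i * h.wS hO j) = k := by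
  rw [← List.map_append] at hc
  have h1 := hC.orderOf_eq h.G (L i ++ L j) hk hc
  rw [wp_append] at h1
  rw [← h1, ← Subgroup.orderOf_coe]
  rfl

/-- the Coxeter isomorphism -/
theorem exists_cox (M : CoxeterMatrix ι) (hM : ∀ i j, i ≠ j → M i j = orderOf (h.wS hO i * h.wS hO j)) :
    ∃ φ : M.Group ≃* h.Wr, ∀ i, φ (M.simple i) = h.wS hO i :=
  H22.exists_coxeterSystem' (h.genInvS hO) (h.exchangeS hO) (h.wS_ne_one hO) M hM

end TwCtx

/-- transport of the surjection `N¹ → Wr` -/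
theorem TwGrp.exists_onto {D : ChevalleyDatum} {N : ℕ} {η : ℕ → ℕ → ℤ} {rc : ℕ → ℕ → ℤ} {F : Type*} [Field F]
    {m : ℕ} {rho inv lam pi : ℕ → ℕ} {ep : ℕ → ℤ} {e : ℕ} {σ : ↥(D.group F) →* ↥(D.group F)}
    {ι : Type} {L : ι → List (Fin D.rank)} {h : TwCtx D N η rc F m rho inv lam pi ep e σ} {G₁ : Subgroup (GL D.Idx F)}
    (hT : TwGrp h L G₁) {X : Type*} [Group X] (ψ : h.Wr ≃* X) :
    ∃ φ : ↥(D.monomialSubgroup F ⊓ G₁) →* X, Function.Surjective φ ∧
      φ.ker = (D.diagonalSubgroup F ⊓ G₁).subgroupOf (D.monomialSubgroup F ⊓ G₁) := by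
  obtain ⟨φ, h1, h2, -⟩ := hT.exists_toWr
  refine ⟨ψ.toMonoidHom.comp φ, ψ.surjective.comp h1, ?_⟩
  rw [← h2]
  ext x
  rw [MonoidHom.mem_ker, MonoidHom.mem_ker]
  change ψ (φ x) = 1 ↔ _
  rw [map_eq_one_iff ψ ψ.injective]

namespace WE6
def FM : Fin 4 → Fin 4 → ℕ := ![![1, 3, 2, 2], ![3, 1, 4, 2], ![2, 4, 1, 3], ![2, 2, 3, 1]]
theorem FM_eq : ∀ i j : Fin 4, CoxeterMatrix.F₄ i j = FM i j := by
  intro i j
  fin_cases i <;> fin_cases j <;> rfl
theorem FM_pos : ∀ i j : Fin 4, 0 < FM i j := by decide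
theorem ords : ∀ i j : Fin 4, i = j ∨ chkOrd 72 TE6.P ((L i).map Fin.val ++ (L j).map Fin.val) (FM i j) = true := by
  decide +kernel

theorem exists_cox {K : Type*} [Field K] {q : ℕ} {σ : ↥(chevE6.group K) →* ↥(chevE6.group K)} (h : Ctx K q σ) :
    ∃ φ : CoxeterMatrix.F₄.Group ≃* h.Wr, ∀ i, φ (CoxeterMatrix.F₄.simple i) = h.wS orbL i := by
  apply h.exists_cox orbL
  intro i j hij
  rw [FM_eq]
  exact (h.orderOf_wS orbL TE6.chk i j (FM_pos i j) ((ords i j).resolve_left hij)).symm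
end WE6

namespace WD4a
def FM : Fin 2 → Fin 2 → ℕ := ![![1, 6], ![6, 1]]
theorem FM_eq : ∀ i j : Fin 2, CoxeterMatrix.G₂ i j = FM i j := by
  intro i j
  fin_cases i <;> fin_cases j <;> rfl
theorem FM_pos : ∀ i j : Fin 2, 0 < FM i j := by decide
theorem ords : ∀ i j : Fin 2, i = j ∨ chkOrd 24 TD4.P ((L i).map Fin.val ++ (L j).map Fin.val) (FM i j) = true := by
  decide +kernel

theorem exists_cox {K : Type*} [Field K] {q : ℕ} {σ : ↥(chevD4.group K) →* ↥(chevD4.group K)} (h : Ctx K q σ) :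
    ∃ φ : CoxeterMatrix.G₂.Group ≃* h.Wr, ∀ i, φ (CoxeterMatrix.G₂.simple i) = h.wS orbL i := by
  apply h.exists_cox orbL
  intro i j hij
  rw [FM_eq]
  exact (h.orderOf_wS orbL TD4.chk i j (FM_pos i j) ((ords i j).resolve_left hij)).symm
end WD4a

end Cfsg.Agent.H6
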