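import Cfsg.Agent.S0319
import Cfsg.Agent.H6.ChevPerfTab
import Cfsg.Agent.H6.ChevBr
import Cfsg.Agent.H6.TwWr

/-!
Simplicity of the Chevalley groups and of the twisted groups: the irreducibility of the (B,N)-pair.
-/

set_option autoImplicit false
set_option linter.unusedSectionVars false
set_option maxHeartbeats 400000
set_option maxRecDepth 100000

namespace Cfsg.Agent.H6
open Cfsg.Lie

/-- connectivity through a parent function -/
theorem conn_of_par {ι : Type*} (par : ι → ι) (root : ι) (k : ℕ) (hk : ∀ i, par^[k] i = root) (I : Set ι) (h1 : I.Nonempty) (h2 : Iᶜ.Nonempty) :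
    (∃ i, i ∈ I ∧ par i ∉ I) ∨ ∃ i, i ∉ I ∧ par i ∈ I := by
  by_contra hc
  push Not at hc
  have key : ∀ i, i ∈ I ↔ par i ∈ I := fun i => ⟨fun h => hc.1 i h, fun h => by by_contra h'; exact hc.2 i h' h⟩
  have key2 : ∀ n i, i ∈ I ↔ par^[n] i ∈ I := by
    intro n
    induction n with
    | zero => intro i; rfl
    | succ n ih => intro i; rw [Function.iterate_succ_apply, ← ih, key]
  obtain ⟨a, ha⟩ := h1
  obtain ⟨b, hb⟩ := h2
  rw [key2 k, hk] at ha
  exact hb ((key2 k b).2 (by rw [hk]; exact ha))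

theorem not_comm_of_perfect {G : Type*} [Group G] [Nontrivial G] (h : commutator G = ⊤) : ¬ IsMulCommutative G := by
  intro hc
  rw [isMulCommutative_iff] at hc
  have h1 : commutator G = ⊥ := by
    rw [commutator_def, Subgroup.commutator_eq_bot_iff_le_centralizer]
    intro x _ y _
    exact hc y x
  rw [h1] at h
  exact bot_ne_top h

section
variable {D : ChevalleyDatum} {N : ℕ} {η : ℕ → ℕ → ℤ} {rc : ℕ → ℕ → ℤ} {F : Type*} [Field F]

theorem Good.irreducible (hG : Good D N η rc) (hE : Ext D rc) (F : Type*) [Field F] (par : Fin D.rank → Fin D.rank) (root : Fin D.rank) (k : ℕ)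
    (hpar : ∀ i, i = par i ∨ hG.s i * hG.s (par i) ≠ hG.s (par i) * hG.s i) (hk : ∀ i, par^[k] i = root) :
    (hG.bnPair hE F).Irreducible := by
  intro J hJ hJ1 hJ2
  have hmem : ∀ i : Fin D.rank, ng D F i ∈ D.group F := fun i => hG.ngr_mem_group _ _
  obtain ⟨I, hI⟩ : ∃ I : Set (Fin D.rank), I = {i : Fin D.rank | (⟨ng D F i, hmem i⟩ : ↥(D.group F)) ∈ J} := ⟨_, rfl⟩
  have hS : ∀ i : Fin D.rank, (⟨ng D F i, hmem i⟩ : ↥(D.group F)) ∈ (hG.bnPair hE F).S := by
    intro i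
    refine ⟨i, i.2, ?_⟩
    rw [hG.eq_ngr_iff]; rfl
  have hS' : ∀ x ∈ (hG.bnPair hE F).S, ∃ i : Fin D.rank, x = (⟨ng D F i, hmem i⟩ : ↥(D.group F)) := by
    rintro ⟨x, hx⟩ ⟨i, hi, h⟩
    rw [hG.eq_ngr_iff] at h
    exact ⟨⟨i, hi⟩, Subtype.ext h⟩
  have hI1 : I.Nonempty := by
    obtain ⟨x, hx⟩ := hJ1
    obtain ⟨i, rfl⟩ := hS' x (hJ hx)
    exact ⟨i, by rw [hI]; exact hx⟩
  have hI2 : Iᶜ.Nonempty := by
    obtain ⟨x, hx, hx'⟩ := hJ2
    obtain ⟨i, rfl⟩ := hS' x hx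
    exact ⟨i, by rw [hI]; exact hx'⟩
  have hcomm : ∀ i j : Fin D.rank, hG.s i * hG.s j ≠ hG.s j * hG.s i →
      (⟨ng D F i, hmem i⟩ : ↥(D.group F)) * ⟨ng D F j, hmem j⟩ * ⟨ng D F i, hmem i⟩⁻¹ * ⟨ng D F j, hmem j⟩⁻¹ ∉ (hG.bnPair hE F).B := by
    intro i j hij hc
    change ng D F i * ng D F j * (ng D F i)⁻¹ * (ng D F j)⁻¹ ∈ D.borelSubgroup F at hc
    obtain ⟨χ, hm⟩ := hG.mon_ng (F := F) hE i
    obtain ⟨χ', hm'⟩ := hG.mon_ng (F := F) hE j
    have h1 := hG.mon_borel hE (((hm.mul hm').mul hm.inv).mul hm'.inv) hc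
    rw [mul_inv_eq_one, mul_inv_eq_iff_eq_mul] at h1
    exact hij h1
  rcases conn_of_par par root k hk I hI1 hI2 with ⟨i, h1, h2⟩ | ⟨i, h1, h2⟩
  · have h3 : hG.s i * hG.s (par i) ≠ hG.s (par i) * hG.s i := by
      rcases hpar i with h | h
      · rw [← h] at h2; exact absurd h1 h2
      · exact h
    rw [hI] at h1 h2
    exact ⟨_, h1, _, ⟨hS _, h2⟩, hcomm _ _ h3⟩
  · have h3 : hG.s (par i) * hG.s i ≠ hG.s i * hG.s (par i) := by
      rcases hpar i with h | h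
      · rw [← h] at h2; exact absurd h2 h1
      · exact h.symm
    rw [hI] at h1 h2
    exact ⟨_, h2, _, ⟨hS _, h1⟩, hcomm _ _ h3⟩

theorem Good.simple_group (hG : Good D N η rc) (hE : Ext D rc) (F : Type*) [Field F] (par : Fin D.rank → Fin D.rank) (root : Fin D.rank) (k : ℕ)
    (hpar : ∀ i, i = par i ∨ hG.s i * hG.s (par i) ≠ hG.s (par i) * hG.s i) (hk : ∀ i, par^[k] i = root)
    (hperf : commutator ↥(D.group F) = ⊤) :
    IsSimpleGroup ↥(D.group F) ∧ ¬ IsMulCommutative ↥(D.group F) := by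
  have : Nontrivial ↥(D.group F) := by
    refine ⟨⟨⟨xg D F (D.simple root) 1, hG.xg_mem_group _ _⟩, 1, ?_⟩⟩
    intro h
    exact hG.xg_ne_one hE (hG.simple_lt root root.2) one_ne_zero (congrArg Subtype.val h)
  refine ⟨?_, not_comm_of_perfect hperf⟩
  have hsolv : Group.IsSolvable ↥((D.borelSubgroup F).subgroupOf (D.group F)) := by
    have h1 := hG.borel_solvable (F := F) hE
    let f : ↥((D.borelSubgroup F).subgroupOf (D.group F)) →* ↥(D.borelSubgroup F) :=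
      { toFun := fun x => ⟨x.1.1, x.2⟩, map_one' := rfl, map_mul' := fun _ _ => rfl }
    exact Group.isSolvable_of_isSolvable_injective (f := f) (fun x y hxy => by
      have h2 : (x.1.1 : GL D.Idx F) = y.1.1 := congrArg (fun z : ↥(D.borelSubgroup F) => (z : GL D.Idx F)) hxy
      exact Subtype.ext (Subtype.ext h2))
  exact S0319.result (hG.bnPair hE F) (hG.irreducible hE F par root k hpar hk) hsolv hperf (hG.borel_core hE)

theorem Chk.noncomm {W N : ℕ} {G : List (List ℕ)} {S P E CA CO MO : ℕ} {η : ℕ → ℕ → ℤ} {rc : ℕ → ℕ → ℤ} {l n : ℕ}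
    (h : Chk D l n W N G S P E CA CO MO) (hG : Good D N η rc) (L L' : List (Fin D.rank))
    (hc : chkId n P ((L.map Fin.val ++ L'.map Fin.val) ++ (L.map Fin.val ++ L'.map Fin.val)) = false)
    (h1 : wp hG.s L * wp hG.s L = 1) (h2 : wp hG.s L' * wp hG.s L' = 1) :
    wp hG.s L * wp hG.s L' ≠ wp hG.s L' * wp hG.s L := by
  intro he
  have h3 : wp hG.s ((L ++ L') ++ (L ++ L')) = 1 := by
    rw [wp_append, wp_append]
    calc wp hG.s L * wp hG.s L' * (wp hG.s L * wp hG.s L') = wp hG.s L * (wp hG.s L' * wp hG.s L) * wp hG.s L' := by group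
      _ = (wp hG.s L * wp hG.s L) * (wp hG.s L' * wp hG.s L') := by rw [← he]; group
      _ = 1 := by rw [h1, h2, one_mul]
  rw [h.id_iff hG, List.map_append, List.map_append, hc] at h3
  exact absurd h3 (by decide)

theorem Chk.noncomm_simple {W N : ℕ} {G : List (List ℕ)} {S P E CA CO MO : ℕ} {η : ℕ → ℕ → ℤ} {rc : ℕ → ℕ → ℤ} {l n : ℕ}
    (h : Chk D l n W N G S P E CA CO MO) (hG : Good D N η rc) (i j : Fin D.rank)
    (hc : chkId n P ([(i : ℕ), (j : ℕ)] ++ [(i : ℕ), (j : ℕ)]) = false) :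
    hG.s i * hG.s j ≠ hG.s j * hG.s i := by
  have h1 := h.noncomm hG [i] [j] hc (by rw [wp_single]; exact hG.s_sq i) (by rw [wp_single]; exact hG.s_sq j)
  rwa [wp_single, wp_single] at h1

end
end Cfsg.Agent.H6
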