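import Cfsg.Agent.H6.ChevTorusCard

/-!
Smith normal forms of the seven Cartan matrices; orders of the diagonal subgroups.
-/

set_option autoImplicit false
set_option maxRecDepth 100000

namespace Cfsg.Agent.H6
open Cfsg.Lie

namespace TG2
def smA : Matrix (Fin 2) (Fin 2) ℤ := !![2, -1; -3, 2]
def smU : Matrix (Fin 2) (Fin 2) ℤ := !![-1, 0; 2, 1]
def smU' : Matrix (Fin 2) (Fin 2) ℤ := !![-1, 0; 2, 1]
def smV : Matrix (Fin 2) (Fin 2) ℤ := !![-2, 1; 1, 0]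
def smV' : Matrix (Fin 2) (Fin 2) ℤ := !![0, 1; 1, 2]
def smd : Fin 2 → ℕ := ![1, 1]
theorem smA_eq : (Matrix.of fun j k : Fin 2 => chevG2.cartan k (chevG2.simple j)) = smA := by decide +kernel
theorem sm_eq : smA = smU * Matrix.diagonal (fun i => (smd i : ℤ)) * smV := by decide +kernel
theorem sm_U : smU' * smU = 1 := by decide +kernel
theorem sm_V : smV * smV' = 1 := by decide +kernel
theorem sm_V' : smV' * smV = 1 := by decide +kernel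
theorem card_diagonal {F : Type*} [Field F] [Fintype F] {q : ℕ} (hq : Fintype.card F = q) :
    (∏ i, Nat.gcd (q - 1) (smd i)) * Nat.card (chevG2.diagonalSubgroup F) = (q - 1) ^ 2 :=
  good.card_diagonal (n := 2) rfl hq smU smU' smV smV' smd (smA_eq.trans sm_eq) sm_U sm_V sm_V'
end TG2

namespace TB2
def smA : Matrix (Fin 2) (Fin 2) ℤ := !![2, -1; -2, 2]
def smU : Matrix (Fin 2) (Fin 2) ℤ := !![-1, 0; 2, 1]
def smU' : Matrix (Fin 2) (Fin 2) ℤ := !![-1, 0; 2, 1]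
def smV : Matrix (Fin 2) (Fin 2) ℤ := !![-2, 1; 1, 0]
def smV' : Matrix (Fin 2) (Fin 2) ℤ := !![0, 1; 1, 2]
def smd : Fin 2 → ℕ := ![1, 2]
theorem smA_eq : (Matrix.of fun j k : Fin 2 => chevB2.cartan k (chevB2.simple j)) = smA := by decide +kernel
theorem sm_eq : smA = smU * Matrix.diagonal (fun i => (smd i : ℤ)) * smV := by decide +kernel
theorem sm_U : smU' * smU = 1 := by decide +kernel
theorem sm_V : smV * smV' = 1 := by decide +kernel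
theorem sm_V' : smV' * smV = 1 := by decide +kernel
theorem card_diagonal {F : Type*} [Field F] [Fintype F] {q : ℕ} (hq : Fintype.card F = q) :
    (∏ i, Nat.gcd (q - 1) (smd i)) * Nat.card (chevB2.diagonalSubgroup F) = (q - 1) ^ 2 :=
  good.card_diagonal (n := 2) rfl hq smU smU' smV smV' smd (smA_eq.trans sm_eq) sm_U sm_V sm_V'
end TB2

namespace TD4
def smA : Matrix (Fin 4) (Fin 4) ℤ := !![2, -1, 0, 0; -1, 2, -1, -1; 0, -1, 2, 0; 0, -1, 0, 2]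
def smU : Matrix (Fin 4) (Fin 4) ℤ := !![-1, 0, 0, 0; 2, -1, 0, 0; -1, 2, -1, 0; -1, 0, 1, 1]
def smU' : Matrix (Fin 4) (Fin 4) ℤ := !![-1, 0, 0, 0; -2, -1, 0, 0; -3, -2, -1, 0; 2, 2, 1, 1]
def smV : Matrix (Fin 4) (Fin 4) ℤ := !![-2, 1, 0, 0; -3, 0, 1, 1; -2, 0, 0, 1; 1, 0, 0, 0]
def smV' : Matrix (Fin 4) (Fin 4) ℤ := !![0, 0, 0, 1; 1, 0, 0, 2; 0, 1, -1, 1; 0, 0, 1, 2]
def smd : Fin 4 → ℕ := ![1, 1, 2, 2]
theorem smA_eq : (Matrix.of fun j k : Fin 4 => chevD4.cartan k (chevD4.simple j)) = smA := by decide +kernel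
theorem sm_eq : smA = smU * Matrix.diagonal (fun i => (smd i : ℤ)) * smV := by decide +kernel
theorem sm_U : smU' * smU = 1 := by decide +kernel
theorem sm_V : smV * smV' = 1 := by decide +kernel
theorem sm_V' : smV' * smV = 1 := by decide +kernel
theorem card_diagonal {F : Type*} [Field F] [Fintype F] {q : ℕ} (hq : Fintype.card F = q) :
    (∏ i, Nat.gcd (q - 1) (smd i)) * Nat.card (chevD4.diagonalSubgroup F) = (q - 1) ^ 4 :=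
  good.card_diagonal (n := 4) rfl hq smU smU' smV smV' smd (smA_eq.trans sm_eq) sm_U sm_V sm_V'
end TD4

namespace TF4
def smA : Matrix (Fin 4) (Fin 4) ℤ := !![2, -1, 0, 0; -1, 2, -1, 0; 0, -2, 2, -1; 0, 0, -1, 2]
def smU : Matrix (Fin 4) (Fin 4) ℤ := !![-1, 0, 0, 0; 2, -1, 0, 0; -2, 2, -1, 0; 0, -1, 2, 1]
def smU' : Matrix (Fin 4) (Fin 4) ℤ := !![-1, 0, 0, 0; -2, -1, 0, 0; -2, -2, -1, 0; 2, 3, 2, 1]
def smV : Matrix (Fin 4) (Fin 4) ℤ := !![-2, 1, 0, 0; -3, 0, 1, 0; -2, 0, 0, 1; 1, 0, 0, 0]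
def smV' : Matrix (Fin 4) (Fin 4) ℤ := !![0, 0, 0, 1; 1, 0, 0, 2; 0, 1, 0, 3; 0, 0, 1, 2]
def smd : Fin 4 → ℕ := ![1, 1, 1, 1]
theorem smA_eq : (Matrix.of fun j k : Fin 4 => chevF4.cartan k (chevF4.simple j)) = smA := by decide +kernel
theorem sm_eq : smA = smU * Matrix.diagonal (fun i => (smd i : ℤ)) * smV := by decide +kernel
theorem sm_U : smU' * smU = 1 := by decide +kernel
theorem sm_V : smV * smV' = 1 := by decide +kernel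
theorem sm_V' : smV' * smV = 1 := by decide +kernel
theorem card_diagonal {F : Type*} [Field F] [Fintype F] {q : ℕ} (hq : Fintype.card F = q) :
    (∏ i, Nat.gcd (q - 1) (smd i)) * Nat.card (chevF4.diagonalSubgroup F) = (q - 1) ^ 4 :=
  good.card_diagonal (n := 4) rfl hq smU smU' smV smV' smd (smA_eq.trans sm_eq) sm_U sm_V sm_V'
end TF4

namespace TE6
def smA : Matrix (Fin 6) (Fin 6) ℤ := !![2, 0, -1, 0, 0, 0; 0, 2, 0, -1, 0, 0; -1, 0, 2, -1, 0, 0; 0, -1, -1, 2, -1, 0; 0, 0, 0, -1, 2, -1; 0, 0, 0, 0, -1, 2]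
def smU : Matrix (Fin 6) (Fin 6) ℤ := !![-1, 0, 0, 0, 0, 0; 0, -1, 0, 0, 0, 0; 2, -1, 0, 0, -1, 0; -1, 2, -1, 0, 0, 0; 0, -1, 2, -1, 0, 0; 0, 0, -1, 2, 4, -1]
def smU' : Matrix (Fin 6) (Fin 6) ℤ := !![-1, 0, 0, 0, 0, 0; 0, -1, 0, 0, 0, 0; 1, -2, 0, -1, 0, 0; 2, -3, 0, -2, -1, 0; -2, 1, -1, 0, 0, 0; -5, 0, -4, -3, -2, -1]
def smV : Matrix (Fin 6) (Fin 6) ℤ := !![-2, 0, 1, 0, 0, 0; 0, -2, 0, 1, 0, 0; 2, -3, 0, 0, 1, 0; 4, -4, 0, 0, 0, 1; -3, 2, 0, 0, 0, 0; -2, 1, 0, 0, 0, 0]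
def smV' : Matrix (Fin 6) (Fin 6) ℤ := !![0, 0, 0, 0, 1, -2; 0, 0, 0, 0, 2, -3; 1, 0, 0, 0, 2, -4; 0, 1, 0, 0, 4, -6; 0, 0, 1, 0, 4, -5; 0, 0, 0, 1, 4, -4]
def smd : Fin 6 → ℕ := ![1, 1, 1, 1, 1, 3]
theorem smA_eq : (Matrix.of fun j k : Fin 6 => chevE6.cartan k (chevE6.simple j)) = smA := by decide +kernel
theorem sm_eq : smA = smU * Matrix.diagonal (fun i => (smd i : ℤ)) * smV := by decide +kernel
theorem sm_U : smU' * smU = 1 := by decide +kernel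
theorem sm_V : smV * smV' = 1 := by decide +kernel
theorem sm_V' : smV' * smV = 1 := by decide +kernel
theorem card_diagonal {F : Type*} [Field F] [Fintype F] {q : ℕ} (hq : Fintype.card F = q) :
    (∏ i, Nat.gcd (q - 1) (smd i)) * Nat.card (chevE6.diagonalSubgroup F) = (q - 1) ^ 6 :=
  good.card_diagonal (n := 6) rfl hq smU smU' smV smV' smd (smA_eq.trans sm_eq) sm_U sm_V sm_V'
end TE6

namespace TE7
def smA : Matrix (Fin 7) (Fin 7) ℤ := !![2, 0, -1, 0, 0, 0, 0; 0, 2, 0, -1, 0, 0, 0; -1, 0, 2, -1, 0, 0, 0; 0, -1, -1, 2, -1, 0, 0; 0, 0, 0, -1, 2, -1, 0; 0, 0, 0, 0, -1, 2, -1; 0, 0, 0, 0, 0, -1, 2]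
def smU : Matrix (Fin 7) (Fin 7) ℤ := !![-1, 0, 0, 0, 0, 0, 0; 0, -1, 0, 0, 0, 0, 0; 2, -1, 0, 0, 0, -1, 0; -1, 2, -1, 0, 0, 0, 0; 0, -1, 2, -1, 0, 0, 0; 0, 0, -1, 2, -1, 0, 0; 0, 0, 0, -1, 2, 4, -1]
def smU' : Matrix (Fin 7) (Fin 7) ℤ := !![-1, 0, 0, 0, 0, 0, 0; 0, -1, 0, 0, 0, 0, 0; 1, -2, 0, -1, 0, 0, 0; 2, -3, 0, -2, -1, 0, 0; 3, -4, 0, -3, -2, -1, 0; -2, 1, -1, 0, 0, 0, 0; -4, -1, -4, -4, -3, -2, -1]
def smV : Matrix (Fin 7) (Fin 7) ℤ := !![-2, 0, 1, 0, 0, 0, 0; 0, -2, 0, 1, 0, 0, 0; 2, -3, 0, 0, 1, 0, 0; 4, -4, 0, 0, 0, 1, 0; 6, -5, 0, 0, 0, 0, 1; -3, 2, 0, 0, 0, 0, 0; -2, 1, 0, 0, 0, 0, 0]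
def smV' : Matrix (Fin 7) (Fin 7) ℤ := !![0, 0, 0, 0, 0, 1, -2; 0, 0, 0, 0, 0, 2, -3; 1, 0, 0, 0, 0, 2, -4; 0, 1, 0, 0, 0, 4, -6; 0, 0, 1, 0, 0, 4, -5; 0, 0, 0, 1, 0, 4, -4; 0, 0, 0, 0, 1, 4, -3]
def smd : Fin 7 → ℕ := ![1, 1, 1, 1, 1, 1, 2]
theorem smA_eq : (Matrix.of fun j k : Fin 7 => chevE7.cartan k (chevE7.simple j)) = smA := by decide +kernel
theorem sm_eq : smA = smU * Matrix.diagonal (fun i => (smd i : ℤ)) * smV := by decide +kernel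
theorem sm_U : smU' * smU = 1 := by decide +kernel
theorem sm_V : smV * smV' = 1 := by decide +kernel
theorem sm_V' : smV' * smV = 1 := by decide +kernel
theorem card_diagonal {F : Type*} [Field F] [Fintype F] {q : ℕ} (hq : Fintype.card F = q) :
    (∏ i, Nat.gcd (q - 1) (smd i)) * Nat.card (chevE7.diagonalSubgroup F) = (q - 1) ^ 7 :=
  good.card_diagonal (n := 7) rfl hq smU smU' smV smV' smd (smA_eq.trans sm_eq) sm_U sm_V sm_V'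
end TE7

namespace TE8
def smA : Matrix (Fin 8) (Fin 8) ℤ := !![2, 0, -1, 0, 0, 0, 0, 0; 0, 2, 0, -1, 0, 0, 0, 0; -1, 0, 2, -1, 0, 0, 0, 0; 0, -1, -1, 2, -1, 0, 0, 0; 0, 0, 0, -1, 2, -1, 0, 0; 0, 0, 0, 0, -1, 2, -1, 0; 0, 0, 0, 0, 0, -1, 2, -1; 0, 0, 0, 0, 0, 0, -1, 2]
def smU : Matrix (Fin 8) (Fin 8) ℤ := !![-1, 0, 0, 0, 0, 0, 0, 0; 0, -1, 0, 0, 0, 0, 0, 0; 2, -1, 0, 0, 0, 0, -1, 0; -1, 2, -1, 0, 0, 0, 0, 0; 0, -1, 2, -1, 0, 0, 0, 0; 0, 0, -1, 2, -1, 0, 0, 0; 0, 0, 0, -1, 2, -1, 0, 0; 0, 0, 0, 0, -1, 2, 4, -1]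
def smU' : Matrix (Fin 8) (Fin 8) ℤ := !![-1, 0, 0, 0, 0, 0, 0, 0; 0, -1, 0, 0, 0, 0, 0, 0; 1, -2, 0, -1, 0, 0, 0, 0; 2, -3, 0, -2, -1, 0, 0, 0; 3, -4, 0, -3, -2, -1, 0, 0; 4, -5, 0, -4, -3, -2, -1, 0; -2, 1, -1, 0, 0, 0, 0, 0; -3, -2, -4, -5, -4, -3, -2, -1]
def smV : Matrix (Fin 8) (Fin 8) ℤ := !![-2, 0, 1, 0, 0, 0, 0, 0; 0, -2, 0, 1, 0, 0, 0, 0; 2, -3, 0, 0, 1, 0, 0, 0; 4, -4, 0, 0, 0, 1, 0, 0; 6, -5, 0, 0, 0, 0, 1, 0; 8, -6, 0, 0, 0, 0, 0, 1; -3, 2, 0, 0, 0, 0, 0, 0; -2, 1, 0, 0, 0, 0, 0, 0]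
def smV' : Matrix (Fin 8) (Fin 8) ℤ := !![0, 0, 0, 0, 0, 0, 1, -2; 0, 0, 0, 0, 0, 0, 2, -3; 1, 0, 0, 0, 0, 0, 2, -4; 0, 1, 0, 0, 0, 0, 4, -6; 0, 0, 1, 0, 0, 0, 4, -5; 0, 0, 0, 1, 0, 0, 4, -4; 0, 0, 0, 0, 1, 0, 4, -3; 0, 0, 0, 0, 0, 1, 4, -2]
def smd : Fin 8 → ℕ := ![1, 1, 1, 1, 1, 1, 1, 1]
theorem smA_eq : (Matrix.of fun j k : Fin 8 => chevE8.cartan k (chevE8.simple j)) = smA := by decide +kernel
theorem sm_eq : smA = smU * Matrix.diagonal (fun i => (smd i : ℤ)) * smV := by decide +kernel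
theorem sm_U : smU' * smU = 1 := by decide +kernel
theorem sm_V : smV * smV' = 1 := by decide +kernel
theorem sm_V' : smV' * smV = 1 := by decide +kernel
theorem card_diagonal {F : Type*} [Field F] [Fintype F] {q : ℕ} (hq : Fintype.card F = q) :
    (∏ i, Nat.gcd (q - 1) (smd i)) * Nat.card (chevE8.diagonalSubgroup F) = (q - 1) ^ 8 :=
  good.card_diagonal (n := 8) rfl hq smU smU' smV smV' smd (smA_eq.trans sm_eq) sm_U sm_V sm_V'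
end TE8

end Cfsg.Agent.H6
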