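import Cfsg.Agent.H6.TwPerfTab

/-!
Simplicity of the twisted groups.
-/

set_option autoImplicit false
set_option linter.unusedSectionVars false
set_option maxHeartbeats 400000
set_option maxRecDepth 100000

namespace Cfsg.Agent.H6
open Cfsg.Lie
open scoped Matrix

section
variable {D : ChevalleyDatum} {N : ℕ} {η : ℕ → ℕ → ℤ} {rc : ℕ → ℕ → ℤ} {F : Type*} [Field F]
  {m : ℕ} {rho inv lam pi : ℕ → ℕ} {ep : ℕ → ℤ} {e : ℕ} {σ : ↥(D.group F) →* ↥(D.group F)}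
  {ι : Type} {L : ι → List (Fin D.rank)}

namespace TwGrp
variable {h : TwCtx D N η rc F m rho inv lam pi ep e σ} {G₁ : Subgroup (GL D.Idx F)} (hT : TwGrp h L G₁)

theorem irreducible (par : ι → ι) (root : ι) (k : ℕ)
    (hpar : ∀ i, i = par i ∨ h.wJ L i * h.wJ L (par i) ≠ h.wJ L (par i) * h.wJ L i) (hk : ∀ i, par^[k] i = root) :
    hT.bnPair₁.Irreducible := by
  intro J hJ hJ1 hJ2
  obtain ⟨I, hI⟩ : ∃ I : Set ι, I = {i : ι | (⟨hT.nJ i, (hT.nJ_mem i).2⟩ : ↥G₁) ∈ J} := ⟨_, rfl⟩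
  have hS : ∀ i : ι, (⟨hT.nJ i, (hT.nJ_mem i).2⟩ : ↥G₁) ∈ hT.bnPair₁.S := fun i => ⟨i, rfl⟩
  have hS' : ∀ x ∈ hT.bnPair₁.S, ∃ i : ι, x = (⟨hT.nJ i, (hT.nJ_mem i).2⟩ : ↥G₁) := by
    rintro ⟨x, hx⟩ ⟨i, hi⟩
    exact ⟨i, Subtype.ext hi⟩
  have hI1 : I.Nonempty := by
    obtain ⟨x, hx⟩ := hJ1
    obtain ⟨i, rfl⟩ := hS' x (hJ hx)
    exact ⟨i, by rw [hI]; exact hx⟩
  have hI2 : Iᶜ.Nonempty := by
    obtain ⟨x, hx, hx'⟩ := hJ2
    obtain ⟨i, rfl⟩ := hS' x hx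
    exact ⟨i, by rw [hI]; exact hx'⟩
  have hcomm : ∀ i j : ι, h.wJ L i * h.wJ L j ≠ h.wJ L j * h.wJ L i →
      (⟨hT.nJ i, (hT.nJ_mem i).2⟩ : ↥G₁) * ⟨hT.nJ j, (hT.nJ_mem j).2⟩ * ⟨hT.nJ i, (hT.nJ_mem i).2⟩⁻¹ *
        ⟨hT.nJ j, (hT.nJ_mem j).2⟩⁻¹ ∉ hT.bnPair₁.B := by
    intro i j hij hc
    have hc' : hT.nJ i * hT.nJ j * (hT.nJ i)⁻¹ * (hT.nJ j)⁻¹ ∈ D.borelSubgroup F := hc.1
    obtain ⟨χ, hm⟩ := hT.nJ_mon i
    obtain ⟨χ', hm'⟩ := hT.nJ_mon j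
    have h1 := h.G.mon_borel h.E (((hm.mul hm').mul hm.inv).mul hm'.inv) hc'
    rw [mul_inv_eq_one, mul_inv_eq_iff_eq_mul] at h1
    exact hij h1
  rcases conn_of_par par root k hk I hI1 hI2 with ⟨i, h1, h2⟩ | ⟨i, h1, h2⟩
  · have h3 : h.wJ L i * h.wJ L (par i) ≠ h.wJ L (par i) * h.wJ L i := by
      rcases hpar i with h | h
      · rw [← h] at h2; exact absurd h1 h2
      · exact h
    rw [hI] at h1 h2
    exact ⟨_, h1, _, ⟨hS _, h2⟩, hcomm _ _ h3⟩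
  · have h3 : h.wJ L (par i) * h.wJ L i ≠ h.wJ L i * h.wJ L (par i) := by
      rcases hpar i with h | h
      · rw [← h] at h2; exact absurd h2 h1
      · exact h.symm
    rw [hI] at h1 h2
    exact ⟨_, h2, _, ⟨hS _, h1⟩, hcomm _ _ h3⟩

include hT in
theorem simple_group (par : ι → ι) (root : ι) (k : ℕ)
    (hpar : ∀ i, i = par i ∨ h.wJ L i * h.wJ L (par i) ≠ h.wJ L (par i) * h.wJ L i) (hk : ∀ i, par^[k] i = root)
    (hperf : commutator ↥G₁ = ⊤) : IsSimpleGroup ↥G₁ ∧ ¬ IsMulCommutative ↥G₁ := by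
  have : Nontrivial ↥G₁ := by
    obtain ⟨x, hx, hx1⟩ := hT.exists_ne root
    exact ⟨⟨⟨x, hT.root root hx⟩, 1, fun h => hx1 (congrArg Subtype.val h)⟩⟩
  exact ⟨S0319.result hT.bnPair₁ (hT.irreducible par root k hpar hk) hT.borel₁_solvable hperf hT.core₁, not_comm_of_perfect hperf⟩

end TwGrp
end

namespace WE6
variable {K : Type*} [Field K] {q : ℕ}
def par : Fin 4 → Fin 4 := ![0, 0, 1, 2]
theorem parc : ∀ i : Fin 4, i = par i ∨ chkId 72 TE6.P (((L i).map Fin.val ++ (L (par i)).map Fin.val) ++ ((L i).map Fin.val ++ (L (par i)).map Fin.val)) = false := by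
  decide +kernel
theorem simple [Fintype K] (hq : IsPrimePow q) (hK : Fintype.card K = q ^ 2) : IsSimpleGroup ↥(twistedE6 K q) ∧ ¬ IsMulCommutative ↥(twistedE6 K q) := by
  obtain ⟨σ, h⟩ := exists_ctx (K := K) (by norm_num : (2 : ℕ) ≠ 0) hq hK
  have h2 : ∀ i : Fin 4, par^[3] i = 0 := by decide +kernel
  refine (grp h (pow_pow hK)).simple_group par 0 3 ?_ h2 (perfect hq hK)
  intro i
  exact (parc i).imp_right fun h1 => TE6.chk.noncomm h.G (LL i) (LL (par i)) h1 (h.wJ_sq orbL i) (h.wJ_sq orbL (par i))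
end WE6

namespace WD4a
variable {K : Type*} [Field K] {q : ℕ}
def par : Fin 2 → Fin 2 := ![0, 0]
theorem parc : ∀ i : Fin 2, i = par i ∨ chkId 24 TD4.P (((L i).map Fin.val ++ (L (par i)).map Fin.val) ++ ((L i).map Fin.val ++ (L (par i)).map Fin.val)) = false := by
  decide +kernel
theorem simple [Fintype K] (hq : IsPrimePow q) (hK : Fintype.card K = q ^ 3) : IsSimpleGroup ↥(twistedD4 K q) ∧ ¬ IsMulCommutative ↥(twistedD4 K q) := by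
  obtain ⟨σ, h⟩ := exists_ctx (K := K) (by norm_num : (3 : ℕ) ≠ 0) hq hK
  have h2 : ∀ i : Fin 2, par^[1] i = 0 := by decide +kernel
  refine (grp h (pow_pow hK)).simple_group par 0 1 ?_ h2 (perfect hq hK)
  intro i
  exact (parc i).imp_right fun h1 => TD4.chk.noncomm h.G (LL i) (LL (par i)) h1 (h.wJ_sq orbL i) (h.wJ_sq orbL (par i))
end WD4a

end Cfsg.Agent.H6
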