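import Cfsg.Agent.H6.TwReeE
import Cfsg.Agent.H6.TwSimple
import Mathlib.NumberTheory.LegendreSymbol.QuadraticChar.Basic

/-!
The Ree groups 2G2(q): order, perfectness, simplicity.
-/

set_option autoImplicit false
set_option linter.unusedSectionVars false
set_option maxHeartbeats 400000
set_option maxRecDepth 10000

namespace Cfsg.Agent.H6
open Cfsg.Lie
open scoped Matrix

namespace WG2

section
variable {K : Type*} [Field K] {e : ℕ}

/-- every unit is a square or minus a square -/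
theorem sq_or [Fintype K] {m : ℕ} (hK : Fintype.card K = 3 ^ (2 * m + 1)) (x : Kˣ) : ∃ y : Kˣ, x = y ^ 2 ∨ x = -1 * y ^ 2 := by
  classical
  have h4 : Fintype.card K % 4 = 3 := by
    rw [hK, pow_succ, pow_mul, Nat.mul_mod, Nat.pow_mod]
    norm_num
  have h1 : ¬ IsSquare (-1 : K) := by
    rw [FiniteField.isSquare_neg_one_iff, h4]; simp
  have key : ∀ z : K, z ≠ 0 → IsSquare z → ∃ y : Kˣ, z = y ^ 2 := by
    rintro z hz ⟨r, hr⟩
    have hr0 : r ≠ 0 := by rintro rfl; exact hz (by rw [hr, zero_mul])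
    exact ⟨Units.mk0 r hr0, by rw [hr, pow_two]; rfl⟩
  by_cases hx : IsSquare (x : K)
  · obtain ⟨y, hy⟩ := key x x.ne_zero hx
    exact ⟨y, Or.inl (Units.ext (by rw [hy, Units.val_pow_eq_pow_val]))⟩
  · have h2 : IsSquare (-1 * (x : K)) := by
      have e1 := quadraticChar_neg_one_iff_not_isSquare.2 h1
      have e2 := quadraticChar_neg_one_iff_not_isSquare.2 hx
      have e3 : quadraticChar K (-1 * (x : K)) = 1 := by rw [map_mul, e1, e2]; norm_num
      exact (quadraticChar_one_iff_isSquare (mul_ne_zero (neg_ne_zero.2 one_ne_zero) x.ne_zero)).1 e3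
    obtain ⟨y, hy⟩ := key _ (mul_ne_zero (neg_ne_zero.2 one_ne_zero) x.ne_zero) h2
    refine ⟨y, Or.inr (Units.ext ?_)⟩
    rw [Units.val_mul, Units.val_neg, Units.val_one, Units.val_pow_eq_pow_val, ← hy]
    ring

theorem hh_mem [Fintype K] {m : ℕ} (hK : Fintype.card K = 3 ^ (2 * m + 1)) (hf : Fl K e) (x : Kˣ) : hh K e x ∈ twistedG2 K e := by
  obtain ⟨y, hy⟩ := sq_or hK x
  have h1 : hh K e (y ^ 2) ∈ twistedG2 K e := by rw [sq_eq hf y]; exact hh_sq hf _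
  rcases hy with rfl | rfl
  · exact h1
  · rw [hh_mul]; exact mul_mem (hh_neg_one_mem hf) h1

theorem car_eq : ∀ j k : Fin 2, chevG2.cartan k (chevG2.simple j) = (![![2, -1], ![-3, 2]] : Fin 2 → Fin 2 → ℤ) j k := by
  decide +kernel

theorem ker_PhiH {x : Fin 2 → Kˣ} (hx : PhiH chevG2 K 2 x = 1) : x = 1 := by
  rw [← MonoidHom.mem_ker, TG2.good.mem_ker_PhiH (n := 2) rfl, funext_iff] at hx
  unfold zact at hx
  have h0 := hx 0
  have h1 := hx 1
  rw [Fin.sum_univ_two] at h0 h1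
  change chevG2.cartan ((0 : Fin 2) : ℕ) (chevG2.simple ((0 : Fin 2) : ℕ)) • Additive.ofMul (x 0) +
    chevG2.cartan ((1 : Fin 2) : ℕ) (chevG2.simple ((0 : Fin 2) : ℕ)) • Additive.ofMul (x 1) = 0 at h0
  change chevG2.cartan ((0 : Fin 2) : ℕ) (chevG2.simple ((1 : Fin 2) : ℕ)) • Additive.ofMul (x 0) +
    chevG2.cartan ((1 : Fin 2) : ℕ) (chevG2.simple ((1 : Fin 2) : ℕ)) • Additive.ofMul (x 1) = 0 at h1
  rw [car_eq, car_eq] at h0 h1
  change (2 : ℤ) • Additive.ofMul (x 0) + (-1 : ℤ) • Additive.ofMul (x 1) = 0 at h0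
  change (-3 : ℤ) • Additive.ofMul (x 0) + (2 : ℤ) • Additive.ofMul (x 1) = 0 at h1
  have e0 : Additive.ofMul (x 0) = 0 := by
    have : Additive.ofMul (x 0) = (2 : ℤ) • ((2 : ℤ) • Additive.ofMul (x 0) + (-1 : ℤ) • Additive.ofMul (x 1)) +
      ((-3 : ℤ) • Additive.ofMul (x 0) + (2 : ℤ) • Additive.ofMul (x 1)) := by module
    rw [this, h0, h1, smul_zero, add_zero]
  have e1 : Additive.ofMul (x 1) = 0 := by
    have : Additive.ofMul (x 1) = (3 : ℤ) • ((2 : ℤ) • Additive.ofMul (x 0) + (-1 : ℤ) • Additive.ofMul (x 1)) +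
      (2 : ℤ) • ((-3 : ℤ) • Additive.ofMul (x 0) + (2 : ℤ) • Additive.ofMul (x 1)) := by module
    rw [this, h0, h1, smul_zero, smul_zero, add_zero]
  funext i
  fin_cases i
  · exact Additive.ofMul.injective e0
  · exact Additive.ofMul.injective e1

theorem PhiH_inj {x y : Fin 2 → Kˣ} (h : PhiH chevG2 K 2 x = PhiH chevG2 K 2 y) : x = y := by
  have h1 : PhiH chevG2 K 2 (x * y⁻¹) = 1 := by rw [map_mul, map_inv, h, mul_inv_cancel]
  exact mul_inv_eq_one.1 (ker_PhiH h1)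

variable {σ : ↥(chevG2.group K) →* ↥(chevG2.group K)} (h : Ctx K e σ) (hf : Fl K e)

/-- the swap -/
def sw : Fin 2 → Fin 2 := ![1, 0]

include h in
theorem sgf_PhiH (c : Fin 2 → Kˣ) : sgf σ (PhiH chevG2 K 2 c) = PhiH chevG2 K 2 ![c 1 ^ e, c 0 ^ (3 * e)] := by
  refine h.sgf_PhiH (c := c) (c' := (![c 1 ^ e, c 0 ^ (3 * e)] : Fin 2 → Kˣ)) ?_
  have key : ∀ k : Fin 2, (![c 1 ^ e, c 0 ^ (3 * e)] : Fin 2 → Kˣ) (sw k) = c k ^ (lamF 3 LT (chevG2.simple k) * e) := by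
    intro k
    fin_cases k
    · change c 0 ^ (3 * e) = c 0 ^ (lamF 3 LT (chevG2.simple 0) * e)
      rw [show lamF 3 LT (chevG2.simple 0) = 3 by decide +kernel]
    · change c 1 ^ e = c 1 ^ (lamF 3 LT (chevG2.simple 1) * e)
      rw [show lamF 3 LT (chevG2.simple 1) = 1 by decide +kernel, one_mul]
  have hp : ∀ k : Fin 2, sP PT k = (sw k : ℕ) := by decide +kernel
  intro k
  have h1 : h.pF k = sw k := Fin.ext (hp k)
  rw [h1]
  exact key k

include h hf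

theorem diag_iff [Fintype K] {m : ℕ} (hK : Fintype.card K = 3 ^ (2 * m + 1)) {g : GL chevG2.Idx K} :
    g ∈ chevG2.diagonalSubgroup K ⊓ twistedG2 K e ↔ ∃ x : Kˣ, g = hh K e x := by
  constructor
  · rintro ⟨h1, h2⟩
    rw [SetLike.mem_coe, ← TG2.good.range_PhiH (n := 2) rfl] at h1
    obtain ⟨c, rfl⟩ := h1
    have h3 := (le_fix h hf h2).2
    rw [sgf_PhiH h] at h3
    have h4 := congrFun (PhiH_inj h3) 0
    change c 1 ^ e = c 0 at h4
    refine ⟨c 1, ?_⟩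
    unfold hh
    congr 1
    funext i
    fin_cases i
    · exact h4.symm
    · rfl
  · rintro ⟨x, rfl⟩
    refine Subgroup.mem_inf.2 ⟨?_, hh_mem hK hf x⟩
    rw [← TG2.good.range_PhiH (n := 2) rfl]
    exact ⟨_, rfl⟩

theorem card_diag [Fintype K] {m : ℕ} (hK : Fintype.card K = 3 ^ (2 * m + 1)) :
    Nat.card ↥(chevG2.diagonalSubgroup K ⊓ twistedG2 K e) = 3 ^ (2 * m + 1) - 1 := by
  let f : Kˣ → ↥(chevG2.diagonalSubgroup K ⊓ twistedG2 K e) := fun x => ⟨hh K e x, (diag_iff h hf hK).2 ⟨x, rfl⟩⟩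
  have hb : Function.Bijective f := by
    constructor
    · intro x y he
      have h1 := congrFun (PhiH_inj (congrArg Subtype.val he)) 1
      exact h1
    · rintro ⟨g, hg⟩
      obtain ⟨x, rfl⟩ := (diag_iff h hf hK).1 hg
      exact ⟨x, rfl⟩
  rw [← Nat.card_congr (Equiv.ofBijective f hb), Nat.card_units, Nat.card_eq_fintype_card, hK]

theorem card_group [Fintype K] {m : ℕ} (hK : Fintype.card K = 3 ^ (2 * m + 1)) :
    Nat.card ↥(twistedG2 K e) = (3 ^ (2 * m + 1)) ^ 3 * (3 ^ (2 * m + 1) - 1) * ((3 ^ (2 * m + 1)) ^ 3 + 1) := by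
  rw [(grp h hf).card_group₁, card_pos h hf, card_diag h hf hK, hK]
  congr 1
  have h2 : (1 : h.Wr) ≠ ⟨h.wJ LL 0, h.wJ_mem orbL 0⟩ := by
    intro h1
    have h1' : h.wJ LL 0 = 1 := (congrArg Subtype.val h1).symm
    have h3 := Um_eq h
    rw [h1', h.G.Um_one] at h3
    have h4 : 6 ∈ posS chevG2 6 := ⟨by norm_num, by rw [nr]; norm_num⟩
    rw [← h3] at h4
    exact h4
  have hu : (Set.univ : Set h.Wr) = {1, ⟨h.wJ LL 0, h.wJ_mem orbL 0⟩} := by
    ext w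
    simp only [Set.mem_insert_iff, Set.mem_singleton_iff, Set.mem_univ, true_iff]
    rcases (mem_Wr_iff h).1 w.2 with h3 | h3
    · left; exact Subtype.ext h3
    · right; exact Subtype.ext h3
  rw [← finsum_mem_univ, hu, finsum_mem_pair h2]
  have e1 : Nat.card ↥(US (xg chevG2 K) (h.G.Um (1 : h.Wr).1) ⊓ fixS σ) = 1 := by
    have : US (xg chevG2 K) (h.G.Um (1 : h.Wr).1) ⊓ fixS σ = ⊥ := by
      rw [eq_bot_iff]
      intro g hg
      have h5 : g ∈ US (xg chevG2 K) (h.G.Um (1 : h.G.W)) := hg.1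
      rw [h.G.Um_one] at h5
      have h6 : US (xg chevG2 K) (∅ : Set ℕ) = ⊥ := by
        unfold US
        rw [Subgroup.closure_eq_bot_iff]
        rintro x ⟨r, hr, -⟩
        exact absurd hr (Set.notMem_empty r)
      rw [h6] at h5
      exact h5
    rw [this]
    exact Subgroup.card_bot
  have e2 : Nat.card ↥(US (xg chevG2 K) (h.G.Um (⟨h.wJ LL 0, h.wJ_mem orbL 0⟩ : h.Wr).1) ⊓ fixS σ) = (3 ^ (2 * m + 1)) ^ 3 := by
    change Nat.card ↥(US (xg chevG2 K) (h.G.Um (h.wJ LL 0)) ⊓ fixS σ) = _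
    have h7 : US (xg chevG2 K) (posS chevG2 6) = chevG2.posUnipotent K := by
      rw [TG2.good.posUnipotent_eq_US]; rfl
    rw [Um_eq h, h7, ← (grp h hf).pos_inf, card_pos h hf, hK]
  rw [e1, e2, add_comm]

/-! ### perfectness -/

omit h hf in
theorem cars : ∀ s : Fin 12, 6 ≤ (s : ℕ) → (chevG2.cartan 0 s, chevG2.cartan 1 s) ∈ ([(-3, 2), (2, -1), (-1, 1), (1, 0), (3, -1), (0, 1)] : List (ℤ × ℤ)) := by
  decide +kernel

theorem U_dS [Fintype K] {m : ℕ} (hm : 1 ≤ m) (he : e = 3 ^ m) (hK : Fintype.card K = 3 ^ (2 * m + 1)) :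
    chevG2.posUnipotent K ⊓ fixS σ ≤ dS (twistedG2 K e) := by
  obtain ⟨ζ, hζ⟩ := IsCyclic.exists_generator (α := Kˣ)
  have hord : orderOf ζ = 3 ^ (2 * m + 1) - 1 := by
    rw [orderOf_eq_card_of_forall_mem_zpowers hζ, Nat.card_units, Nat.card_eq_fintype_card, hK]
  have hcard : (3 : ℤ) ^ (2 * m + 1) = 3 * e * e := by rw [he]; push_cast; ring
  have he3 : (3 : ℤ) ≤ e := by
    rw [he]
    have : 3 ^ 1 ≤ 3 ^ m := Nat.pow_le_pow_right (by norm_num) hm
    exact_mod_cast this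
  have h7 : US (xg chevG2 K) (posS chevG2 6) = chevG2.posUnipotent K := by
    rw [TG2.good.posUnipotent_eq_US]; rfl
  have key := (grp h hf).torus_dS (j := 0) (hh_mem hK hf ζ) (TG2.good.mon_PhiH (![ζ ^ e, ζ] : Fin 2 → Kˣ)) ?_
  · rw [Um_eq h, h7] at key
    exact key
  · intro r hr hχ
    have hr6 : 6 ≤ (r : ℕ) := (h.G.mem_Um.1 hr).1
    have hr12 : (r : ℕ) < 12 := lt_of_lt_of_eq r.2 nr
    have h1 := cars ⟨r, hr12⟩ hr6
    change (∏ k : Fin 2, (![ζ ^ e, ζ] : Fin 2 → Kˣ) k ^ chevG2.cartan k r) = 1 at hχ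
    rw [Fin.prod_univ_two] at hχ
    change (ζ ^ e) ^ chevG2.cartan 0 r * ζ ^ chevG2.cartan 1 r = 1 at hχ
    change (chevG2.cartan 0 r, chevG2.cartan 1 r) ∈ _ at h1
    generalize chevG2.cartan 0 r = a at h1 hχ
    generalize chevG2.cartan 1 r = b at h1 hχ
    have h2 : ζ ^ ((e : ℤ) * a + b) = 1 := by
      rw [zpow_add, zpow_mul, zpow_natCast]; exact hχ
    have h3 := orderOf_dvd_iff_zpow_eq_one.2 h2
    rw [hord] at h3
    have h4 : ((3 ^ (2 * m + 1) - 1 : ℕ) : ℤ) = 3 * e * e - 1 := by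
      rw [Nat.cast_sub (Nat.one_le_pow _ _ (by norm_num)), Nat.cast_pow]
      push_cast
      rw [hcard]
    rw [h4] at h3
    have h5 : ∀ z : ℤ, 3 * (e : ℤ) * e - 1 ∣ z → z ≠ 0 → |z| < 3 * (e : ℤ) * e - 1 → False := by
      intro z hz hz0 hz1
      exact hz0 (Int.eq_zero_of_abs_lt_dvd hz hz1)
    simp only [List.mem_cons, Prod.mk.injEq, List.not_mem_nil, or_false] at h1
    have h6 : (e : ℤ) * e ≥ 3 * e := by nlinarith
    rcases h1 with ⟨rfl, rfl⟩ | ⟨rfl, rfl⟩ | ⟨rfl, rfl⟩ | ⟨rfl, rfl⟩ | ⟨rfl, rfl⟩ | ⟨rfl, rfl⟩ <;>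
      refine h5 _ h3 (by omega) ?_ <;> rw [abs_lt] <;> constructor <;> nlinarith

theorem perfect [Fintype K] {m : ℕ} (hm : 1 ≤ m) (he : e = 3 ^ m) (hK : Fintype.card K = 3 ^ (2 * m + 1)) :
    commutator ↥(twistedG2 K e) = ⊤ := by
  have hU := U_dS h hf hm he hK
  have h7 : US (xg chevG2 K) (posS chevG2 6) = chevG2.posUnipotent K := by
    rw [TG2.good.posUnipotent_eq_US]; rfl
  apply commutator_eq_top
  apply gen_le h.G
  rintro w ⟨t, u, v, rfl | rfl⟩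
  · rw [← RE_wg]
    exact hU ((fix_iff h hf).2 ⟨t, u, v, rfl⟩)
  · rw [← RE_wg']
    refine (grp h hf).neg_dS (j := 0) ?_ ?_ (NF_fix h hf false t u v)
    · rw [Um_eq h, h7]; exact hU
    · have hS : ∀ i < 6, i ∈ {r | ∃ hr : r < chevG2.nroots, (h.G.ngf ⟨r, hr⟩ : ℕ) ∈ h.G.Um (h.wJ LL 0)} := by
        intro i hi
        have hi' : i < chevG2.nroots := by rw [nr]; omega
        refine ⟨hi', ?_⟩
        rw [Um_eq h]
        exact ⟨(h.G.pos_ngf_iff _).2 hi, Fin.is_lt _⟩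
      unfold RE NF ab4
      refine mul_mem (mul_mem ?_ ?_) (mul_mem (mul_mem (mul_mem ?_ ?_) ?_) ?_)
      · exact mem_US (hS 4 (by norm_num)) _
      · exact mem_US (hS 5 (by norm_num)) _
      · exact mem_US (hS 3 (by norm_num)) _
      · exact mem_US (hS 2 (by norm_num)) _
      · exact mem_US (hS 1 (by norm_num)) _
      · exact mem_US (hS 0 (by norm_num)) _

theorem simple [Fintype K] {m : ℕ} (hm : 1 ≤ m) (he : e = 3 ^ m) (hK : Fintype.card K = 3 ^ (2 * m + 1)) :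
    IsSimpleGroup ↥(twistedG2 K e) ∧ ¬ IsMulCommutative ↥(twistedG2 K e) := by
  refine (grp h hf).simple_group (fun _ => 0) 0 1 ?_ (fun i => Subsingleton.elim _ _) (perfect h hf hm he hK)
  intro i
  left; exact Subsingleton.elim _ _

end
end WG2
end Cfsg.Agent.H6
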