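import Mathlib

/-! casting aux for order formulas -/

namespace Cfsg.Agent.H6

theorem cast_pow_sub_one {q : ℕ} (h : 1 ≤ q) (d : ℕ) : ((q ^ d - 1 : ℕ) : ℤ) = (q : ℤ) ^ d - 1 := by
  rw [Nat.cast_sub (Nat.one_le_pow _ _ h)]
  push_cast
  rfl

end Cfsg.Agent.H6
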