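import Cfsg.Agent.H6.ChevBN
import Cfsg.Agent.H6.ChevComm
import Cfsg.Agent.H6.ChevExtTab

/-!
Perfectness of the Chevalley groups.
-/

set_option autoImplicit false
set_option linter.unusedSectionVars false
set_option maxHeartbeats 400000
set_option maxRecDepth 10000

namespace Cfsg.Agent.H6
open Cfsg.Lie

section dS
variable {A : Type*} [Group A]

/-- the derived subgroup of a subgroup -/
def dS (G : Subgroup A) : Subgroup A := (commutator ↥G).map G.subtype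

theorem dS_le (G : Subgroup A) : dS G ≤ G := by
  rintro _ ⟨x, _, rfl⟩
  exact x.2

theorem comm_mem_dS {G : Subgroup A} {g h : A} (hg : g ∈ G) (hh : h ∈ G) : g * h * g⁻¹ * h⁻¹ ∈ dS G := by
  exact ⟨(⟨g, hg⟩ : ↥G) * ⟨h, hh⟩ * ⟨g, hg⟩⁻¹ * ⟨h, hh⟩⁻¹, Subgroup.commutator_mem_commutator (Subgroup.mem_top _) (Subgroup.mem_top _), rfl⟩

theorem conj_mem_dS {G : Subgroup A} {g x : A} (hg : g ∈ G) (hx : x ∈ dS G) : g * x * g⁻¹ ∈ dS G := by
  obtain ⟨y, hy, rfl⟩ := hx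
  exact ⟨⟨g, hg⟩ * y * ⟨g, hg⟩⁻¹, (inferInstance : (commutator ↥G).Normal).conj_mem y hy ⟨g, hg⟩, rfl⟩

theorem commutator_eq_top {G : Subgroup A} (h : G ≤ dS G) : commutator ↥G = ⊤ := by
  rw [eq_top_iff]
  rintro ⟨x, hx⟩ -
  obtain ⟨y, hy, hxy⟩ := h hx
  have : y = ⟨x, hx⟩ := Subtype.ext hxy
  rwa [this] at hy

end dS

section
variable {D : ChevalleyDatum} {N : ℕ} {η : ℕ → ℕ → ℤ} {rc : ℕ → ℕ → ℤ} {F : Type*} [Field F]
namespace Good
variable (hG : Good D N η rc) (hE : Ext D rc)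
include hG hE

theorem commWord_mem {G : Subgroup (GL D.Idx F)} {r s : ℕ} (hr : r < D.nroots) (hs : s < D.nroots) (hrs : s ≠ r) (hneg : s ≠ D.neg r) {t u : F}
    (h1 : xg D F r t ∈ G) (h2 : xg D F s u ∈ G) :
    wg D F (D.commWord F r s t u) ∈ dS G := by
  have h3 := hG.comm hE hr hs hrs hneg t u
  have h4 : wg D F (D.commWord F r s t u) = (xg D F s u)⁻¹ * (xg D F r t)⁻¹ * (xg D F s u)⁻¹⁻¹ * (xg D F r t)⁻¹⁻¹ := by
    rw [inv_inv, inv_inv, mul_assoc _ (xg D F s u), h3]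
    group
  rw [h4]
  exact comm_mem_dS (inv_mem h2) (inv_mem h1)

/-- a pure commutator -/
theorem pure_mem {G : Subgroup (GL D.Idx F)} {r s k : ℕ} {c : ℤ} (hr : r < D.nroots) (hs : s < D.nroots) (hrs : s ≠ r) (hneg : s ≠ D.neg r)
    (hc : c = 1 ∨ c = -1) (hT : D.commTerms r s = [(k, c, 1, 1)]) {t u : F} (h1 : xg D F r t ∈ G) (h2 : xg D F s u ∈ G) :
    xg D F k (t * u) ∈ dS G := by
  have h3 := hG.commWord_mem hE (G := G) hr hs hrs hneg h1 h2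
  unfold ChevalleyDatum.commWord wg at h3
  rw [hT] at h3
  simp only [List.map_cons, List.map_nil, List.prod_cons, List.prod_nil, mul_one, pow_one] at h3
  rcases hc with rfl | rfl
  · have h4 := inv_mem h3
    rw [← hG.xg_neg] at h4
    have : -(((1 : ℤ) : F) * -t * u) = t * u := by push_cast; ring
    rwa [this] at h4
  · have : (((-1 : ℤ) : F) * -t * u) = t * u := by push_cast; ring
    rwa [this] at h3

/-- a mixed commutator -/
theorem mixed_mem {G : Subgroup (GL D.Idx F)} (hGG : ∀ r < D.nroots, ∀ t : F, xg D F r t ∈ G) {r s k₁ k₂ : ℕ} {c₁ c₂ : ℤ} {i j : ℕ} {R : List (ℕ × ℤ × ℕ × ℕ)}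
    (hr : r < D.nroots) (hs : s < D.nroots) (hrs : s ≠ r) (hneg : s ≠ D.neg r)
    (hc₁ : c₁ = 1 ∨ c₁ = -1) (hc₂ : c₂ = 1 ∨ c₂ = -1) (hT : D.commTerms r s = (k₁, c₁, 1, 1) :: (k₂, c₂, i, j) :: R)
    (hij : (i = 1 ∧ j = 2) ∨ (i = 2 ∧ j = 1)) (hR : ∀ x ∈ R, ∀ t : F, xg D F x.1 t ∈ dS G)
    {a : F} (ha0 : a ≠ 0) (ha1 : a ≠ 1) : (∀ t : F, xg D F k₁ t ∈ dS G) ∧ ∀ t : F, xg D F k₂ t ∈ dS G := by
  -- the product of the two factors
  have key : ∀ t u : F, xg D F k₁ ((c₁ : F) * -t * u) * xg D F k₂ ((c₂ : F) * (-t) ^ i * u ^ j) ∈ dS G := by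
    intro t u
    have h3 := hG.commWord_mem hE (G := G) hr hs hrs hneg (hGG r hr t) (hGG s hs u)
    unfold ChevalleyDatum.commWord wg at h3
    rw [hT] at h3
    simp only [List.map_cons, List.prod_cons, pow_one] at h3
    have h4 : ((R.map fun c => (c.1, (c.2.1 : F) * (-t) ^ c.2.2.1 * u ^ c.2.2.2)).map fun p => xg D F p.1 p.2).prod ∈ dS G := by
      apply Subgroup.list_prod_mem
      intro x hx
      rw [List.mem_map] at hx
      obtain ⟨p, hp, rfl⟩ := hx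
      rw [List.mem_map] at hp
      obtain ⟨c, hc, rfl⟩ := hp
      exact hR c hc _
    rw [← mul_assoc] at h3
    exact (Subgroup.mul_mem_cancel_right _ h4).1 h3
  have hsq : ∀ c : ℤ, c = 1 ∨ c = -1 → (c : F) * (c : F) = 1 := by
    rintro c (rfl | rfl) <;> simp
  -- difference
  have h2 : ∀ t u b : F, b ≠ 0 → xg D F k₂ ((c₂ : F) * (-t) ^ i * u ^ j * (b ^ i * (b⁻¹) ^ j - 1)) ∈ dS G := by
    intro t u b hb
    have e1 := key t u
    have e2 := key (b * t) (b⁻¹ * u)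
    have e3 : (c₁ : F) * -(b * t) * (b⁻¹ * u) = (c₁ : F) * -t * u := by field_simp
    rw [e3] at e2
    have e4 := mul_mem (inv_mem e1) e2
    rw [mul_inv_rev, mul_assoc, inv_mul_cancel_left, ← hG.xg_neg, ← hG.xg_add] at e4
    have e5 : -((c₂ : F) * (-t) ^ i * u ^ j) + (c₂ : F) * (-(b * t)) ^ i * (b⁻¹ * u) ^ j =
        (c₂ : F) * (-t) ^ i * u ^ j * (b ^ i * (b⁻¹) ^ j - 1) := by
      rw [mul_pow b⁻¹ u j, ← mul_neg b t, mul_pow b (-t) i]; ring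
    rwa [e5] at e4
  have h3 : ∀ t : F, xg D F k₂ t ∈ dS G := by
    intro v
    rcases hij with ⟨rfl, rfl⟩ | ⟨rfl, rfl⟩
    · -- use b = a⁻¹, t arbitrary, u = 1
      have e := h2 (-(c₂ * v * (a - 1)⁻¹)) 1 a⁻¹ (inv_ne_zero ha0)
      have e1 : (c₂ : F) * (-(-(c₂ * v * (a - 1)⁻¹))) ^ 1 * 1 ^ 2 * (a⁻¹ ^ 1 * (a⁻¹)⁻¹ ^ 2 - 1) = v := by
        have h5 : a - 1 ≠ 0 := sub_ne_zero.2 ha1
        have h6 : a⁻¹ ^ 1 * (a⁻¹)⁻¹ ^ 2 - 1 = a - 1 := by rw [inv_inv]; field_simp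
        rw [h6, one_pow, mul_one, pow_one, neg_neg]
        calc (c₂ : F) * (c₂ * v * (a - 1)⁻¹) * (a - 1) = ((c₂ : F) * c₂) * v * ((a - 1)⁻¹ * (a - 1)) := by ring
          _ = v := by rw [hsq c₂ hc₂, inv_mul_cancel₀ h5]; ring
      rwa [e1] at e
    · have e := h2 1 (c₂ * v * (a - 1)⁻¹) a ha0
      have e1 : (c₂ : F) * (-1) ^ 2 * (c₂ * v * (a - 1)⁻¹) ^ 1 * (a ^ 2 * a⁻¹ ^ 1 - 1) = v := by
        have h5 : a - 1 ≠ 0 := sub_ne_zero.2 ha1
        have h6 : a ^ 2 * a⁻¹ ^ 1 - 1 = a - 1 := by field_simp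
        rw [h6, pow_one]
        calc (c₂ : F) * (-1) ^ 2 * (c₂ * v * (a - 1)⁻¹) * (a - 1) = ((c₂ : F) * c₂) * v * ((a - 1)⁻¹ * (a - 1)) := by ring
          _ = v := by rw [hsq c₂ hc₂, inv_mul_cancel₀ h5]; ring
      rwa [e1] at e
  refine ⟨fun v => ?_, h3⟩
  have e := key (-(c₁ * v)) 1
  have e1 : (c₁ : F) * -(-(c₁ * v)) * 1 = v := by
    rw [neg_neg, mul_one, ← mul_assoc, hsq c₁ hc₁, one_mul]
  rw [e1] at e
  exact (Subgroup.mul_mem_cancel_right _ (h3 _)).1 e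

/-- perfectness from the simple roots -/
theorem perfect_of_simple (h : ∀ i < D.rank, ∀ t : F, xg D F (D.simple i) t ∈ dS (D.group F)) : commutator ↥(D.group F) = ⊤ := by
  apply commutator_eq_top
  have key : ∀ r < D.nroots, ∀ t : F, xg D F r t ∈ dS (D.group F) := by
    apply hG.root_induction (p := fun r => ∀ t : F, xg D F r t ∈ dS (D.group F)) h
    intro i hi r hr ih t
    have h1 := hG.ng_conj (F := F) hi hr (((η i r : ℤ) : F) * t)
    have h2 : ((η i r : ℤ) : F) * (((η i r : ℤ) : F) * t) = t := by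
      rw [← mul_assoc, show ((η i r : ℤ) : F) * ((η i r : ℤ) : F) = 1 by exact_mod_cast congrArg (Int.cast (R := F)) (hG.eta_sq hi hr), one_mul]
    rw [h2] at h1
    rw [← h1]
    exact conj_mem_dS (hG.ngr_mem_group _ _) (ih _)
  conv_lhs => rw [hG.group_eq_US]
  rw [US_le]
  intro r hr t
  exact key r hr t

end Good
end

/-! ### the types -/

section
variable {D : ChevalleyDatum} {N : ℕ} {η : ℕ → ℕ → ℤ} {rc : ℕ → ℕ → ℤ} {F : Type*} [Field F]

/-- certificates of pure commutators for the simple roots -/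
def chkPure (D : ChevalleyDatum) (k r s : ℕ) : Bool :=
  decide (r < D.nroots) && decide (s < D.nroots) && !Nat.beq s r && !Nat.beq s (D.neg r) &&
    (D.commTerms r s == [(k, 1, 1, 1)] || D.commTerms r s == [(k, -1, 1, 1)])

theorem pure_of_chk (hG : Good D N η rc) (hE : Ext D rc) {G : Subgroup (GL D.Idx F)} (hGG : ∀ r < D.nroots, ∀ t : F, xg D F r t ∈ G)
    {k r s : ℕ} (h : chkPure D k r s = true) (t : F) : xg D F k t ∈ dS G := by
  unfold chkPure at h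
  rw [Bool.and_eq_true, Bool.and_eq_true, Bool.and_eq_true, Bool.and_eq_true, decide_eq_true_eq, decide_eq_true_eq, Bool.or_eq_true,
    beq_iff_eq, beq_iff_eq] at h
  obtain ⟨⟨⟨⟨h1, h2⟩, h3⟩, h4⟩, h5⟩ := h
  have h3' : s ≠ r := by
    intro he; rw [he, Nat.beq_refl] at h3; exact absurd h3 (by decide)
  have h4' : s ≠ D.neg r := by
    intro he; rw [he, Nat.beq_refl] at h4; exact absurd h4 (by decide)
  have h6 : ∃ c : ℤ, (c = 1 ∨ c = -1) ∧ D.commTerms r s = [(k, c, 1, 1)] := by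
    rcases h5 with h5 | h5
    · exact ⟨1, Or.inl rfl, h5⟩
    · exact ⟨-1, Or.inr rfl, h5⟩
  obtain ⟨c, hc, hT⟩ := h6
  have := hG.pure_mem hE h1 h2 h3' h4' hc hT (hGG r h1 t) (hGG s h2 1)
  rwa [mul_one] at this

end
end Cfsg.Agent.H6
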