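import Mathlib.GroupTheory.SpecificGroups.Dihedral
import Mathlib.Algebra.BigOperators.Finprod
import Mathlib.Data.ZMod.Basic

/-!
Groups generated by two involutions are dihedral.
-/

set_option autoImplicit false

namespace Cfsg.Agent.H6

section
variable {G : Type*} [Group G] {a b : G} {n : ℕ}

/-- the power with exponent in `ZMod n` -/
def zp (c : G) (i : ZMod n) : G := c ^ (i.cast : ℤ)

theorem zp_intCast {c : G} (hc : c ^ n = 1) (k : ℤ) : zp c (k : ZMod n) = c ^ k := by
  have h1 : ((k : ZMod n).cast : ℤ) ≡ k [ZMOD n] := by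
    rw [← ZMod.intCast_eq_intCast_iff]
    simp
  unfold zp
  obtain ⟨d, hd⟩ := h1.dvd
  have h2 : k = ((k : ZMod n).cast : ℤ) + n * d := by omega
  have h3 : c ^ k = c ^ (((k : ZMod n).cast : ℤ) + n * d) := congrArg (fun z : ℤ => c ^ z) h2
  rw [h3, zpow_add, zpow_mul, zpow_natCast, hc, one_zpow, mul_one]

theorem zp_add {c : G} (hc : c ^ n = 1) (i j : ZMod n) : zp c (i + j) = zp c i * zp c j := by
  obtain ⟨i, rfl⟩ := ZMod.intCast_surjective i
  obtain ⟨j, rfl⟩ := ZMod.intCast_surjective j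
  rw [← Int.cast_add, zp_intCast hc, zp_intCast hc, zp_intCast hc, zpow_add]

theorem zp_neg {c : G} (hc : c ^ n = 1) (i : ZMod n) : zp c (-i) = (zp c i)⁻¹ := by
  obtain ⟨i, rfl⟩ := ZMod.intCast_surjective i
  rw [← Int.cast_neg, zp_intCast hc, zp_intCast hc, zpow_neg]

theorem inv_conj (ha : a * a = 1) (hb : b * b = 1) (k : ℤ) : (a * b) ^ k * a = a * (a * b) ^ (-k) := by
  have ha' : a⁻¹ = a := inv_eq_of_mul_eq_one_right ha
  have hb' : b⁻¹ = b := inv_eq_of_mul_eq_one_right hb
  have h1 : a * (a * b) * a⁻¹ = (a * b)⁻¹ := by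
    rw [mul_inv_rev, ha', hb', ← mul_assoc, ha, one_mul]
  have h2 : a * (a * b) ^ (-k) * a⁻¹ = (a * b) ^ k := by
    rw [← conj_zpow, h1, inv_zpow, zpow_neg, inv_inv]
  rw [← h2, inv_mul_cancel_right]

theorem zp_inv_conj (ha : a * a = 1) (hb : b * b = 1) (hc : (a * b) ^ n = 1) (i : ZMod n) : zp (a * b) i * a = a * zp (a * b) (-i) := by
  obtain ⟨i, rfl⟩ := ZMod.intCast_surjective i
  rw [← Int.cast_neg, zp_intCast hc, zp_intCast hc, inv_conj ha hb]

/-- the homomorphism from the dihedral group -/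
def dihHom (ha : a * a = 1) (hb : b * b = 1) (hc : (a * b) ^ n = 1) : DihedralGroup n →* G where
  toFun g := match g with
    | .r i => zp (a * b) i
    | .sr i => a * zp (a * b) i
  map_one' := by
    change zp (a * b) (0 : ZMod n) = 1
    have := zp_intCast hc 0
    rwa [Int.cast_zero, zpow_zero] at this
  map_mul' := by
    rintro (i | i) (j | j)
    · exact zp_add hc i j
    · change a * zp (a * b) (j - i) = zp (a * b) i * (a * zp (a * b) j)
      rw [← mul_assoc, zp_inv_conj ha hb hc, mul_assoc, ← zp_add hc]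
      congr 2; ring
    · change a * zp (a * b) (i + j) = a * zp (a * b) i * zp (a * b) j
      rw [zp_add hc, mul_assoc]
    · change zp (a * b) (j - i) = a * zp (a * b) i * (a * zp (a * b) j)
      have h1 : a * zp (a * b) i * (a * zp (a * b) j) = a * (zp (a * b) i * a) * zp (a * b) j := by simp only [mul_assoc]
      rw [h1, zp_inv_conj ha hb hc, ← mul_assoc, ha, one_mul, ← zp_add hc]
      congr 1; ring

theorem dihHom_r (ha : a * a = 1) (hb : b * b = 1) (hc : (a * b) ^ n = 1) (i : ZMod n) : dihHom ha hb hc (.r i) = zp (a * b) i := rfl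
theorem dihHom_sr (ha : a * a = 1) (hb : b * b = 1) (hc : (a * b) ^ n = 1) (i : ZMod n) : dihHom ha hb hc (.sr i) = a * zp (a * b) i := rfl

theorem dihHom_bij (ha : a * a = 1) (hb : b * b = 1) (hn : 2 < n) (ho : orderOf (a * b) = n) (hg : Subgroup.closure {a, b} = ⊤) :
    Function.Bijective (dihHom ha hb (by rw [← ho]; exact pow_orderOf_eq_one _) : DihedralGroup n →* G) := by
  have hc : (a * b) ^ n = 1 := by rw [← ho]; exact pow_orderOf_eq_one _
  constructor
  · rw [injective_iff_map_eq_one]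
    rintro (i | i) h
    · rw [dihHom_r] at h
      obtain ⟨i, rfl⟩ := ZMod.intCast_surjective i
      rw [zp_intCast hc] at h
      have h1 := orderOf_dvd_iff_zpow_eq_one.2 h
      rw [ho] at h1
      rw [(ZMod.intCast_zmod_eq_zero_iff_dvd i n).2 h1]
      rfl
    · exfalso
      rw [dihHom_sr] at h
      obtain ⟨i, rfl⟩ := ZMod.intCast_surjective i
      rw [zp_intCast hc] at h
      have h1 : a = (a * b) ^ (-i) := by rw [zpow_neg]; exact eq_inv_of_mul_eq_one_left h
      have h2 : (a * b) * a = a * (a * b) := by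
        have h3 : Commute (a * b) ((a * b) ^ (-i)) := (Commute.refl _).zpow_right _
        rw [← h1] at h3
        exact h3.eq
      have h3 := inv_conj ha hb 1
      rw [zpow_one, h2, zpow_neg, zpow_one] at h3
      have h4 : a * b = (a * b)⁻¹ := mul_left_cancel h3
      have h5 : (a * b) ^ 2 = 1 := by rw [pow_two]; nth_rw 1 [h4]; exact inv_mul_cancel _
      have h6 := orderOf_dvd_of_pow_eq_one h5
      rw [ho] at h6
      have := Nat.le_of_dvd (by norm_num) h6
      omega
  · rw [← MonoidHom.range_eq_top, eq_top_iff, ← hg, Subgroup.closure_le]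
    have h0 : zp (a * b) (0 : ZMod n) = 1 := by
      have := zp_intCast hc 0
      rwa [Int.cast_zero, zpow_zero] at this
    have h1 : zp (a * b) (1 : ZMod n) = a * b := by
      have := zp_intCast hc 1
      rwa [Int.cast_one, zpow_one] at this
    rintro x (rfl | rfl)
    · exact ⟨.sr 0, by rw [dihHom_sr, h0, mul_one]⟩
    · exact ⟨.sr 1, by rw [dihHom_sr, h1, ← mul_assoc, ha, one_mul]⟩

theorem zp_natCast {c : G} (hc : c ^ n = 1) (k : ℕ) : zp c (k : ZMod n) = c ^ k := by
  have := zp_intCast hc (k : ℤ)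
  rwa [Int.cast_natCast, zpow_natCast] at this

/-- sums over a dihedral group -/
theorem dih_sum {R : Type*} [AddCommMonoid R] (k : ℕ) (c : DihedralGroup (k + 1) → R) :
    (∑ᶠ g, c g) = (∑ i : Fin (k + 1), c (.r ((i : ℕ) : ZMod (k + 1)))) + ∑ i : Fin (k + 1), c (.sr ((i : ℕ) : ZMod (k + 1))) := by
  let e : Fin (k + 1) ⊕ Fin (k + 1) ≃ DihedralGroup (k + 1) := {
    toFun := fun x => match x with
      | .inl i => .r ((i : ℕ) : ZMod (k + 1))
      | .inr i => .sr ((i : ℕ) : ZMod (k + 1))
    invFun := fun g => match g with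
      | .r i => Sum.inl ⟨i.val, ZMod.val_lt i⟩
      | .sr i => Sum.inr ⟨i.val, ZMod.val_lt i⟩
    left_inv := by
      rintro (i | i)
      · change Sum.inl (⟨((i : ℕ) : ZMod (k + 1)).val, _⟩ : Fin (k + 1)) = Sum.inl i
        congr 1
        apply Fin.ext
        exact ZMod.val_cast_of_lt i.2
      · change Sum.inr (⟨((i : ℕ) : ZMod (k + 1)).val, _⟩ : Fin (k + 1)) = Sum.inr i
        congr 1
        apply Fin.ext
        exact ZMod.val_cast_of_lt i.2
    right_inv := by
      rintro (i | i)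
      · change DihedralGroup.r (((i.val : ℕ)) : ZMod (k + 1)) = DihedralGroup.r i
        rw [ZMod.natCast_zmod_val]
      · change DihedralGroup.sr (((i.val : ℕ)) : ZMod (k + 1)) = DihedralGroup.sr i
        rw [ZMod.natCast_zmod_val] }
  rw [← finsum_comp_equiv e, finsum_eq_sum_of_fintype, Fintype.sum_sum_type]
  rfl

end
end Cfsg.Agent.H6
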