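import Cfsg.Agent.H6.ChevGood
import Cfsg.Agent.H6.ChevComm

/-!
Formal identities of words with constant coefficients modulo `m`.
-/

set_option autoImplicit false
set_option linter.unusedSectionVars false

namespace Cfsg.Agent.H6
open Cfsg.Lie
open scoped Matrix

/-- equality of formal vectors modulo `m` -/
def eqPVm (m : ℕ) (v w : PVec) : Bool :=
  ((v ++ negPV w).foldr insPV []).all fun q => decide (q.1 % (m : ℤ) = 0)

section
variable {D : ChevalleyDatum} {F : Type*} [Field F]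

theorem den_zero_mod {m : ℕ} (hm : (m : F) = 0) (t u : F) (v : PVec) (h : ∀ q ∈ v, q.1 % (m : ℤ) = 0) :
    den D F t u v = 0 := by
  induction v with
  | nil => rfl
  | cons y v ih =>
    rw [den_cons, ih (fun q hq => h q (List.mem_cons_of_mem _ hq)), add_zero]
    have h1 : ((y.1 : ℤ) : F) = 0 := by
      obtain ⟨k, hk⟩ := Int.dvd_of_emod_eq_zero (h y List.mem_cons_self)
      rw [hk, Int.cast_mul, Int.cast_natCast, hm, zero_mul]
    rw [h1, zero_mul, zero_mul, zero_smul]

theorem eqPVm_spec {m : ℕ} (hm : (m : F) = 0) {v w : PVec} (h : eqPVm m v w = true) (t u : F) :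
    den D F t u v = den D F t u w := by
  have h1 := den_foldr (D := D) t u (v ++ negPV w)
  rw [den_zero_mod hm t u _ (fun q hq => of_decide_eq_true (List.all_eq_true.1 h q hq)), den_append, den_neg] at h1
  exact (sub_eq_zero.1 (by rw [sub_eq_add_neg]; exact h1.symm))

/-- formal constant words -/
def cwd (w : List (ℕ × ℤ)) : List (ℕ × (ℕ → List (ℤ × ℕ × ℕ))) := w.map fun p => (p.1, pwMono p.2 0 0)

/-- constant words -/
def cwF (F : Type*) [Field F] (w : List (ℕ × ℤ)) : List (ℕ × F) := w.map fun p => (p.1, ((p.2 : ℤ) : F))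

theorem cwd_rel (t u : F) (w : List (ℕ × ℤ)) (hw : ∀ p ∈ w, p.1 < D.nroots) : WRel D t u (cwd w) (cwF F w) := by
  induction w with
  | nil => exact List.Forall₂.nil
  | cons p w ih =>
    refine List.Forall₂.cons ⟨rfl, hw p List.mem_cons_self, PW_c t u p.2⟩ (ih fun q hq => hw q (List.mem_cons_of_mem _ hq))

theorem wg_eq_mod {N : ℕ} {η rc : ℕ → ℕ → ℤ} (hG : Good D N η rc) {m : ℕ} (hm : (m : F) = 0) (w v : List (ℕ × ℤ))
    (hw : ∀ p ∈ w, p.1 < D.nroots) (hv : ∀ p ∈ v, p.1 < D.nroots)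
    (h : ∀ j < D.rank + D.nroots, eqPVm m (applyW (imD D) (cwd w) (unitV j)) (applyW (imD D) (cwd v) (unitV j)) = true) :
    wg D F (cwF F w) = wg D F (cwF F v) := by
  apply Units.ext
  rw [hG.coe_wg, hG.coe_wg]
  apply mat_ext'
  intro j hj
  rw [← den_unit (1 : F) (1 : F) j, (applyW_spec hG.toSem (cwd_rel 1 1 w hw) _ (unitV_lt hj)).2,
    (applyW_spec hG.toSem (cwd_rel 1 1 v hv) _ (unitV_lt hj)).2]
  exact eqPVm_spec hm (h j hj) 1 1

end
end Cfsg.Agent.H6
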