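import Cfsg.Agent.H6.PVmod
import Cfsg.Agent.H6.ChevExt

/-!
Formal identities of words with constant coefficients modulo `m`: packed tables.
-/

set_option autoImplicit false
set_option linter.unusedSectionVars false

namespace Cfsg.Agent.H6
open Cfsg.Lie
open scoped Matrix

def chkEqm (m l n W : ℕ) (G : List (List ℕ)) (CA CO : ℕ) (w v : List (ℕ × ℤ)) : Bool :=
  allB (l + n) fun j => eqPVm m (applyW (imP l n W G CA CO) (cwd w) (unitV j)) (applyW (imP l n W G CA CO) (cwd v) (unitV j))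

def chkIdx (n : ℕ) (w : List (ℕ × ℤ)) : Bool := w.all fun p => Nat.ble (Nat.succ p.1) n

theorem chkIdx_spec {n : ℕ} {w : List (ℕ × ℤ)} (h : chkIdx n w = true) : ∀ p ∈ w, p.1 < n := by
  intro p hp
  have := List.all_eq_true.1 h p hp
  exact Nat.le_of_ble_eq_true this

section
variable {D : ChevalleyDatum} {W N : ℕ} {G : List (List ℕ)} {S P E CA CO MO : ℕ} {F : Type*} [Field F]

theorem Chk.wg_eq_mod {l n : ℕ} (h : Chk D l n W N G S P E CA CO MO) {η rc : ℕ → ℕ → ℤ} (hG : Good D N η rc) {m : ℕ} (hm : (m : F) = 0)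
    {w v : List (ℕ × ℤ)} (hw : chkIdx n w = true) (hv : chkIdx n v = true) (hc : chkEqm m l n W G CA CO w v = true) :
    wg D F (cwF F w) = wg D F (cwF F v) := by
  obtain rfl := h.rank
  obtain rfl := h.nroots
  refine H6.wg_eq_mod hG hm w v (chkIdx_spec hw) (chkIdx_spec hv) ?_
  intro j hj
  rw [imP_eq h]
  exact allB_spec hc j hj

end
end Cfsg.Agent.H6
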