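import Cfsg.Agent.H6.StV

/-!
Tables for the fields with three and four elements; Schur multipliers in type F4.
-/

set_option autoImplicit false
set_option maxHeartbeats 400000
set_option maxRecDepth 100000

namespace Cfsg.Agent.H6
open Cfsg.Lie

namespace TD4
def swL : List (ℕ × ℕ × List ℕ) := [(12, 13, [1, 3, 2, 1]), (12, 18, [1, 3, 0, 1]), (12, 23, [1, 2, 0, 1]), (13, 18, [1, 2, 0, 1]), (13, 23, [1, 3, 0, 1]), (14, 17, [3, 2]), (14, 20, [3, 0]), (14, 21, [2, 0]), (15, 16, [3, 2]), (15, 19, [3, 0]), (15, 22, [2, 0]), (16, 19, [2, 0]), (16, 22, [3, 0]), (17, 20, [2, 0]), (17, 21, [3, 0]), (18, 23, [1, 3, 2, 1]), (19, 22, [3, 2]), (20, 21, [3, 2])]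
theorem t4 : chkT4 (nat_lit 4) (nat_lit 24) CA = true := by decide +kernel
theorem t3m : chkM3 (nat_lit 4) (nat_lit 24) CA = true := by decide +kernel
theorem t3 : chkT3 (nat_lit 4) (nat_lit 24) (nat_lit 12) CA swL = true := by decide +kernel
theorem t3s : ∀ e ∈ swL, swB chevD4 (nat_lit 4) P E e = true := by decide +kernel
theorem self (K : Type*) [Field K] : ∀ i < chevD4.rank, SelfPair2 chevD4 K (chevD4.simple i) := by
  intro i hi
  match i, hi with
  | 0, _ => exact (selfPair_of_chk (r := chevD4.simple 0) (a := 6) (b := 22) (k := 0) (by decide +kernel)).to2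
  | 1, _ => exact (selfPair_of_chk (r := chevD4.simple 1) (a := 1) (b := 23) (k := 0) (by decide +kernel)).to2
  | 2, _ => exact (selfPair_of_chk (r := chevD4.simple 2) (a := 3) (b := 22) (k := 0) (by decide +kernel)).to2
  | 3, _ => exact (selfPair_of_chk (r := chevD4.simple 3) (a := 2) (b := 22) (k := 0) (by decide +kernel)).to2
  | (k + 4), hk => exact absurd hk (by change ¬ (k + 4 < 4); omega)

universe u in
theorem closed {K : Type u} [Field K] [Finite K] (hK : 3 ≤ Nat.card K) : Finite (chevD4.SteinbergCover K) ∧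
    commutator (chevD4.SteinbergCover K) = ⊤ ∧ Cfsg.HasCyclicSchurMultiplier (chevD4.SteinbergCover K) 1 :=
  closed_q34 chk ext cw pairs pb sc sperf hK t4 (fun _ => self K) t3m t3 t3s
end TD4

namespace TF4
def swL : List (ℕ × ℕ × List ℕ) := [(24, 32, [2, 1, 2]), (24, 43, [2, 0, 1, 2, 0]), (24, 45, [1, 2, 0, 1, 2, 0, 1]), (25, 30, [1]), (25, 41, [0, 1, 0]), (25, 47, [3, 1, 2, 0, 1, 2, 3, 0, 1]), (26, 31, [1]), (26, 42, [0, 1, 0]), (26, 46, [1, 2, 0, 1, 2, 0, 1]), (30, 41, [0]), (30, 47, [3, 2, 0, 1, 2, 3, 0]), (31, 42, [0]), (31, 46, [2, 0, 1, 2, 0]), (32, 43, [0]), (32, 45, [0, 1, 0]), (41, 47, [3, 2, 1, 2, 3]), (42, 46, [2, 1, 2]), (43, 45, [1])]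
theorem t4 : chkT4 (nat_lit 4) (nat_lit 48) CA = true := by decide +kernel
theorem t3m : chkM3 (nat_lit 4) (nat_lit 48) CA = true := by decide +kernel
theorem t3 : chkT3 (nat_lit 4) (nat_lit 48) (nat_lit 24) CA swL = true := by decide +kernel
theorem t3s : ∀ e ∈ swL, swB chevF4 (nat_lit 4) P E e = true := by decide +kernel
theorem self (K : Type*) [Field K] : ∀ i < chevF4.rank, SelfPair2 chevF4 K (chevF4.simple i) := by
  intro i hi
  match i, hi with
  | 0, _ => exact (selfPair_of_chk (r := chevF4.simple 0) (a := 7) (b := 44) (k := 0) (by decide +kernel)).to2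
  | 1, _ => exact (selfPair_of_chk (r := chevF4.simple 1) (a := 8) (b := 40) (k := 0) (by decide +kernel)).to2
  | 2, _ => exact (selfPair_of_chk (r := chevF4.simple 2) (a := 0) (b := 39) (k := 1) (by decide +kernel)).to2
  | 3, _ => exact (selfPair_of_chk (r := chevF4.simple 3) (a := 1) (b := 47) (k := 0) (by decide +kernel)).to2
  | (k + 4), hk => exact absurd hk (by change ¬ (k + 4 < 4); omega)

universe u in
theorem closed {K : Type u} [Field K] [Finite K] (hK : 3 ≤ Nat.card K) : Finite (chevF4.SteinbergCover K) ∧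
    commutator (chevF4.SteinbergCover K) = ⊤ ∧ Cfsg.HasCyclicSchurMultiplier (chevF4.SteinbergCover K) 1 :=
  closed_q34 chk ext cw pairs pb sc sperf hK t4 (fun _ => self K) t3m t3 t3s
end TF4

universe u in
theorem TF4.schur {K : Type u} [Field K] [Fintype K] (hK : 3 ≤ Fintype.card K) : Cfsg.HasCyclicSchurMultiplier ↥(chevF4.group K) 1 := by
  refine schur_group TF4.good TF4.ext TF4.cw TF4.pairs (TF4.closed (by rw [Nat.card_eq_fintype_card]; exact hK)) ?_ (Or.inl rfl)
  rw [st_center_bot TF4.good TF4.ext TF4.cw TF4.pairs PhiH_inj_F4]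
  simp

end Cfsg.Agent.H6
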