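import Cfsg.Agent.H6.ChevSpec
import Cfsg.Agent.H6.DefA2

set_option autoImplicit false
set_option maxRecDepth 100000
namespace Cfsg.Agent.H6
open Cfsg.Lie
namespace TA2

def S : ℕ := nat_lit 0x304
def P : ℕ := nat_lit 0x4050203000100000000000000000000000000000000000000000000000000000000000000000000000000000000000000000000000000000000000000000000000000000000000000000000000000000000000000000000000000000000000000000000000000000000000000000000000000000000000000000000000000000000000000000000000000000000000000000000000000000000000000000000000000000000000000000000000000000000000000000000000000000000000000000000000000000000000000000000000000000000000000000000000000000000000000000000000000000000000000000000000000000000000000000000030105000402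
def E : ℕ := nat_lit 0x2d000000000000000000000000000000000000000000000000000000000000001e
def CA : ℕ := nat_lit 0x97a69700000000000000000000000000000000000000000000000000000000000000000000000000000000000000000000000000000000000000000000000000000000000000000000000000000000000000000000000000000000000000000000000000000000000000000000000000000000000000000000000000000000009a7967
def CO : ℕ := nat_lit 0x8181000000000000808100000000000081800000000000007f80000000000000807f0000000000007f7f
def MO : ℕ := nat_lit 0x8181000000000000808100000000000081800000000000007f80000000000000807f0000000000007f7f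
def G : List (List ℕ) := [[nat_lit 0x32b02a0209879052, nat_lit 0x1818d2025400060a6, nat_lit 0x2820950ba06180089, nat_lit 0x1b5051023a007301, nat_lit 0x3586f60a05804d02, nat_lit 0x4681707ac1281811]]
theorem c_neg : chkNeg chevA2 (nat_lit 6) = true := by decide +kernel
theorem c_simple : chkSimple chevA2 (nat_lit 2) S = true := by decide +kernel
theorem c_cartan : chkCartan chevA2 (nat_lit 2) (nat_lit 6) CA = true := by decide +kernel
theorem c_coroot : chkCoroot chevA2 (nat_lit 2) (nat_lit 6) CO = true := by decide +kernel
theorem c_chain : chkChain chevA2 (nat_lit 6) (nat_lit 11) G = true := by decide +kernel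
theorem c_k2_0 : chkK2i (nat_lit 6) (nat_lit 11) G P E (nat_lit 0) = true := by decide +kernel
theorem c_k2_1 : chkK2i (nat_lit 6) (nat_lit 11) G P E (nat_lit 1) = true := by decide +kernel
theorem c_w : allB (nat_lit 2) (fun i => chkW (nat_lit 6) (nat_lit 3) S P E CA i) = true := by decide +kernel
theorem c_reflect : allB (nat_lit 2) (fun i => chkReflect (nat_lit 2) (nat_lit 6) (nat_lit 11) G S CA P i) = true := by decide +kernel
theorem c_s : allB (nat_lit 2) (fun i => chkS (nat_lit 6) (nat_lit 3) S E CA i) = true := by decide +kernel
theorem c_cw : allB (nat_lit 2) (fun i => chkCW (nat_lit 2) (nat_lit 6) S P CA i) = true := by decide +kernel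
theorem c_cow : allB (nat_lit 2) (fun i => chkCoW (nat_lit 2) (nat_lit 6) S P CA CO i) = true := by decide +kernel
theorem c_rw : allB (nat_lit 2) (fun i => chkRW (nat_lit 2) (nat_lit 6) P CA MO i) = true := by decide +kernel
theorem c_r : chkR (nat_lit 2) (nat_lit 6) (nat_lit 3) S CA CO MO = true := by decide +kernel
theorem c_rs : chkRS (nat_lit 2) S MO = true := by decide +kernel
theorem c_mono : chkMono (nat_lit 2) (nat_lit 6) MO = true := by decide +kernel
theorem c_add : chkAdd (nat_lit 2) (nat_lit 6) (nat_lit 11) G MO = true := by decide +kernel
theorem c_n_0 : chkN (nat_lit 2) (nat_lit 6) (nat_lit 11) G S P E CA CO (nat_lit 0) = true := by decide +kernel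
theorem c_n_1 : chkN (nat_lit 2) (nat_lit 6) (nat_lit 11) G S P E CA CO (nat_lit 1) = true := by decide +kernel
theorem c_dom : chkDom (nat_lit 2) (nat_lit 6) (nat_lit 11) G CA CO = true := by decide +kernel
theorem chk : Chk chevA2 2 6 11 3 G S P E CA CO MO where
  rank := rfl
  nroots := rfl
  n2 := rfl
  neg := c_neg
  simple := c_simple
  cartan := c_cartan
  coroot := c_coroot
  chain := c_chain
  w := c_w
  reflect := c_reflect
  s := c_s
  cw := c_cw
  cow := c_cow
  rw := c_rw
  r := c_r
  rs := c_rs
  mono := c_mono
  add := c_add
  dom := c_dom
  k2 := fun i hi => match i, hi with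
    | 0, _ => c_k2_0
    | 1, _ => c_k2_1
    | (k + 2), hk => absurd hk (by omega)
  nn := fun i hi => match i, hi with
    | 0, _ => c_n_0
    | 1, _ => c_n_1
    | (k + 2), hk => absurd hk (by omega)
theorem good : Good chevA2 3 (etF E) (cO MO) := chk.good
end TA2
end Cfsg.Agent.H6
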