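import Cfsg.Agent.H6.TwComm3
import Cfsg.Agent.H6.TwE6
import Cfsg.Agent.H6.TwD4
import Cfsg.Agent.H6.TwBN

/-!
Cardinalities of the unipotent groups of 2E6, 3D4.
-/

set_option autoImplicit false
set_option linter.unusedSectionVars false
set_option maxHeartbeats 400000
set_option maxRecDepth 10000

namespace Cfsg.Agent.H6
open Cfsg.Lie
open scoped Matrix

section
variable {D : ChevalleyDatum} {N : ℕ} {η : ℕ → ℕ → ℤ} {rc : ℕ → ℕ → ℤ} {F : Type*} [Field F]
  {m : ℕ} {rho inv lam pi : ℕ → ℕ} {ep : ℕ → ℤ} {e : ℕ} {σ : ↥(D.group F) →* ↥(D.group F)}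
  {ι : Type} {L : ι → List (Fin D.rank)}

theorem Good.simple_inj (hG : Good D N η rc) {i i' : ℕ} (hi : i < D.rank) (hi' : i' < D.rank) (he : D.simple i = D.simple i') : i = i' := by
  have h1 := hG.rc_simple i hi i hi
  rw [he, hG.rc_simple i' hi' i hi, if_pos rfl] at h1
  by_contra hc
  rw [if_neg hc] at h1
  omega

theorem Good.len_longest (hG : Good D N η rc) {w : hG.W} (hw : ∀ r : Fin D.nroots, N ≤ (r : ℕ) ↔ (w.1 r : ℕ) < N) :
    len hG.s w = N := by
  rw [hG.len_eq_card_invs]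
  have h1 : hG.invs w = (Finset.univ.filter fun r : Fin D.nroots => N ≤ (r : ℕ)) := by
    ext r
    rw [hG.mem_invs, Finset.mem_filter]
    constructor
    · rintro ⟨h1, -⟩; exact ⟨Finset.mem_univ _, h1⟩
    · rintro ⟨-, h1⟩; exact ⟨h1, (hw r).1 h1⟩
  rw [h1]
  have h2 : (Finset.univ.filter fun r : Fin D.nroots => N ≤ (r : ℕ)).card = ((Finset.range D.nroots).filter fun r => N ≤ r).card := by
    rw [← Finset.card_map ⟨fun r : Fin D.nroots => (r : ℕ), fun a b h => Fin.ext h⟩]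
    congr 1
    ext r
    simp only [Finset.mem_map, Finset.mem_filter, Finset.mem_univ, true_and, Function.Embedding.coeFn_mk, Finset.mem_range]
    constructor
    · rintro ⟨a, ha, rfl⟩; exact ⟨a.2, ha⟩
    · rintro ⟨h1, h2⟩; exact ⟨⟨r, h1⟩, h2, rfl⟩
  rw [h2]
  have h3 : ((Finset.range D.nroots).filter fun r => N ≤ r) = Finset.Ico N D.nroots := by
    ext r
    simp only [Finset.mem_filter, Finset.mem_range, Finset.mem_Ico]
    omega
  rw [h3, Nat.card_Ico, hG.nroots_eq]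
  omega

namespace TwCtx
variable (h : TwCtx D N η rc F m rho inv lam pi ep e σ) (hO : TwOrb D N rc rho pi L) {j : ι} (hc : COrb D F (L j))
  (hU : ∀ r ∈ h.G.Um (h.wJ L j), ∃ i ∈ L j, r = D.simple i)
include hO hc hU

theorem corb_card_eq {i₀ : Fin D.rank} (hi₀ : i₀ ∈ L j) (P : F → Prop) (g : F → ℕ → F)
    (hg : ∀ x, P x → ∀ i ∈ L j, g x (pi i) = g x i ^ (lam (D.simple i) * e)) (hg0 : ∀ x, g x i₀ = x)
    (hP : ∀ f : ℕ → F, (∀ i ∈ L j, f (pi i) = f i ^ (lam (D.simple i) * e)) → P (f i₀)) :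
    Nat.card ↥(US (xg D F) (h.G.Um (h.wJ L j)) ⊓ fixS σ) = Nat.card {x // P x} := by
  classical
  rw [h.corb_card hO hc hU]
  apply Nat.card_congr
  refine Equiv.ofBijective (fun t => ⟨t.1 (D.simple i₀), hP (fun i => t.1 (D.simple i)) t.2.2⟩) ⟨?_, ?_⟩
  · rintro ⟨t, ht, ht'⟩ ⟨s, hs, hs'⟩ he
    have he' : t (D.simple i₀) = s (D.simple i₀) := congrArg Subtype.val he
    apply Subtype.ext
    funext r
    change t r = s r
    by_cases hr : r ∈ h.G.Um (h.wJ L j)
    · obtain ⟨i, hi, rfl⟩ := hU r hr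
      obtain ⟨k, hk⟩ := hO.orb j i₀ hi₀ i hi
      have key : ∀ k, ∃ i' ∈ L j, (i' : ℕ) = pi^[k] i₀ ∧ t (D.simple i') = s (D.simple i') := by
        intro k
        induction k with
        | zero => exact ⟨i₀, hi₀, rfl, he'⟩
        | succ k ih =>
          obtain ⟨i', hi', h1, h2⟩ := ih
          obtain ⟨h3, h4⟩ := hO.orb' j i' hi'
          refine ⟨_, h4, ?_, ?_⟩
          · change pi i' = _
            rw [Function.iterate_succ_apply', ← h1]
          · change t (D.simple (pi i')) = s (D.simple (pi i'))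
            rw [ht' i' hi', hs' i' hi', h2]
      obtain ⟨i', -, h1, h2⟩ := key k
      rw [← h1] at hk
      rw [← hk]; exact h2
    · rw [ht r hr, hs r hr]
  · rintro ⟨x, hx⟩
    let t : ℕ → F := fun r => if hr : ∃ i : Fin D.rank, i ∈ L j ∧ r = D.simple i then g x hr.choose else 0
    have ht : ∀ i ∈ L j, t (D.simple i) = g x i := by
      intro i hi
      have hr : ∃ i' : Fin D.rank, i' ∈ L j ∧ D.simple i = D.simple i' := ⟨i, hi, rfl⟩
      change (if hr : ∃ i' : Fin D.rank, i' ∈ L j ∧ D.simple i = D.simple i' then g x hr.choose else 0) = g x i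
      rw [dif_pos hr]
      have h1 := h.G.simple_inj i.2 hr.choose.2 hr.choose_spec.2
      rw [← h1]
    refine ⟨⟨t, ?_, ?_⟩, ?_⟩
    · intro r hr
      change (if hr : ∃ i' : Fin D.rank, i' ∈ L j ∧ r = D.simple i' then g x hr.choose else 0) = 0
      rw [dif_neg]
      rintro ⟨i', hi', rfl⟩
      exact hr ((h.simple_mem_Um_wJ hO).2 hi')
    · intro i hi
      obtain ⟨h3, h4⟩ := hO.orb' j i hi
      rw [ht i hi]
      change t (D.simple ((⟨pi i, h3⟩ : Fin D.rank) : ℕ)) = _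
      rw [ht _ h4]
      exact hg x hx i hi
    · apply Subtype.ext
      change t (D.simple i₀) = x
      rw [ht i₀ hi₀, hg0]

omit hc in
theorem corb_len (hnd : (L j).Nodup) : len h.G.s (h.wJ L j) = (L j).length := by
  classical
  rw [h.G.len_eq_card_invs, ← List.toFinset_card_of_nodup hnd,
    ← Finset.card_map ⟨h.G.sr, fun a b hab => Fin.ext (h.G.simple_inj a.2 b.2 (congrArg Fin.val hab))⟩]
  congr 1
  ext r
  rw [h.G.mem_invs, ← h.G.mem_Um]
  simp only [Finset.mem_map, List.mem_toFinset, Function.Embedding.coeFn_mk]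
  constructor
  · intro hr
    obtain ⟨i, hi, he⟩ := hU r hr
    exact ⟨i, hi, Fin.ext he.symm⟩
  · rintro ⟨i, hi, rfl⟩
    exact (h.simple_mem_Um_wJ hO).2 hi

end TwCtx

namespace TwGrp
variable {h : TwCtx D N η rc F m rho inv lam pi ep e σ} {G₁ : Subgroup (GL D.Idx F)} (hT : TwGrp h L G₁)
include hT

theorem card_pos₁ [Finite F] {μ : ℕ} (hc : ∀ j, Nat.card ↥(US (xg D F) (h.G.Um (h.wJ L j)) ⊓ fixS σ) ^ μ = Nat.card F ^ len h.G.s (h.wJ L j)) :
    Nat.card ↥(D.posUnipotent F ⊓ G₁) ^ μ = Nat.card F ^ N := by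
  obtain ⟨w, hw, h1⟩ := h.exists_longest
  rw [hT.pos_inf, ← h.G.len_longest h1, ← hT.card_fix hc hw, h.Um_longest h1, h.G.posUnipotent_eq_US]; rfl

end TwGrp
end

namespace WE6
variable {K : Type*} [Field K] [Fintype K] {q : ℕ}

theorem card_fixed' {n : ℕ} (hn : n ≠ 0) (hq : q ≠ 0) (hK : Fintype.card K = q ^ n) : Nat.card {t : K // t ^ q = t} = q := by
  obtain ⟨k, rfl⟩ := Nat.exists_eq_succ_of_ne_zero hq
  exact card_fixed hn hK

theorem cards {σ : ↥(chevE6.group K) →* ↥(chevE6.group K)} (h : Ctx K q σ) (hq : q ≠ 0) (hK : Fintype.card K = q ^ 2) (j : Fin 4) :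
    Nat.card ↥(US (xg chevE6 K) (h.G.Um (h.wJ LL j)) ⊓ fixS σ) = (![q, q, q ^ 2, q ^ 2] : Fin 4 → ℕ) j := by
  have hU := TE6.chk.umS h j (ums j)
  fin_cases j
  · refine (h.corb_card_eq orbL (corb 0) hU in0 (fun t => t ^ q = t) (fun t _ => t) ?_ (fun _ => rfl) ?_).trans (card_fixed' two_ne_zero hq hK)
    · intro x hx i _
      rw [lam_one, one_mul, hx]
    · intro f hf
      have h1 := hf _ in0
      rw [lam_one, one_mul] at h1
      change f (sP PT 1) = f 1 ^ q at h1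
      rw [p1] at h1
      exact h1.symm
  · refine (h.corb_card_eq orbL (corb 1) hU in1 (fun t => t ^ q = t) (fun t _ => t) ?_ (fun _ => rfl) ?_).trans (card_fixed' two_ne_zero hq hK)
    · intro x hx i _
      rw [lam_one, one_mul, hx]
    · intro f hf
      have h1 := hf _ in1
      rw [lam_one, one_mul] at h1
      change f (sP PT 3) = f 3 ^ q at h1
      rw [p3] at h1
      exact h1.symm
  · refine (h.corb_card_eq orbL (corb 2) hU in2 (fun _ => True) (f2 q) ?_ (fun _ => f2_2 _) (fun _ _ => trivial)).trans ?_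
    · intro x _
      exact key2 (pow_pow hK) x
    · change _ = q ^ 2
      rw [← hK, ← Nat.card_eq_fintype_card]
      exact Nat.card_congr (Equiv.subtypeUnivEquiv fun _ => trivial)
  · refine (h.corb_card_eq orbL (corb 3) hU in3 (fun _ => True) (f3 q) ?_ (fun _ => f3_0 _) (fun _ _ => trivial)).trans ?_
    · intro x _
      exact key3 (pow_pow hK) x
    · change _ = q ^ 2
      rw [← hK, ← Nat.card_eq_fintype_card]
      exact Nat.card_congr (Equiv.subtypeUnivEquiv fun _ => trivial)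

theorem lens {σ : ↥(chevE6.group K) →* ↥(chevE6.group K)} (h : Ctx K q σ) (j : Fin 4) :
    len h.G.s (h.wJ LL j) = (![1, 1, 2, 2] : Fin 4 → ℕ) j := by
  rw [h.corb_len orbL (TE6.chk.umS h j (ums j)) (nodup j)]
  fin_cases j <;> rfl

theorem card_sq {σ : ↥(chevE6.group K) →* ↥(chevE6.group K)} (h : Ctx K q σ) (hq : q ≠ 0) (hK : Fintype.card K = q ^ 2) (j : Fin 4) :
    Nat.card ↥(US (xg chevE6 K) (h.G.Um (h.wJ LL j)) ⊓ fixS σ) ^ 2 = Nat.card K ^ len h.G.s (h.wJ LL j) := by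
  rw [cards h hq hK, lens, Nat.card_eq_fintype_card, hK]
  fin_cases j
  · change q ^ 2 = (q ^ 2) ^ 1; ring
  · change q ^ 2 = (q ^ 2) ^ 1; ring
  · rfl
  · rfl

theorem card_pos {σ : ↥(chevE6.group K) →* ↥(chevE6.group K)} (h : Ctx K q σ) (hq : q ≠ 0) (hK : Fintype.card K = q ^ 2) :
    Nat.card ↥(chevE6.posUnipotent K ⊓ twistedE6 K q) = q ^ 36 := by
  have h1 := (grp h (pow_pow hK)).card_pos₁ (card_sq h hq hK)
  rw [Nat.card_eq_fintype_card (α := K), hK, ← pow_mul, mul_comm, pow_mul] at h1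
  exact Nat.pow_left_injective two_ne_zero h1

end WE6

namespace WD4a
variable {K : Type*} [Field K] [Fintype K] {q : ℕ}

theorem cards {σ : ↥(chevD4.group K) →* ↥(chevD4.group K)} (h : Ctx K q σ) (hq : q ≠ 0) (hK : Fintype.card K = q ^ 3) (j : Fin 2) :
    Nat.card ↥(US (xg chevD4 K) (h.G.Um (h.wJ LL j)) ⊓ fixS σ) = (![q, q ^ 3] : Fin 2 → ℕ) j := by
  have hU := TD4.chk.umS h j (ums j)
  fin_cases j
  · refine (h.corb_card_eq orbL (corb 0) hU in0 (fun t => t ^ q = t) (fun t _ => t) ?_ (fun _ => rfl) ?_).trans (WE6.card_fixed' three_ne_zero hq hK)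
    · intro x hx i _
      rw [lam_one, one_mul, hx]
    · intro f hf
      have h1 := hf _ in0
      rw [lam_one, one_mul] at h1
      change f (sP PT 1) = f 1 ^ q at h1
      rw [p1] at h1
      exact h1.symm
  · refine (h.corb_card_eq orbL (corb 1) hU in1 (fun _ => True) (f1 q) ?_ (fun _ => f1_0 _) (fun _ _ => trivial)).trans ?_
    · intro x _
      exact key1 (pow_pow hK) x
    · change _ = q ^ 3
      rw [← hK, ← Nat.card_eq_fintype_card]
      exact Nat.card_congr (Equiv.subtypeUnivEquiv fun _ => trivial)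

theorem lens {σ : ↥(chevD4.group K) →* ↥(chevD4.group K)} (h : Ctx K q σ) (j : Fin 2) :
    len h.G.s (h.wJ LL j) = (![1, 3] : Fin 2 → ℕ) j := by
  rw [h.corb_len orbL (TD4.chk.umS h j (ums j)) (nodup j)]
  fin_cases j <;> rfl

theorem card_cube {σ : ↥(chevD4.group K) →* ↥(chevD4.group K)} (h : Ctx K q σ) (hq : q ≠ 0) (hK : Fintype.card K = q ^ 3) (j : Fin 2) :
    Nat.card ↥(US (xg chevD4 K) (h.G.Um (h.wJ LL j)) ⊓ fixS σ) ^ 3 = Nat.card K ^ len h.G.s (h.wJ LL j) := by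
  rw [cards h hq hK, lens, Nat.card_eq_fintype_card, hK]
  fin_cases j
  · change q ^ 3 = (q ^ 3) ^ 1; ring
  · rfl

theorem card_pos {σ : ↥(chevD4.group K) →* ↥(chevD4.group K)} (h : Ctx K q σ) (hq : q ≠ 0) (hK : Fintype.card K = q ^ 3) :
    Nat.card ↥(chevD4.posUnipotent K ⊓ twistedD4 K q) = q ^ 12 := by
  have h1 := (grp h (pow_pow hK)).card_pos₁ (card_cube h hq hK)
  rw [Nat.card_eq_fintype_card (α := K), hK, ← pow_mul, mul_comm, pow_mul] at h1
  exact Nat.pow_left_injective three_ne_zero h1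

end WD4a
end Cfsg.Agent.H6
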