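import Cfsg.Agent.H6.TwOrb
import Cfsg.Agent.H22.CoxPres

/-!
The group of `ρ`-fixed elements of the Weyl group satisfies the exchange condition with respect to the elements `w_J`.
-/

set_option autoImplicit false
set_option linter.unusedSectionVars false
set_option maxHeartbeats 400000

namespace Cfsg.Agent.H6
open Cfsg.Lie

section abstract_
variable {W ι : Type*} [Group W] {s : ι → W}

theorem exists_switch {P : W → Prop} (h1 : P 1) : ∀ L : List ι, ¬ P (wp s L) →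
    ∃ L₁ j L₂, L = L₁ ++ j :: L₂ ∧ P (wp s L₁) ∧ ¬ P (wp s L₁ * s j) := by
  intro L
  induction L using List.reverseRecOn with
  | nil => intro h; exact absurd h1 h
  | append_singleton L j ih =>
    intro h
    by_cases h2 : P (wp s L)
    · refine ⟨L, j, [], rfl, h2, ?_⟩
      rwa [wp_append, wp_single] at h
    · obtain ⟨L₁, j', L₂, h3, h4, h5⟩ := ih h2
      exact ⟨L₁, j', L₂ ++ [j], by rw [h3, List.append_assoc, List.cons_append], h4, h5⟩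

/-- Bourbaki IV.1.7 Prop. 6 -/
theorem exchange_of_partition (hs : GenInv s) (P : ι → W → Prop) (h1 : ∀ i, P i 1) (h2 : ∀ i w, P i w → ¬ P i (s i * w))
    (h2' : ∀ i w, ¬ P i w → P i (s i * w)) (h3 : ∀ i j w, P i w → ¬ P i (w * s j) → s i * w = w * s j) :
    Exchange s ∧ ∀ i w, P i w ↔ len s w < len s (s i * w) := by
  have key : ∀ i (L : List ι), ¬ P i (wp s L) → ∃ L₁ j L₂, L = L₁ ++ j :: L₂ ∧ s i * wp s L₁ = wp s L₁ * s j := by
    intro i L hL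
    obtain ⟨L₁, j, L₂, h4, h5, h6⟩ := exists_switch (h1 i) L hL
    exact ⟨L₁, j, L₂, h4, h3 i j _ h5 h6⟩
  have hlt : ∀ i w, ¬ P i w → len s (s i * w) < len s w := by
    intro i w hw
    obtain ⟨L, hL, hLw⟩ := hs.exists_red w
    rw [← hLw] at hw
    obtain ⟨L₁, j, L₂, h4, h5⟩ := key i L hw
    have h6 : s i * w = wp s (L₁ ++ L₂) := by
      rw [← hLw, h4]; exact hs.exchange_iff h5
    rw [h6, ← hL]
    have h7 := len_le (s := s) (L₁ ++ L₂)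
    rw [h4]
    simp only [List.length_append, List.length_cons] at *
    omega
  have hiff : ∀ i w, P i w ↔ len s w < len s (s i * w) := by
    intro i w
    constructor
    · intro hw
      have h4 := hlt i _ (h2 i w hw)
      rwa [hs.cancel] at h4
    · intro h4
      by_contra hc
      have := hlt i w hc
      omega
  refine ⟨?_, hiff⟩
  intro i L hL h4
  have h5 : ¬ P i (wp s L) := by
    rw [hiff]; omega
  obtain ⟨L₁, j, L₂, h6, h7⟩ := key i L h5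
  exact ⟨L₁, L₂, j, h6, h7⟩

end abstract_

namespace TwCtx
variable {D : ChevalleyDatum} {N : ℕ} {η : ℕ → ℕ → ℤ} {rc : ℕ → ℕ → ℤ} {F : Type*} [Field F]
  {m : ℕ} {rho inv lam pi : ℕ → ℕ} {ep : ℕ → ℤ} {e : ℕ} {σ : ↥(D.group F) →* ↥(D.group F)}
  {ι : Type} {L : ι → List (Fin D.rank)}
variable (h : TwCtx D N η rc F m rho inv lam pi ep e σ) (hO : TwOrb D N rc rho pi L)

/-- the generators of the group of fixed elements -/
def wS (j : ι) : h.Wr := ⟨h.wJ L j, h.wJ_mem hO j⟩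

include hO

theorem wS_val (j : ι) : (h.wS hO j : h.G.W) = h.wJ L j := rfl

theorem genInvS : GenInv (h.wS hO) := by
  constructor
  · intro j
    exact Subtype.ext (h.wJ_sq hO j)
  · rw [eq_top_iff]
    rintro ⟨w, hw⟩ -
    have key : ∀ hw : w ∈ h.Wr, (⟨w, hw⟩ : h.Wr) ∈ Subgroup.closure (Set.range (h.wS hO)) := by
      apply h.Wr_induction hO (p := fun w => ∀ hw : w ∈ h.Wr, (⟨w, hw⟩ : h.Wr) ∈ Subgroup.closure (Set.range (h.wS hO))) _ _ hw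
      · intro _; exact one_mem _
      · intro w _ j _ ih hw
        have h1 := ih (mul_mem hw (h.wJ_mem hO j))
        have h2 : (⟨w, hw⟩ : h.Wr) = ⟨w * h.wJ L j, mul_mem hw (h.wJ_mem hO j)⟩ * h.wS hO j := by
          apply Subtype.ext
          change w = w * h.wJ L j * h.wJ L j
          rw [mul_assoc, h.wJ_sq hO, mul_one]
        rw [h2]
        exact mul_mem h1 (Subgroup.subset_closure ⟨j, rfl⟩)
    exact key hw

theorem pos_all {w : h.G.W} {j : ι} (h1 : ∀ a ∈ L j, N ≤ (w.1 (h.G.sr a) : ℕ)) {r : Fin D.nroots} (hr : (r : ℕ) ∈ h.G.Um (h.wJ L j)) :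
    N ≤ (w.1 r : ℕ) := by
  by_contra hc
  push Not at hc
  have h2 := (h.mem_Um_wJ hO (r := r)).1 hr
  have h3 : ∀ k : Fin D.rank, 0 ≤ rc (w.1 r) k := by
    intro k
    rw [h.G.rc_W w r k k.2]
    apply Finset.sum_nonneg
    intro l _
    by_cases hl : l ∈ L j
    · exact mul_nonneg (h.G.rc_pos r r.2 h2.1 l l.2) (h.G.rc_pos _ (w.1 (h.G.sr l)).2 (h1 l hl) k k.2)
    · rw [h2.2 l hl, zero_mul]
  have h4 := h.G.rc_neg_root (w.1 r).2 hc
  have h5 : ∀ k < D.rank, rc (w.1 r) k = 0 := fun k hk => le_antisymm (h4 k hk) (h3 ⟨k, hk⟩)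
  have h7 : ((w.1 r : Fin D.nroots) : ℕ) = D.neg (w.1 r) := by
    apply h.G.rc_inj (w.1 r).2 (h.G.neg_lt' (w.1 r).2)
    intro k hk
    rw [h.G.rc_neg k hk _ (w.1 r).2, h5 k hk, neg_zero]
  have h8 := h.G.N_le_neg (w.1 r).2 hc
  omega

/-- dichotomy -/
theorem dich {w : h.G.W} (hw : w ∈ h.Wr) (j : ι) :
    (∀ r : Fin D.nroots, (r : ℕ) ∈ h.G.Um (h.wJ L j) → N ≤ (w.1 r : ℕ)) ∨
    (∀ r : Fin D.nroots, (r : ℕ) ∈ h.G.Um (h.wJ L j) → (w.1 r : ℕ) < N) := by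
  by_cases h1 : ∀ a ∈ L j, N ≤ (w.1 (h.G.sr a) : ℕ)
  · left
    intro r hr
    exact h.pos_all hO h1 hr
  · right
    push Not at h1
    obtain ⟨a, ha, h2⟩ := h1
    intro r hr
    exact (h.G.mem_Um.1 (h.neg_all hO hw ha h2 hr)).2

/-- there is an element in `Um w_J` -/
theorem exists_mem_Um (j : ι) : ∃ a ∈ L j, ((h.G.sr a : Fin D.nroots) : ℕ) ∈ h.G.Um (h.wJ L j) := by
  obtain ⟨a, ha⟩ := List.exists_mem_of_ne_nil _ (hO.ne j)
  exact ⟨a, ha, (h.simple_mem_Um_wJ hO).2 ha⟩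

/-- the predicate `s_i w > w` -/
def pd (L : ι → List (Fin D.rank)) (i : ι) (w : h.Wr) : Prop := ∀ r : Fin D.nroots, (r : ℕ) ∈ h.G.Um (h.wJ L i) → N ≤ ((w⁻¹ : h.Wr).1.1 r : ℕ)

theorem not_pd {i : ι} {w : h.Wr} (h1 : ¬ h.pd L i w) : ∀ r : Fin D.nroots, (r : ℕ) ∈ h.G.Um (h.wJ L i) → ((w⁻¹ : h.Wr).1.1 r : ℕ) < N :=
  (h.dich hO (w⁻¹ : h.Wr).2 i).resolve_left h1

theorem not_pd' {i : ι} {w : h.Wr} (h1 : ∃ r : Fin D.nroots, (r : ℕ) ∈ h.G.Um (h.wJ L i) ∧ ((w⁻¹ : h.Wr).1.1 r : ℕ) < N) : ¬ h.pd L i w := by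
  obtain ⟨r, hr, h2⟩ := h1
  intro h3
  have := h3 r hr
  omega

/-- `w_J` maps `Um w_J` to its negative -/
theorem wJ_neg {i : ι} {r : Fin D.nroots} (hr : (r : ℕ) ∈ h.G.Um (h.wJ L i)) :
    ((h.G.ngf ((h.wJ L i).1 r) : Fin D.nroots) : ℕ) ∈ h.G.Um (h.wJ L i) := by
  have hvv : ∀ s, (h.wJ L i).1 ((h.wJ L i).1 s) = s := by
    intro s
    exact congrArg (fun x : h.G.W => x.1 s) (h.wJ_sq hO i)
  rw [h.G.mem_Um] at hr ⊢
  rw [h.G.pos_ngf_iff, h.G.W_neg, hvv]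
  exact ⟨hr.2, (h.G.ngf_lt_iff r).2 hr.1⟩

theorem wJ_wJ (i : ι) (s : Fin D.nroots) : (h.wJ L i).1 ((h.wJ L i).1 s) = s :=
  congrArg (fun x : h.G.W => x.1 s) (h.wJ_sq hO i)

theorem partition_C {i j : ι} {w : h.Wr} (h1 : h.pd L i w) (h2 : ¬ h.pd L i (w * h.wS hO j)) : h.wS hO i * w = w * h.wS hO j := by
  obtain ⟨v, hv⟩ : ∃ v : h.Wr, v = w⁻¹ := ⟨_, rfl⟩
  have hvi : ∀ x : Fin D.nroots, (v⁻¹ : h.Wr).1.1 (v.1.1 x) = x := by
    intro x
    have := congrArg (fun y : h.Wr => y.1.1 x) (inv_mul_cancel v)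
    exact this
  have hvi' : ∀ x : Fin D.nroots, v.1.1 ((v⁻¹ : h.Wr).1.1 x) = x := by
    intro x
    have := congrArg (fun y : h.Wr => y.1.1 x) (mul_inv_cancel v)
    exact this
  have g1 : ∀ r : Fin D.nroots, (r : ℕ) ∈ h.G.Um (h.wJ L i) → N ≤ (v.1.1 r : ℕ) := by
    intro r hr; rw [hv]; exact h1 r hr
  have g2 : ∀ r : Fin D.nroots, (r : ℕ) ∈ h.G.Um (h.wJ L i) → ((h.wJ L j).1 (v.1.1 r) : ℕ) < N := by
    intro r hr
    have h3 := h.not_pd hO h2 r hr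
    rw [mul_inv_rev, (h.genInvS hO).inv_eq, ← hv] at h3
    exact h3
  have g3 : ∀ r : Fin D.nroots, (r : ℕ) ∈ h.G.Um (h.wJ L i) → ((v.1.1 r : Fin D.nroots) : ℕ) ∈ h.G.Um (h.wJ L j) := by
    intro r hr
    rw [h.G.mem_Um]
    exact ⟨g1 r hr, g2 r hr⟩
  obtain ⟨b, hb, hbU⟩ := h.exists_mem_Um hO i
  have g4 : ∀ r : Fin D.nroots, (r : ℕ) ∈ h.G.Um (h.wJ L j) → N ≤ ((v⁻¹ : h.Wr).1.1 r : ℕ) := by
    rcases h.dich hO (v⁻¹ : h.Wr).2 j with h3 | h3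
    · exact h3
    · exfalso
      have h4 := h3 _ (g3 _ hbU)
      rw [hvi] at h4
      have := h.G.sr_pos b
      omega
  have g5 : ∀ r : Fin D.nroots, (r : ℕ) ∈ h.G.Um (h.wJ L j) → (((v⁻¹ : h.Wr).1.1 r : Fin D.nroots) : ℕ) ∈ h.G.Um (h.wJ L i) := by
    intro r hr
    rw [h.G.mem_Um]
    refine ⟨g4 r hr, ?_⟩
    have h3 := h.dich hO (mul_mem (h.wJ_mem hO i) (v⁻¹ : h.Wr).2) j
    rcases h3 with h3 | h3
    · exfalso
      have h4 := h3 _ (g3 _ hbU)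
      change N ≤ ((h.wJ L i).1 ((v⁻¹ : h.Wr).1.1 (v.1.1 (h.G.sr b))) : ℕ) at h4
      rw [hvi] at h4
      have := (h.G.mem_Um.1 hbU).2
      omega
    · exact h3 r hr
  -- coordinates outside the orbit
  have g6 : ∀ (r : Fin D.nroots) (k : Fin D.rank), k ∉ L i → rc ((v⁻¹ : h.Wr).1.1 ((h.wJ L j).1 r)) k = rc ((v⁻¹ : h.Wr).1.1 r) k := by
    intro r k hk
    rw [h.G.rc_W _ _ k k.2, h.G.rc_W _ r k k.2]
    apply Finset.sum_congr rfl
    intro l _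
    by_cases hl : l ∈ L j
    · have h3 := g5 (h.G.sr l) ((h.simple_mem_Um_wJ hO).2 hl)
      have h4 := ((h.mem_Um_wJ hO).1 h3).2 k hk
      rw [h4, mul_zero, mul_zero]
    · have h3 := h.G.rc_wp (L j) r (i := l) hl
      unfold wJ
      rw [h3]
  have hy : (v⁻¹ : h.Wr) * h.wS hO j * v * h.wS hO i = 1 := by
    apply Subtype.ext
    apply h.G.eq_one_of_pos
    intro a
    change N ≤ ((v⁻¹ : h.Wr).1.1 ((h.wJ L j).1 (v.1.1 ((h.wJ L i).1 (h.G.sr a)))) : ℕ)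
    by_cases ha : a ∈ L i
    · have h3 := h.wJ_neg hO (r := h.G.sr a) ((h.simple_mem_Um_wJ hO (j := i)).2 ha)
      obtain ⟨β, hβ⟩ : ∃ β, β = h.G.ngf ((h.wJ L i).1 (h.G.sr a)) := ⟨_, rfl⟩
      have h4 : (h.wJ L i).1 (h.G.sr a) = h.G.ngf β := by rw [hβ, h.G.ngf_ngf]
      rw [← hβ] at h3
      rw [h4, h.G.W_neg, h.G.W_neg]
      exact g4 _ (h.wJ_neg hO (g3 β h3))
    · by_contra hc
      push Not at hc
      have h3 := h.G.rc_neg_root (((v⁻¹ : h.Wr).1.1 ((h.wJ L j).1 (v.1.1 ((h.wJ L i).1 (h.G.sr a)))))).2 hc a a.2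
      rw [g6 _ a ha, hvi] at h3
      have h4 := h.G.rc_wp (L i) (h.G.sr a) (i := a) ha
      change rc ((h.wJ L i).1 (h.G.sr a)) a = _ at h4
      rw [h4] at h3
      have h5 := h.G.rc_simple a a.2 a a.2
      rw [if_pos rfl] at h5
      change rc (D.simple a) a ≤ 0 at h3
      omega
  have hw : w = v⁻¹ := by rw [hv, inv_inv]
  rw [hw]
  have h3 : (v⁻¹ : h.Wr) * h.wS hO j = (v * h.wS hO i)⁻¹ := by
    rw [eq_inv_iff_mul_eq_one, ← mul_assoc]; exact hy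
  rw [h3, mul_inv_rev, (h.genInvS hO).inv_eq]

theorem exchangeS_aux : Exchange (h.wS hO) ∧ ∀ i w, h.pd L i w ↔ len (h.wS hO) w < len (h.wS hO) (h.wS hO i * w) := by
  have hinv : ∀ (i : ι) (w : h.Wr), (h.wS hO i * w)⁻¹ = w⁻¹ * h.wS hO i := by
    intro i w; rw [mul_inv_rev, (h.genInvS hO).inv_eq]
  apply exchange_of_partition (h.genInvS hO) (h.pd L)
  · intro i r hr
    exact (h.G.mem_Um.1 hr).1
  · intro i w hw
    obtain ⟨b, hb, hbU⟩ := h.exists_mem_Um hO i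
    apply h.not_pd' hO
    refine ⟨h.G.sr b, hbU, ?_⟩
    rw [hinv]
    change ((w⁻¹ : h.Wr).1.1 ((h.wJ L i).1 (h.G.sr b)) : ℕ) < N
    have h3 := hw _ (h.wJ_neg hO hbU)
    rw [h.G.W_neg, h.G.pos_ngf_iff] at h3
    exact h3
  · intro i w hw r hr
    rw [hinv]
    change N ≤ ((w⁻¹ : h.Wr).1.1 ((h.wJ L i).1 r) : ℕ)
    have h3 := h.not_pd hO hw _ (h.wJ_neg hO hr)
    rw [h.G.W_neg, h.G.ngf_lt_iff] at h3
    exact h3
  · intro i j w h1 h2
    exact h.partition_C hO h1 h2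

theorem exchangeS : Exchange (h.wS hO) := (h.exchangeS_aux hO).1

theorem wS_ne_one (i : ι) : h.wS hO i ≠ 1 := by
  intro h1
  have h2 := h.len_wJ_pos hO i
  have h3 : h.wJ L i = 1 := congrArg Subtype.val h1
  rw [h3, h.G.genInv.len_one] at h2
  exact lt_irrefl _ h2

theorem wS_inj : Function.Injective (h.wS hO) := by
  intro i j hij
  exact h.wJ_inj hO (congrArg Subtype.val hij)

/-- additivity of the length of the ambient Weyl group -/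
theorem len_wS_mul {i : ι} {w : h.Wr} (h1 : len (h.wS hO) w < len (h.wS hO) (h.wS hO i * w)) :
    len h.G.s (h.wS hO i * w : h.Wr).1 = len h.G.s (h.wJ L i) + len h.G.s w.1 := by
  have h2 := ((h.exchangeS_aux hO).2 i w).2 h1
  have h3 : h.G.Um (h.wJ L i) ⊆ h.G.Um ((h.wS hO i * w : h.Wr)⁻¹).1 := by
    intro r hr
    have hr' := hr.1
    have h4 := h2 _ (h.wJ_neg hO (r := ⟨r, hr'⟩) hr)
    rw [h.G.W_neg, h.G.pos_ngf_iff] at h4
    refine ⟨hr', hr.2.1, ?_⟩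
    rw [mul_inv_rev, (h.genInvS hO).inv_eq]
    exact h4
  have h4 := h.G.len_split (h.wJ_sq hO i) h3
  have h5 : ((h.wS hO i * w : h.Wr)⁻¹).1 = ((h.wS hO i * w : h.Wr).1)⁻¹ := rfl
  have h6 : ((h.wS hO i * w : h.Wr)⁻¹).1 * h.wJ L i = (w.1)⁻¹ := by
    have : (h.wS hO i * w : h.Wr)⁻¹ * h.wS hO i = w⁻¹ := by
      rw [mul_inv_rev, (h.genInvS hO).inv_eq, (h.genInvS hO).cancel']
    exact congrArg Subtype.val this
  rw [h6, h.G.genInv.len_inv] at h4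
  rw [h5, h.G.genInv.len_inv] at h4
  omega

end TwCtx
end Cfsg.Agent.H6
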