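import Cfsg.Agent.H6.PVmod2
import Cfsg.Agent.H6.TabF4

/-!
The identity giving the monomial element in the rank one group of type Sz in 2F4.
-/

set_option autoImplicit false
set_option maxRecDepth 10000

namespace Cfsg.Agent.H6
open Cfsg.Lie
namespace WF4

def w1 : List (ℕ × ℤ) := [(20, 1), (22, 1), (19, 1)]
def wf : List (ℕ × ℤ) := [(27, 1), (25, 1), (28, 1)]
def wna : List (ℕ × ℤ) := [(27, 1), (20, 1), (27, 1)]
def wnb : List (ℕ × ℤ) := [(25, 1), (22, 1), (25, 1)]

theorem chk1 : chkEqm 2 4 48 33 TF4.G TF4.CA TF4.CO w1 (wf ++ (wna ++ wnb ++ wna ++ wnb) ++ wf ++ wf) = true := by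
  decide +kernel

end WF4
end Cfsg.Agent.H6
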