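import Cfsg.Agent.H6.TwOrbTab
import Cfsg.Agent.H6.TwComm3
import Cfsg.Agent.H6.TwCard
import Cfsg.Agent.H6.TwF4T
import Cfsg.Prelude.Def_LieTwisted

/-!
The large Ree groups 2F4(q): the context, orbit of type A1 x A1, relations in the orbit of type B2.
-/

set_option autoImplicit false
set_option linter.unusedSectionVars false
set_option maxHeartbeats 400000
set_option maxRecDepth 10000

namespace Cfsg.Agent.H6
open Cfsg.Lie
open scoped Matrix

namespace WF4

abbrev Ctx (K : Type*) [Field K] (e : ℕ) (σ : ↥(chevF4.group K) →* ↥(chevF4.group K)) : Prop :=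
  TwCtx chevF4 24 (etF TF4.E) (cO TF4.MO) K 2 (sP RT) (sP IT) (lamF 2 LT) (sP PT) (epF ET) e σ

/-- field hypotheses -/
structure Fl (K : Type*) [Field K] (e : ℕ) : Prop where
  two : (2 : K) = 0
  add : ∀ a b : K, (a + b) ^ e = a ^ e + b ^ e
  add2 : ∀ a b : K, (a + b) ^ (2 * e) = a ^ (2 * e) + b ^ (2 * e)
  sq : ∀ a : K, (a ^ e) ^ (2 * e) = a

theorem lam_or (r : ℕ) : lamF 2 LT r = 1 ∨ lamF 2 LT r = 2 := by
  unfold lamF
  cases Nat.beq (Nat.land (Nat.shiftRight LT r) (nat_lit 1)) (nat_lit 0)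
  · right; rfl
  · left; rfl

theorem fl_of_card {K : Type*} [Field K] [Fintype K] {m : ℕ} (hK : Fintype.card K = 2 ^ (2 * m + 1)) : Fl K (2 ^ m) where
  two := by
    have := charP_of_card Nat.prime_two (Nat.succ_ne_zero _) hK
    exact_mod_cast CharP.cast_eq_zero K 2
  add := ff_add Nat.prime_two (Nat.succ_ne_zero _) hK
  add2 := by
    intro a b
    have := ff_add (a := m + 1) Nat.prime_two (Nat.succ_ne_zero _) hK a b
    rwa [pow_succ, mul_comm (2 ^ m) 2] at this
  sq := by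
    intro a
    rw [← pow_mul]
    have : 2 ^ m * (2 * 2 ^ m) = Fintype.card K := by rw [hK]; ring
    rw [this]
    exact FiniteField.pow_card a

theorem exists_ctx {K : Type*} [Field K] [Fintype K] {m : ℕ} (hK : Fintype.card K = 2 ^ (2 * m + 1)) :
    ∃ σ, Ctx K (2 ^ m) σ := by
  have hf := fl_of_card hK
  refine H6.exists_ctx TF4.good TF4.ext tw (by exact_mod_cast hf.two) ?_ ?_
  · intro r _ t u
    rcases lam_or r with h | h
    · rw [h, one_mul]; exact hf.add t u
    · rw [h]; exact hf.add2 t u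
  · intro r _
    rcases lam_or r with h | h
    · rw [h, one_mul]; exact ff_surj Nat.prime_two (Nat.succ_ne_zero _) hK
    · rw [h]
      have := ff_surj (a := m + 1) Nat.prime_two (Nat.succ_ne_zero _) hK
      rwa [pow_succ, mul_comm (2 ^ m) 2] at this

/-- the orbit words with the right type -/
def LL : Fin 2 → List (Fin chevF4.rank) := L
theorem orbL : TwOrb chevF4 24 (cO TF4.MO) (sP RT) (sP PT) LL := orb

theorem nr : chevF4.nroots = 48 := by decide +kernel

/-! ### the first orbit -/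

theorem nodup0 : (L 0).Nodup := by decide +kernel
theorem ort0 : chkOrt 48 33 TF4.G TF4.S ((L 0).map Fin.val) = true := by decide +kernel
theorem ums0 : chkUmS 48 24 TF4.P TF4.S ((L 0).map Fin.val) = true := by decide +kernel

theorem corb0 {K : Type*} [Field K] : COrb chevF4 K (LL 0) := TF4.chk.corb TF4.ext nodup0 ort0

theorem s0 : chevF4.simple 0 = f4p1 := by decide +kernel
theorem s1 : chevF4.simple 1 = f4a := by decide +kernel
theorem s2 : chevF4.simple 2 = f4b := by decide +kernel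
theorem s3 : chevF4.simple 3 = f4p4 := by decide +kernel
theorem m0 : chevF4.neg f4p1 = f4m1 := by decide +kernel
theorem m3 : chevF4.neg f4p4 = f4m4 := by decide +kernel
theorem p0 : sP PT 0 = 3 := by decide +kernel
theorem p1 : sP PT 1 = 2 := by decide +kernel
theorem p2 : sP PT 2 = 1 := by decide +kernel
theorem p3 : sP PT 3 = 0 := by decide +kernel
theorem l0 : lamF 2 LT (chevF4.simple 0) = 2 := by decide +kernel
theorem l1 : lamF 2 LT (chevF4.simple 1) = 2 := by decide +kernel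
theorem l2 : lamF 2 LT (chevF4.simple 2) = 1 := by decide +kernel
theorem l3 : lamF 2 LT (chevF4.simple 3) = 1 := by decide +kernel

section
variable {K : Type*} [Field K] {e : ℕ}

theorem pw0 (b : Bool) (f : ℕ → K) : pw chevF4 K b (LL 0) f =
    wg chevF4 K [(cond b f4p1 f4m1, f 0), (cond b f4p4 f4m4, f 3)] := by
  rw [pw_eq_wg, ← m0, ← m3, ← s0, ← s3]; rfl

theorem mem0 : ∀ i ∈ LL 0, (i : ℕ) = 0 ∨ (i : ℕ) = 3 := by
  have h : ∀ i ∈ L 0, (i : ℕ) = 0 ∨ (i : ℕ) = 3 := by decide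
  exact h
theorem in0 : (⟨0, by decide⟩ : Fin chevF4.rank) ∈ LL 0 := by
  have h : (0 : Fin 4) ∈ L 0 := by decide
  exact h
theorem in3 : (⟨3, by decide⟩ : Fin chevF4.rank) ∈ LL 0 := by
  have h : (3 : Fin 4) ∈ L 0 := by decide
  exact h

theorem gen_mem (b : Bool) (f : ℕ → K) (hf : ∀ i ∈ LL 0, f (sP PT i) = f i ^ (lamF 2 LT (chevF4.simple i) * e)) :
    pw chevF4 K b (LL 0) f ∈ twistedF4 K e := by
  have h := hf _ in3
  change f (sP PT 3) = f 3 ^ (lamF 2 LT (chevF4.simple 3) * e) at h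
  rw [p3, l3, one_mul] at h
  rw [pw0]
  apply mem_gen TF4.good
  left
  refine ⟨f 3, ?_⟩
  cases b
  · right; change [(f4m1, f 0), (f4m4, f 3)] = [(f4m1, f 3 ^ e), (f4m4, f 3)]; rw [h]
  · left; change [(f4p1, f 0), (f4p4, f 3)] = [(f4p1, f 3 ^ e), (f4p4, f 3)]; rw [h]

/-- coefficients -/
def f0 (e : ℕ) (t : K) : ℕ → K := fun i => if i = 0 then t ^ e else t
theorem f0_0 (t : K) : f0 e t 0 = t ^ e := if_pos rfl
theorem f0_3 (t : K) : f0 e t 3 = t := if_neg (by decide)

theorem key0 (hf : Fl K e) (t : K) : ∀ i ∈ LL 0, f0 e t (sP PT i) = f0 e t (i : ℕ) ^ (lamF 2 LT (chevF4.simple i) * e) := by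
  intro i hi
  rcases mem0 i hi with hi | hi
  · rw [hi, p0, l0, f0_0, f0_3, hf.sq]
  · rw [hi, p3, l3, f0_0, f0_3, one_mul]

theorem pair_eq (b : Bool) (t : K) : wg chevF4 K (f4PairWord e (cond b f4p1 f4m1) (cond b f4p4 f4m4) t) = pw chevF4 K b (LL 0) (f0 e t) := by
  rw [pw0, f0_0, f0_3]; rfl

/-! ### the second orbit -/

theorem ctp : chevF4.commTerms 27 25 = [(28, -1, 1, 1), (30, -1, 2, 1)] := by decide +kernel
theorem ctn : chevF4.commTerms 20 22 = [(19, 1, 1, 1), (17, -1, 2, 1)] := by decide +kernel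

noncomputable def Xa (K : Type*) [Field K] (b : Bool) (z : K) : GL chevF4.Idx K := xg chevF4 K (cond b 27 20) z
noncomputable def Xb (K : Type*) [Field K] (b : Bool) (z : K) : GL chevF4.Idx K := xg chevF4 K (cond b 25 22) z
noncomputable def Xc (K : Type*) [Field K] (b : Bool) (z : K) : GL chevF4.Idx K := xg chevF4 K (cond b 28 19) z
noncomputable def Xd (K : Type*) [Field K] (b : Bool) (z : K) : GL chevF4.Idx K := xg chevF4 K (cond b 30 17) z

theorem cd_comm (h2 : (2 : K) = 0) (b : Bool) (p q : K) : Commute (Xc K b p) (Xd K b q) := by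
  have k : ∀ b : Bool, (cond b 28 19 : ℕ) < chevF4.nroots ∧ (cond b 30 17 : ℕ) < chevF4.nroots ∧ (cond b 30 17 : ℕ) ≠ chevF4.neg (cond b 28 19) ∧
    cm0 2 chevF4.chainEntry (cond b 28 19) (cond b 30 17) = true := by decide +kernel
  obtain ⟨k1, k2, k3, k4⟩ := k b
  exact comm_of_cm0 TF4.good TF4.ext (m := 2) (by exact_mod_cast h2) k1 k2 k3 k4 p q

/-- the commutator relation -/
theorem rel_ba (h2 : (2 : K) = 0) (b : Bool) (x y : K) : Xb K b y * Xa K b x = Xa K b x * Xb K b y * (Xc K b (x * y) * Xd K b (x ^ 2 * y)) := by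
  have hn : ∀ z : K, -z = z := by
    intro z
    have h3 : z + z = 0 := by rw [← two_mul, h2, zero_mul]
    exact neg_eq_of_add_eq_zero_left h3
  cases b
  · have h := TF4.good.comm (F := K) TF4.ext (r := 20) (s := 22) (by decide +kernel) (by decide +kernel) (by decide) (by decide +kernel) x y
    change xg chevF4 K 22 y * xg chevF4 K 20 x = xg chevF4 K 20 x * xg chevF4 K 22 y * (xg chevF4 K 19 (x * y) * xg chevF4 K 17 (x ^ 2 * y))
    rw [h]
    congr 1
    unfold ChevalleyDatum.commWord wg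
    rw [ctn]
    simp only [List.map_cons, List.map_nil, List.prod_cons, List.prod_nil, mul_one, pow_one]
    congr 1
    · congr 1; push_cast; try ring_nf
      try exact hn _
    · congr 1; push_cast; try ring_nf
      try exact hn _
  · have h := TF4.good.comm (F := K) TF4.ext (r := 27) (s := 25) (by decide +kernel) (by decide +kernel) (by decide) (by decide +kernel) x y
    change xg chevF4 K 25 y * xg chevF4 K 27 x = xg chevF4 K 27 x * xg chevF4 K 25 y * (xg chevF4 K 28 (x * y) * xg chevF4 K 30 (x ^ 2 * y))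
    rw [h]
    congr 1
    unfold ChevalleyDatum.commWord wg
    rw [ctp]
    simp only [List.map_cons, List.map_nil, List.prod_cons, List.prod_nil, mul_one, pow_one]
    congr 1
    · congr 1; push_cast; try ring_nf
      try exact hn _
    · congr 1; push_cast; try ring_nf
      try exact hn _

theorem Xc_add (b : Bool) (p q : K) : Xc K b (p + q) = Xc K b p * Xc K b q := TF4.good.xg_add _ _ _
theorem Xd_add (b : Bool) (p q : K) : Xd K b (p + q) = Xd K b p * Xd K b q := TF4.good.xg_add _ _ _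

theorem cd_mul (h2 : (2 : K) = 0) (b : Bool) (p q p' q' : K) : Xc K b p * Xd K b q * (Xc K b p' * Xd K b q') = Xc K b (p + p') * Xd K b (q + q') := by
  rw [Xc_add, Xd_add]
  calc Xc K b p * Xd K b q * (Xc K b p' * Xd K b q') = Xc K b p * (Xd K b q * Xc K b p') * Xd K b q' := by simp only [mul_assoc]
    _ = _ := by rw [← (cd_comm h2 b p' q).eq]; simp only [mul_assoc]

/-- normal form -/
noncomputable def NF (K : Type*) [Field K] (b : Bool) (x y p q : K) : GL chevF4.Idx K :=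
  Xa K b x * Xb K b y * (Xc K b p * Xd K b q)

theorem rr : ∀ b : Bool, sP RT (cond b 27 20) = cond b 25 22 ∧ sP RT (cond b 25 22) = cond b 27 20 ∧ sP RT (cond b 28 19) = cond b 30 17 ∧
    sP RT (cond b 30 17) = cond b 28 19 ∧ lamF 2 LT (cond b 27 20) = 2 ∧ lamF 2 LT (cond b 25 22) = 1 ∧ lamF 2 LT (cond b 28 19) = 2 ∧
    lamF 2 LT (cond b 30 17) = 1 ∧ epF ET (cond b 27 20) = 1 ∧ epF ET (cond b 25 22) = 1 ∧ epF ET (cond b 28 19) = 1 ∧ epF ET (cond b 30 17) = 1 ∧
    (cond b 27 20 : ℕ) < chevF4.nroots ∧ (cond b 25 22 : ℕ) < chevF4.nroots ∧ (cond b 28 19 : ℕ) < chevF4.nroots ∧ (cond b 30 17 : ℕ) < chevF4.nroots := by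
  decide +kernel

variable {σ : ↥(chevF4.group K) →* ↥(chevF4.group K)} (h : Ctx K e σ) (hf : Fl K e)

theorem Xa_mem (b : Bool) (z : K) : Xa K b z ∈ chevF4.group K := TF4.good.xg_mem_group _ _
theorem Xb_mem (b : Bool) (z : K) : Xb K b z ∈ chevF4.group K := TF4.good.xg_mem_group _ _
theorem Xc_mem (b : Bool) (z : K) : Xc K b z ∈ chevF4.group K := TF4.good.xg_mem_group _ _
theorem Xd_mem (b : Bool) (z : K) : Xd K b z ∈ chevF4.group K := TF4.good.xg_mem_group _ _

include h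

theorem sgf_Xa (b : Bool) (z : K) : sgf σ (Xa K b z) = Xb K b (z ^ (2 * e)) := by
  obtain ⟨h1, h2, h3, h4, h5, h6, h7, h8, h9, h10, h11, h12, h13, h14, h15, h16⟩ := rr b
  unfold Xa Xb
  rw [h.S.x _ h13]
  unfold tX
  rw [h1, h5, h9, Int.cast_one, one_mul]

theorem sgf_Xb (b : Bool) (z : K) : sgf σ (Xb K b z) = Xa K b (z ^ e) := by
  obtain ⟨h1, h2, h3, h4, h5, h6, h7, h8, h9, h10, h11, h12, h13, h14, h15, h16⟩ := rr b
  unfold Xa Xb
  rw [h.S.x _ h14]
  unfold tX
  rw [h2, h6, h10, Int.cast_one, one_mul, one_mul]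

theorem sgf_Xc (b : Bool) (z : K) : sgf σ (Xc K b z) = Xd K b (z ^ (2 * e)) := by
  obtain ⟨h1, h2, h3, h4, h5, h6, h7, h8, h9, h10, h11, h12, h13, h14, h15, h16⟩ := rr b
  unfold Xc Xd
  rw [h.S.x _ h15]
  unfold tX
  rw [h3, h7, h11, Int.cast_one, one_mul]

theorem sgf_Xd (b : Bool) (z : K) : sgf σ (Xd K b z) = Xc K b (z ^ e) := by
  obtain ⟨h1, h2, h3, h4, h5, h6, h7, h8, h9, h10, h11, h12, h13, h14, h15, h16⟩ := rr b
  unfold Xc Xd
  rw [h.S.x _ h16]
  unfold tX
  rw [h4, h8, h12, Int.cast_one, one_mul, one_mul]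

include hf

theorem sgf_NF (b : Bool) (x y p q : K) : sgf σ (NF K b x y p q) =
    NF K b (y ^ e) (x ^ (2 * e)) (y ^ e * x ^ (2 * e) + q ^ e) ((y ^ e) ^ 2 * x ^ (2 * e) + p ^ (2 * e)) := by
  unfold NF
  have ma := Xa_mem b x
  have mb := Xb_mem b y
  have mc := Xc_mem b p
  have md := Xd_mem b q
  rw [sgf_mul (mul_mem ma mb) (mul_mem mc md), sgf_mul ma mb, sgf_mul mc md, sgf_Xa h, sgf_Xb h, sgf_Xc h, sgf_Xd h, rel_ba hf.two,
    ← (cd_comm hf.two b (q ^ e) (p ^ (2 * e))).eq, mul_assoc, cd_mul hf.two]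

/-- the elements of the generating set -/
noncomputable def RF (K : Type*) [Field K] (e : ℕ) (b : Bool) (t u : K) : GL chevF4.Idx K := NF K b (t ^ e) t (t ^ (e + 1) + u) (u ^ (2 * e))

/-- the fixed elements -/
theorem RF_fix (b : Bool) (t u : K) : RF K e b t u ∈ fixS σ := by
  unfold RF
  constructor
  · exact mul_mem (mul_mem (Xa_mem b _) (Xb_mem b _)) (mul_mem (Xc_mem b _) (Xd_mem b _))
  · rw [sgf_NF h hf]
    have e1 : ∀ a : K, (a ^ e) ^ (2 * e) = a := hf.sq
    have e2 : (t ^ (e + 1) + u) ^ (2 * e) = t * t ^ (2 * e) + u ^ (2 * e) := by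
      rw [hf.add2, pow_succ, mul_pow, e1]
    have e3 : (u ^ (2 * e)) ^ e = u := by rw [← pow_mul, mul_comm, pow_mul, e1]
    rw [e1, e2, e3]
    congr 1
    · ring
    · have e4 : (t ^ e) ^ 2 * t = t * t ^ (2 * e) := by ring
      rw [e4, ← add_assoc, ← two_mul, hf.two, zero_mul, zero_add]

end
end WF4
end Cfsg.Agent.H6
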