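import Cfsg.Agent.H6.TwTorE6
import Cfsg.Agent.H6.TwTorD4
import Cfsg.Agent.H6.ChevSimple
import Cfsg.Agent.H6.TwBN

/-!
Perfectness of twisted groups: general lemmas.
-/

set_option autoImplicit false
set_option linter.unusedSectionVars false
set_option maxHeartbeats 400000
set_option maxRecDepth 10000

namespace Cfsg.Agent.H6
open Cfsg.Lie
open scoped Matrix

section
variable {D : ChevalleyDatum} {N : ℕ} {η : ℕ → ℕ → ℤ} {rc : ℕ → ℕ → ℤ} {F : Type*} [Field F]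

theorem Good.isChr_PhiH (hG : Good D N η rc) (c : Fin D.rank → Fˣ) : IsChr D (fun s => ∏ k : Fin D.rank, c k ^ D.cartan k s) := by
  have h1 := hG.isChr_cartan (F := F) (fun k => if h : k < D.rank then c ⟨k, h⟩ else 1)
  have h2 : (fun s => ∏ k ∈ Finset.range D.rank, (if h : k < D.rank then c ⟨k, h⟩ else 1) ^ D.cartan k s) =
      fun s => ∏ k : Fin D.rank, c k ^ D.cartan k s := by
    funext s
    rw [Finset.prod_range]
    refine Finset.prod_congr rfl fun k _ => ?_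
    rw [dif_pos k.2]
  rwa [h2] at h1

/-- the torus elements as monomial elements -/
theorem Good.mon_PhiH (hG : Good D N η rc) (c : Fin D.rank → Fˣ) :
    Mon hG (xg D F) (PhiH D F D.rank c) 1 (fun r => ∏ k : Fin D.rank, c k ^ D.cartan k r) where
  act r t := hG.tor_conj_xg (hG.isChr_PhiH c) r.2 t
  neg r := (hG.isChr_PhiH c).neg r r.2

end

section
variable {D : ChevalleyDatum} {N : ℕ} {η : ℕ → ℕ → ℤ} {rc : ℕ → ℕ → ℤ} {F : Type*} [Field F]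
  {m : ℕ} {rho inv lam pi : ℕ → ℕ} {ep : ℕ → ℤ} {e : ℕ} {σ : ↥(D.group F) →* ↥(D.group F)}
  {ι : Type} {L : ι → List (Fin D.rank)}

/-- root elements for fixed roots -/
theorem TwCtx.xg_fix (h : TwCtx D N η rc F m rho inv lam pi ep e σ) {r : ℕ} (hr : r < D.nroots) (hρ : rho r = r) (hep : ep r = 1) {t : F}
    (ht : t ^ (lam r * e) = t) : xg D F r t ∈ fixS σ := by
  refine ⟨h.G.xg_mem_group _ _, ?_⟩
  rw [h.S.x r hr]
  unfold tX
  rw [hρ, hep, Int.cast_one, one_mul, ht]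

namespace TwGrp
variable {h : TwCtx D N η rc F m rho inv lam pi ep e σ} {G₁ : Subgroup (GL D.Idx F)} (hT : TwGrp h L G₁)
include hT

/-- a torus element acting without fixed points on a rank one group -/
theorem torus_dS [Finite F] {j : ι} {k : GL D.Idx F} (hk : k ∈ G₁) {χ : Fin D.nroots → Fˣ} (hm : Mon h.G (xg D F) k 1 χ)
    (hχ : ∀ r : Fin D.nroots, (r : ℕ) ∈ h.G.Um (h.wJ L j) → χ r ≠ 1) :
    US (xg D F) (h.G.Um (h.wJ L j)) ⊓ fixS σ ≤ dS G₁ := by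
  have hconj : ∀ u ∈ US (xg D F) (h.G.Um (h.wJ L j)) ⊓ fixS σ, k * u * k⁻¹ ∈ US (xg D F) (h.G.Um (h.wJ L j)) ⊓ fixS σ := by
    intro u hu
    exact hT.conj_fix (hT.le_fix hk) hm (fun r hr => hr.1) (fun r hr => hr) hu
  let f : ↥(US (xg D F) (h.G.Um (h.wJ L j)) ⊓ fixS σ) → ↥(US (xg D F) (h.G.Um (h.wJ L j)) ⊓ fixS σ) :=
    fun u => ⟨u.1 * (k * u.1⁻¹ * k⁻¹), mul_mem u.2 (hconj _ (inv_mem u.2))⟩
  have hinj : Function.Injective f := by
    rintro ⟨u, hu⟩ ⟨v, hv⟩ he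
    have he' : u * (k * u⁻¹ * k⁻¹) = v * (k * v⁻¹ * k⁻¹) := congrArg Subtype.val he
    have h1 : k * (v⁻¹ * u) * k⁻¹ = v⁻¹ * u := by
      have h2 : v⁻¹ * (u * (k * u⁻¹ * k⁻¹)) * (k * u * k⁻¹) = v⁻¹ * (v * (k * v⁻¹ * k⁻¹)) * (k * u * k⁻¹) := by rw [he']
      have h3 : v⁻¹ * (u * (k * u⁻¹ * k⁻¹)) * (k * u * k⁻¹) = v⁻¹ * u := by group
      have h4 : v⁻¹ * (v * (k * v⁻¹ * k⁻¹)) * (k * u * k⁻¹) = k * (v⁻¹ * u) * k⁻¹ := by group
      rw [h3, h4] at h2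
      exact h2.symm
    have hz : v⁻¹ * u ∈ US (xg D F) (h.G.Um (h.wJ L j)) := mul_mem (inv_mem hv.1) hu.1
    obtain ⟨t, ht, hte⟩ := h.G.exists_op' (h.G.rd h.E) (h.G.pClo_Um _) hz
    rw [hte, h.G.conj_op hm] at h1
    have h2 := h.G.op_inj h.E _ _ N N (by rw [h.G.nroots_eq]; ring) le_rfl h1
    have h3 : ∀ r, N ≤ r → r < D.nroots → t r = 0 := by
      intro r hr hr'
      by_cases hrU : r ∈ h.G.Um (h.wJ L j)
      · have h4 := h2 r hr hr'
        rw [dif_pos hr'] at h4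
        by_contra h5
        apply hχ ⟨r, hr'⟩ hrU
        apply Units.ext
        rw [Units.val_one]
        exact mul_right_cancel₀ h5 (by rw [h4, one_mul])
      · exact ht r hrU
    have h4 : v⁻¹ * u = 1 := by
      rw [hte]
      apply List.prod_eq_one
      intro x hx
      rw [List.mem_map] at hx
      obtain ⟨r, hr, rfl⟩ := hx
      rw [List.mem_range'_1] at hr
      have hr2 : r < D.nroots := by rw [h.G.nroots_eq]; omega
      rw [h3 r hr.1 hr2]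
      exact (h.G.rd (F := F) h.E).zero hr2
    rw [inv_mul_eq_one] at h4
    exact Subtype.ext h4.symm
  have hsurj := Finite.injective_iff_surjective.1 hinj
  intro x hx
  obtain ⟨u, hu⟩ := hsurj ⟨x, hx⟩
  have h1 : x = u.1 * k * u.1⁻¹ * k⁻¹ := by
    have h2 : u.1 * (k * u.1⁻¹ * k⁻¹) = x := congrArg Subtype.val hu
    rw [← h2]; group
  rw [h1]
  exact comm_mem_dS (hT.root j u.2) hk

/-- the opposite rank one groups -/
theorem neg_dS {j : ι} (hX : US (xg D F) (h.G.Um (h.wJ L j)) ⊓ fixS σ ≤ dS G₁) {g : GL D.Idx F}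
    (hg : g ∈ US (xg D F) {r | ∃ hr : r < D.nroots, (h.G.ngf ⟨r, hr⟩ : ℕ) ∈ h.G.Um (h.wJ L j)}) (hg' : g ∈ fixS σ) : g ∈ dS G₁ := by
  obtain ⟨χ, hm⟩ := hT.nJ_mon j
  have hn := hT.nJ_mem j
  have h1 := hT.conj_fix (inv_mem (hT.le_fix hn.2)) hm.inv (S := {r | ∃ hr : r < D.nroots, (h.G.ngf ⟨r, hr⟩ : ℕ) ∈ h.G.Um (h.wJ L j)})
    (T := h.G.Um (h.wJ L j)) (fun r hr => hr.1) (fun r hr => by
      obtain ⟨hr1, hr2⟩ := hr
      have hr3 : ((h.G.ngf r : Fin D.nroots) : ℕ) ∈ h.G.Um (h.wJ L j) := hr2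
      rw [h.G.mem_Um, h.G.W_neg, h.G.pos_ngf_iff, h.G.ngf_lt_iff] at hr3
      have hinv : (h.wJ L j)⁻¹ = h.wJ L j := inv_eq_of_mul_eq_one_left (h.wJ_sq hT.orb j)
      rw [hinv, h.G.mem_Um]
      refine ⟨hr3.2, ?_⟩
      have h5 : (h.wJ L j).1 ((h.wJ L j).1 r) = r := congrArg (fun x : h.G.W => x.1 r) (h.wJ_sq hT.orb j)
      rw [h5]; exact hr3.1) (Subgroup.mem_inf.2 ⟨hg, hg'⟩)
  have h2 := conj_mem_dS hn.2 (hX h1)
  have h3 : hT.nJ j * ((hT.nJ j)⁻¹ * g * (hT.nJ j)⁻¹⁻¹) * (hT.nJ j)⁻¹ = g := by group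
  rwa [h3] at h2

/-- all the `pw` in the derived subgroup -/
theorem pw_dS {j : ι} (hc : COrb D F (L j)) (hX : US (xg D F) (h.G.Um (h.wJ L j)) ⊓ fixS σ ≤ dS G₁) (b : Bool) {f : ℕ → F}
    (hf : ∀ i ∈ L j, f (pi i) = f i ^ (lam (D.simple i) * e)) : pw D F b (L j) f ∈ dS G₁ := by
  have h1 := h.pw_fix hc (hT.orb.orb' j) b hf
  cases b with
  | true =>
    apply hX
    refine Subgroup.mem_inf.2 ⟨?_, h1⟩
    apply Subgroup.list_prod_mem
    intro x hx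
    rw [List.mem_map] at hx
    obtain ⟨i, hi, rfl⟩ := hx
    exact mem_US ((h.simple_mem_Um_wJ hT.orb).2 hi) _
  | false =>
    apply hT.neg_dS hX _ h1
    apply Subgroup.list_prod_mem
    intro x hx
    rw [List.mem_map] at hx
    obtain ⟨i, hi, rfl⟩ := hx
    refine mem_US ?_ _
    refine ⟨h.G.neg_lt' (h.G.simple_lt i i.2), ?_⟩
    have : h.G.ngf ⟨D.neg (D.simple i), h.G.neg_lt' (h.G.simple_lt i i.2)⟩ = h.G.sr i := by
      apply Fin.ext
      exact h.G.neg_neg' (h.G.simple_lt i i.2)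
    change ((h.G.ngf ⟨D.neg (D.simple i), h.G.neg_lt' (h.G.simple_lt i i.2)⟩ : Fin D.nroots) : ℕ) ∈ _
    rw [this]
    exact (h.simple_mem_Um_wJ hT.orb).2 hi

end TwGrp
end

end Cfsg.Agent.H6
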