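import Cfsg.Agent.H6.TwF4A
import Cfsg.Agent.H6.TwPerf
import Cfsg.Agent.H6.TwBN

/-!
The large Ree groups 2F4(q): the structure `TwGrp`.
-/

set_option autoImplicit false
set_option linter.unusedSectionVars false
set_option maxHeartbeats 400000
set_option maxRecDepth 10000

namespace Cfsg.Agent.H6
open Cfsg.Lie
open scoped Matrix

namespace WF4

theorem um1c : ∀ r < 48, (24 ≤ r ∧ rfw chevF4 (LL 1) r < 24) ↔ (r = 25 ∨ r = 27 ∨ r = 28 ∨ r = 30) := by decide +kernel

section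
variable {K : Type*} [Field K] {e : ℕ}

theorem op_eq {t : ℕ → K} (ht : ∀ r, ¬ (r = 25 ∨ r = 27 ∨ r = 28 ∨ r = 30) → t r = 0) : op (xg chevF4 K) t 24 24 =
    Xb K true (t 25) * Xa K true (t 27) * (Xc K true (t 28) * Xd K true (t 30)) := by
  have h0 : ∀ r, ¬ (r = 25 ∨ r = 27 ∨ r = 28 ∨ r = 30) → xg chevF4 K r (t r) = 1 := by
    intro r hr; rw [ht r hr, TF4.good.xg_zero]
  change ((List.range' 24 24).map fun r => xg chevF4 K r (t r)).prod = xg chevF4 K 25 (t 25) * xg chevF4 K 27 (t 27) *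
    (xg chevF4 K 28 (t 28) * xg chevF4 K 30 (t 30))
  rw [show List.range' 24 24 = [24, 25, 26, 27, 28, 29, 30, 31, 32, 33, 34, 35, 36, 37, 38, 39, 40, 41, 42, 43, 44, 45, 46, 47] from rfl]
  simp only [List.map_cons, List.map_nil, List.prod_cons, List.prod_nil]
  rw [h0 24 (by decide), h0 26 (by decide), h0 29 (by decide), h0 31 (by decide), h0 32 (by decide), h0 33 (by decide), h0 34 (by decide),
    h0 35 (by decide), h0 36 (by decide), h0 37 (by decide), h0 38 (by decide), h0 39 (by decide), h0 40 (by decide), h0 41 (by decide),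
    h0 42 (by decide), h0 43 (by decide), h0 44 (by decide), h0 45 (by decide), h0 46 (by decide), h0 47 (by decide)]
  simp only [one_mul, mul_one, mul_assoc]

/-- coefficient function of an ordered product -/
def tf (K : Type*) [Field K] (y x p q : K) : ℕ → K := fun k =>
  if k = 25 then y else if k = 27 then x else if k = 28 then p else if k = 30 then q else 0

theorem tf25 (y x p q : K) : tf K y x p q 25 = y := rfl
theorem tf27 (y x p q : K) : tf K y x p q 27 = x := rfl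
theorem tf28 (y x p q : K) : tf K y x p q 28 = p := rfl
theorem tf30 (y x p q : K) : tf K y x p q 30 = q := rfl
theorem tf0 (y x p q : K) {r : ℕ} (hr : ¬ (r = 25 ∨ r = 27 ∨ r = 28 ∨ r = 30)) : tf K y x p q r = 0 := by
  push Not at hr
  unfold tf
  rw [if_neg hr.1, if_neg hr.2.1, if_neg hr.2.2.1, if_neg hr.2.2.2]

variable (h2 : (2 : K) = 0)
include h2

theorem neg2 (z : K) : -z = z := by
  have h3 : z + z = 0 := by rw [← two_mul, h2, zero_mul]
  exact neg_eq_of_add_eq_zero_left h3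

theorem op_NF {t : ℕ → K} (ht : ∀ r, ¬ (r = 25 ∨ r = 27 ∨ r = 28 ∨ r = 30) → t r = 0) : op (xg chevF4 K) t 24 24 =
    NF K true (t 27) (t 25) (t 27 * t 25 + t 28) (t 27 ^ 2 * t 25 + t 30) := by
  rw [op_eq ht, rel_ba h2, mul_assoc, cd_mul h2]
  rfl

theorem NF_op (x y p q : K) : NF K true x y p q = op (xg chevF4 K) (tf K y x (p + x * y) (q + x ^ 2 * y)) 24 24 := by
  rw [op_NF h2 (fun r hr => tf0 _ _ _ _ hr), tf25, tf27, tf28, tf30]
  have e1 : x * y + (p + x * y) = p := by linear_combination (x * y) * h2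
  have e2 : x ^ 2 * y + (q + x ^ 2 * y) = q := by linear_combination (x ^ 2 * y) * h2
  rw [e1, e2]

theorem NF_inj {x y p q x' y' p' q' : K} (h : NF K true x y p q = NF K true x' y' p' q') : x = x' ∧ y = y' ∧ p = p' ∧ q = q' := by
  rw [NF_op h2, NF_op h2] at h
  have h1 := TF4.good.op_inj TF4.ext _ _ 24 24 (by rw [nr]) le_rfl h
  have a25 := h1 25 (by norm_num) (by rw [nr]; norm_num)
  have a27 := h1 27 (by norm_num) (by rw [nr]; norm_num)
  have a28 := h1 28 (by norm_num) (by rw [nr]; norm_num)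
  have a30 := h1 30 (by norm_num) (by rw [nr]; norm_num)
  rw [tf25, tf25] at a25
  rw [tf27, tf27] at a27
  subst a25; subst a27
  rw [tf28, tf28] at a28
  rw [tf30, tf30] at a30
  exact ⟨rfl, rfl, add_left_injective _ a28, add_left_injective _ a30⟩

omit h2

theorem RF_wg (b : Bool) (t u : K) : RF K e b t u =
    wg chevF4 K (b2ClassWord e (cond b f4a f4ma) (cond b f4b f4mb) (cond b f4ab f4mab) (cond b f4aab f4maab) t u) := by
  cases b
  · change xg chevF4 K 20 (t ^ e) * xg chevF4 K 22 t * (xg chevF4 K 19 (t ^ (e + 1) + u) * xg chevF4 K 17 (u ^ (2 * e))) = _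
    unfold wg b2ClassWord f4ma f4mb f4mab f4maab
    simp only [cond_false, List.map_cons, List.map_nil, List.prod_cons, List.prod_nil, mul_one, mul_assoc]
  · change xg chevF4 K 27 (t ^ e) * xg chevF4 K 25 t * (xg chevF4 K 28 (t ^ (e + 1) + u) * xg chevF4 K 30 (u ^ (2 * e))) = _
    unfold wg b2ClassWord f4a f4b f4ab f4aab
    simp only [cond_true, List.map_cons, List.map_nil, List.prod_cons, List.prod_nil, mul_one, mul_assoc]

theorem RF_mem (b : Bool) (t u : K) : RF K e b t u ∈ twistedF4 K e := by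
  rw [RF_wg]
  apply mem_gen TF4.good
  right
  refine ⟨t, u, ?_⟩
  cases b
  · right; rfl
  · left; rfl

theorem pow_e_zero (hf : Fl K e) : (0 : K) ^ e = 0 := by
  have h3 := hf.add 0 0
  rw [add_zero] at h3
  exact left_eq_add.1 h3

theorem e_ne (hf : Fl K e) : e ≠ 0 := by
  rintro rfl
  have := pow_e_zero hf
  rw [pow_zero] at this
  exact one_ne_zero this

/-- the monomial element `n_1`. -/
theorem n1_eq (hf : Fl K e) : Good.nwd (xg chevF4 K) (LL 1) = (RF K e true 1 0)⁻¹ * RF K e false 1 0 * (RF K e true 1 0)⁻¹ * (RF K e true 1 0)⁻¹ := by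
  have h := TF4.chk.wg_eq_mod (F := K) TF4.good (m := 2) (by exact_mod_cast hf.two) (w := w1) (v := wf ++ (wna ++ wnb ++ wna ++ wnb) ++ wf ++ wf)
    (by decide) (by decide) chk1
  have z2 : (0 : K) ^ (2 * e) = 0 := by rw [mul_comm, pow_mul, pow_e_zero hf, zero_pow two_ne_zero]
  have a1 : wg chevF4 K (cwF K w1) = RF K e false 1 0 := by
    change _ = xg chevF4 K 20 (1 ^ e) * xg chevF4 K 22 1 * (xg chevF4 K 19 (1 ^ (e + 1) + 0) * xg chevF4 K 17 (0 ^ (2 * e)))
    rw [one_pow, one_pow, z2, TF4.good.xg_zero, add_zero, mul_one]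
    unfold wg cwF w1
    simp only [List.map_cons, List.map_nil, List.prod_cons, List.prod_nil, mul_one, mul_assoc, Int.cast_one]
  have a2 : wg chevF4 K (cwF K wf) = RF K e true 1 0 := by
    change _ = xg chevF4 K 27 (1 ^ e) * xg chevF4 K 25 1 * (xg chevF4 K 28 (1 ^ (e + 1) + 0) * xg chevF4 K 30 (0 ^ (2 * e)))
    rw [one_pow, one_pow, z2, TF4.good.xg_zero, add_zero, mul_one]
    unfold wg cwF wf
    simp only [List.map_cons, List.map_nil, List.prod_cons, List.prod_nil, mul_one, mul_assoc, Int.cast_one]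
  have a3 : wg chevF4 K (cwF K (wna ++ wnb ++ wna ++ wnb)) = Good.nwd (xg chevF4 K) (LL 1) := by
    have e1 : Good.nwd (xg chevF4 K) (LL 1) = nX chevF4 (xg chevF4 K) (chevF4.simple 1) 1 * (nX chevF4 (xg chevF4 K) (chevF4.simple 2) 1 *
      (nX chevF4 (xg chevF4 K) (chevF4.simple 1) 1 * (nX chevF4 (xg chevF4 K) (chevF4.simple 2) 1 * 1))) := rfl
    rw [e1, s1, s2]
    change _ = (xg chevF4 K 27 1 * xg chevF4 K (chevF4.neg 27) (-1⁻¹) * xg chevF4 K 27 1) * ((xg chevF4 K 25 1 * xg chevF4 K (chevF4.neg 25) (-1⁻¹) * xg chevF4 K 25 1) *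
      ((xg chevF4 K 27 1 * xg chevF4 K (chevF4.neg 27) (-1⁻¹) * xg chevF4 K 27 1) * ((xg chevF4 K 25 1 * xg chevF4 K (chevF4.neg 25) (-1⁻¹) * xg chevF4 K 25 1) * 1)))
    rw [show chevF4.neg 27 = 20 by decide +kernel, show chevF4.neg 25 = 22 by decide +kernel, inv_one, neg2 hf.two]
    unfold wg cwF wna wnb
    simp only [List.cons_append, List.nil_append, List.map_cons, List.map_nil, List.prod_cons, List.prod_nil, mul_one, mul_assoc, Int.cast_one]
  have a4 : wg chevF4 K (cwF K (wf ++ (wna ++ wnb ++ wna ++ wnb) ++ wf ++ wf)) =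
      wg chevF4 K (cwF K wf) * wg chevF4 K (cwF K (wna ++ wnb ++ wna ++ wnb)) * wg chevF4 K (cwF K wf) * wg chevF4 K (cwF K wf) := by
    unfold cwF wg
    simp only [List.map_append, List.prod_append]
  rw [a4, a1, a2, a3] at h
  rw [h]; group

variable {σ : ↥(chevF4.group K) →* ↥(chevF4.group K)} (h : Ctx K e σ) (hf : Fl K e)
include h

theorem mem_Um1 {r : ℕ} : r ∈ h.G.Um (h.wJ LL 1) ↔ (r = 25 ∨ r = 27 ∨ r = 28 ∨ r = 30) := by
  constructor
  · rintro ⟨hr, h1, h2⟩
    have h3 : r < 48 := by rw [← nr]; exact hr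
    refine (um1c r h3).1 ⟨h1, ?_⟩
    rw [← wp_val h.G (LL 1) ⟨r, hr⟩]
    exact h2
  · intro hr
    have h3 : r < 48 := by omega
    obtain ⟨h1, h2⟩ := (um1c r h3).2 hr
    have hr' : r < chevF4.nroots := by rw [nr]; exact h3
    refine ⟨hr', h1, ?_⟩
    have := wp_val h.G (LL 1) ⟨r, hr'⟩
    change ((wp h.G.s (LL 1)).1 ⟨r, hr'⟩ : ℕ) < 24
    rw [this]
    exact h2

include hf

theorem le_fix : twistedF4 K e ≤ fixS σ := by
  apply gen_le TF4.good
  rintro w (⟨t, rfl | rfl⟩ | ⟨t, u, rfl | rfl⟩)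
  · have h1 := pair_eq (K := K) (e := e) true t
    change wg chevF4 K (f4PairWord e f4p1 f4p4 t) = _ at h1
    rw [h1]
    exact h.pw_fix corb0 (orbL.orb' 0) true (key0 hf t)
  · have h1 := pair_eq (K := K) (e := e) false t
    change wg chevF4 K (f4PairWord e f4m1 f4m4 t) = _ at h1
    rw [h1]
    exact h.pw_fix corb0 (orbL.orb' 0) false (key0 hf t)
  · have h1 := RF_wg (K := K) (e := e) true t u
    change _ = wg chevF4 K (b2ClassWord e f4a f4b f4ab f4aab t u) at h1
    rw [← h1]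
    exact RF_fix h hf true t u
  · have h1 := RF_wg (K := K) (e := e) false t u
    change _ = wg chevF4 K (b2ClassWord e f4ma f4mb f4mab f4maab t u) at h1
    rw [← h1]
    exact RF_fix h hf false t u

theorem fix_iff {g : GL chevF4.Idx K} : g ∈ US (xg chevF4 K) (h.G.Um (h.wJ LL 1)) ⊓ fixS σ ↔ ∃ t u, g = RF K e true t u := by
  constructor
  · rintro ⟨hg, hg'⟩
    obtain ⟨t, ht, rfl⟩ := h.G.exists_op' (h.G.rd h.E) (h.G.pClo_Um _) hg
    have ht' : ∀ r, ¬ (r = 25 ∨ r = 27 ∨ r = 28 ∨ r = 30) → t r = 0 := fun r hr => ht r (fun h3 => hr ((mem_Um1 h).1 h3))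
    rw [op_NF hf.two ht'] at hg' ⊢
    generalize t 27 = x at hg' ⊢
    generalize t 25 = y at hg' ⊢
    generalize x * y + t 28 = p at hg' ⊢
    generalize x ^ 2 * y + t 30 = q at hg' ⊢
    have h1 := hg'.2
    rw [sgf_NF h hf] at h1
    obtain ⟨h2, h3, h4, h5⟩ := NF_inj hf.two h1
    refine ⟨y, p + y ^ (e + 1), ?_⟩
    unfold RF
    have e1 : y ^ (e + 1) + (p + y ^ (e + 1)) = p := by linear_combination (y ^ (e + 1)) * hf.two
    rw [e1, h2]
    have e2 : (p + y ^ (e + 1)) ^ (2 * e) = q := by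
      rw [hf.add2, ← h5, ← h2, pow_succ, mul_pow, hf.sq]
      ring
    rw [e2]
  · rintro ⟨t, u, rfl⟩
    refine Subgroup.mem_inf.2 ⟨?_, RF_fix h hf true t u⟩
    unfold RF NF
    exact mul_mem (mul_mem (mem_US ((mem_Um1 h).2 (by norm_num)) _) (mem_US ((mem_Um1 h).2 (by norm_num)) _))
      (mul_mem (mem_US ((mem_Um1 h).2 (by norm_num)) _) (mem_US ((mem_Um1 h).2 (by norm_num)) _))

omit h in
theorem RF_inj {t u t' u' : K} (h1 : RF K e true t u = RF K e true t' u') : t = t' ∧ u = u' := by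
  obtain ⟨-, h2, h3, -⟩ := NF_inj hf.two h1
  subst h2
  exact ⟨rfl, add_right_injective _ h3⟩

theorem grp : TwGrp h LL (twistedF4 K e) where
  orb := orbL
  le_fix := le_fix h hf
  rep := by
    intro j
    fin_cases j
    · exact h.corb_rep corb0 gen_mem
    · obtain ⟨χ, hm⟩ := h.G.mon_nwd (h.G.rdn (F := K) h.E) (LL 1)
      refine ⟨Good.nwd (xg chevF4 K) (LL 1), Subgroup.mem_inf.2 ⟨?_, ?_⟩, χ, hm⟩
      · rw [← h.G.NA_eq, h.G.mem_NA (h.G.rdn (F := K) h.E)]; exact ⟨LL 1, 1, one_mem _, by rw [mul_one]⟩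
      · rw [n1_eq hf]
        exact mul_mem (mul_mem (mul_mem (inv_mem (RF_mem _ _ _)) (RF_mem _ _ _)) (inv_mem (RF_mem _ _ _))) (inv_mem (RF_mem _ _ _))
  root := by
    intro j
    fin_cases j
    · exact h.corb_root orbL corb0 (TF4.chk.umS h 0 ums0) (gen_mem true)
    · intro g hg
      obtain ⟨t, u, rfl⟩ := (fix_iff h hf).1 hg
      exact RF_mem _ _ _
  supp := by
    intro j
    fin_cases j
    · exact h.corb_supp orbL corb0 (TF4.chk.umS h 0 ums0)
    · intro i hi
      refine ⟨tf K 1 1 ((1 ^ (e + 1) + 0) + 1 * 1) (0 ^ (2 * e) + 1 ^ 2 * 1), ?_, ?_, ?_⟩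
      · intro r hr
        exact tf0 _ _ _ _ (fun h3 => hr ((mem_Um1 h).2 h3))
      · rw [← NF_op hf.two]
        have := le_fix h hf (RF_mem true 1 0)
        unfold RF at this
        rwa [one_pow e] at this
      · have h1 : ∀ i : Fin chevF4.rank, i ∈ LL 1 → chevF4.simple i = 25 ∨ chevF4.simple i = 27 := by decide +kernel
        rcases h1 i hi with h2 | h2
        · rw [h2, tf25]; exact one_ne_zero
        · rw [h2, tf27]; exact one_ne_zero

end
end WF4
end Cfsg.Agent.H6
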