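import Cfsg.Agent.H6.TwF4B
import Cfsg.Agent.H6.TwWr
import Cfsg.Agent.H6.DihIso

/-!
The large Ree groups 2F4(q): cardinalities, the Weyl group.
-/

set_option autoImplicit false
set_option linter.unusedSectionVars false
set_option maxHeartbeats 400000
set_option maxRecDepth 10000

namespace Cfsg.Agent.H6
open Cfsg.Lie
open scoped Matrix

/-- number of positive roots mapped to negative roots by a word -/
def cntP (n N P : ℕ) (L : List ℕ) : ℕ := (List.range n).countP fun r => decide (N ≤ r ∧ rfP P L r < N)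

theorem Chk.len_wp {D : ChevalleyDatum} {W N : ℕ} {G : List (List ℕ)} {S P E CA CO MO : ℕ} {η : ℕ → ℕ → ℤ} {rc : ℕ → ℕ → ℤ}
    {l n : ℕ} (h : Chk D l n W N G S P E CA CO MO) (hG : Good D N η rc) (L : List (Fin D.rank)) :
    len hG.s (wp hG.s L) = cntP n N P (L.map Fin.val) := by
  obtain rfl := h.rank
  obtain rfl := h.nroots
  have hw := h.hw
  rw [hG.len_eq_card_invs, ← Finset.card_map Fin.valEmbedding]
  have h1 : (hG.invs (wp hG.s L)).map Fin.valEmbedding =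
      (Finset.range D.nroots).filter (fun r => N ≤ r ∧ rfP P (L.map Fin.val) r < N) := by
    ext r
    simp only [Finset.mem_map, hG.mem_invs, Fin.valEmbedding_apply, Finset.mem_filter, Finset.mem_range]
    constructor
    · rintro ⟨s, ⟨h2, h3⟩, rfl⟩
      refine ⟨s.2, h2, ?_⟩
      rwa [wp_val hG L s, (rfw_eq hw hG.w_lt L s.2).1] at h3
    · rintro ⟨hr, h2, h3⟩
      refine ⟨⟨r, hr⟩, ⟨h2, ?_⟩, rfl⟩
      rw [wp_val hG L ⟨r, hr⟩, (rfw_eq hw hG.w_lt L hr).1]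
      exact h3
  rw [h1, cntP, List.countP_eq_length_filter]
  rfl

namespace WF4

/-- words of the elements `(ab)^i` -/
def wr (i : ℕ) : List (Fin 4) := powL i (L 0 ++ L 1)
def ws (i : ℕ) : List (Fin 4) := L 0 ++ powL i (L 0 ++ L 1)

theorem len_r : ∀ i : Fin 8, cntP 48 24 TF4.P ((wr i).map Fin.val) = (![0, 6, 12, 18, 24, 18, 12, 6] : Fin 8 → ℕ) i := by decide +kernel
theorem len_s : ∀ i : Fin 8, cntP 48 24 TF4.P ((ws i).map Fin.val) = (![2, 4, 10, 16, 22, 20, 14, 8] : Fin 8 → ℕ) i := by decide +kernel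
theorem ord8 : chkOrd 48 TF4.P ((L 0).map Fin.val ++ (L 1).map Fin.val) 8 = true := by decide +kernel
theorem len_1 : cntP 48 24 TF4.P ((L 1).map Fin.val) = 4 := by decide +kernel
theorem len_0 : cntP 48 24 TF4.P ((L 0).map Fin.val) = 2 := by decide +kernel

section
variable {K : Type*} [Field K] {e : ℕ}
variable {σ : ↥(chevF4.group K) →* ↥(chevF4.group K)} (h : Ctx K e σ) (hf : Fl K e)
include h

theorem lens : ∀ j : Fin 2, len h.G.s (h.wJ LL j) = (![2, 4] : Fin 2 → ℕ) j := by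
  intro j
  have h1 := TF4.chk.len_wp h.G (LL j)
  change len h.G.s (h.wJ LL j) = _ at h1
  rw [h1]
  fin_cases j
  · exact len_0
  · exact len_1

/-- `W¹` is dihedral of order 16 -/
theorem exists_dih : ∃ φ : DihedralGroup 8 ≃* h.Wr,
    (∀ i : ℕ, (φ (.r (i : ZMod 8))).1 = wp h.G.s (wr i)) ∧ ∀ i : ℕ, (φ (.sr (i : ZMod 8))).1 = wp h.G.s (ws i) := by
  have ha : h.wS orbL 0 * h.wS orbL 0 = 1 := (h.genInvS orbL).sq 0
  have hb : h.wS orbL 1 * h.wS orbL 1 = 1 := (h.genInvS orbL).sq 1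
  have ho : orderOf (h.wS orbL 0 * h.wS orbL 1) = 8 := h.orderOf_wS orbL TF4.chk 0 1 (by norm_num) ord8
  have hc : (h.wS orbL 0 * h.wS orbL 1) ^ 8 = 1 := by rw [← ho]; exact pow_orderOf_eq_one _
  have hg : Subgroup.closure {h.wS orbL 0, h.wS orbL 1} = ⊤ := by
    rw [← (h.genInvS orbL).gen]
    congr 1
    ext x
    simp only [Set.mem_insert_iff, Set.mem_singleton_iff, Set.mem_range]
    constructor
    · rintro (rfl | rfl)
      · exact ⟨0, rfl⟩
      · exact ⟨1, rfl⟩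
    · rintro ⟨j, rfl⟩
      fin_cases j
      · left; rfl
      · right; rfl
  let φ := MulEquiv.ofBijective _ (dihHom_bij ha hb (by norm_num) ho hg)
  have hr : ∀ i : ℕ, ((h.wS orbL 0 * h.wS orbL 1) ^ i : h.Wr).1 = wp h.G.s (wr i) := by
    intro i
    have h1 := wp_powL (s := h.G.s) i (LL 0 ++ LL 1)
    change wp h.G.s (wr i) = _ at h1
    rw [h1, wp_append]
    rfl
  refine ⟨φ, ?_, ?_⟩
  · intro i
    change (zp (h.wS orbL 0 * h.wS orbL 1) (i : ZMod 8)).1 = _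
    rw [zp_natCast hc, hr]
  · intro i
    change (h.wS orbL 0 * zp (h.wS orbL 0 * h.wS orbL 1) (i : ZMod 8)).1 = _
    rw [zp_natCast hc]
    change h.wJ LL 0 * ((h.wS orbL 0 * h.wS orbL 1) ^ i : h.Wr).1 = _
    rw [hr]
    exact (wp_append (s := h.G.s) (LL 0) (wr i : List (Fin chevF4.rank))).symm

include hf

theorem cards [Fintype K] : ∀ j : Fin 2, Nat.card ↥(US (xg chevF4 K) (h.G.Um (h.wJ LL j)) ⊓ fixS σ) = Fintype.card K ^ ((j : ℕ) + 1) := by
  intro j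
  fin_cases j
  · refine (h.corb_card_eq orbL corb0 (TF4.chk.umS h 0 ums0) in3 (fun _ => True) (f0 e) ?_ (fun _ => f0_3 _) (fun _ _ => trivial)).trans ?_
    · intro x _
      exact key0 hf x
    · change _ = Fintype.card K ^ 1
      rw [pow_one, ← Nat.card_eq_fintype_card]
      exact Nat.card_congr (Equiv.subtypeUnivEquiv fun _ => trivial)
  · let f : K × K → ↥(US (xg chevF4 K) (h.G.Um (h.wJ LL 1)) ⊓ fixS σ) := fun p => ⟨RF K e true p.1 p.2, (fix_iff h hf).2 ⟨_, _, rfl⟩⟩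
    have hb : Function.Bijective f := by
      constructor
      · rintro ⟨t, u⟩ ⟨t', u'⟩ he
        obtain ⟨h1, h2⟩ := RF_inj hf (congrArg Subtype.val he)
        change t = t' at h1
        change u = u' at h2
        rw [h1, h2]
      · rintro ⟨g, hg⟩
        obtain ⟨t, u, rfl⟩ := (fix_iff h hf).1 hg
        exact ⟨(t, u), rfl⟩
    change Nat.card ↥(US (xg chevF4 K) (h.G.Um (h.wJ LL 1)) ⊓ fixS σ) = Fintype.card K ^ 2
    rw [← Nat.card_congr (Equiv.ofBijective f hb), Nat.card_eq_fintype_card, Fintype.card_prod]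
    ring

theorem card_sq [Fintype K] (j : Fin 2) : Nat.card ↥(US (xg chevF4 K) (h.G.Um (h.wJ LL j)) ⊓ fixS σ) ^ 2 = Nat.card K ^ len h.G.s (h.wJ LL j) := by
  rw [cards h hf, lens, Nat.card_eq_fintype_card]
  fin_cases j
  · change (Fintype.card K ^ 1) ^ 2 = Fintype.card K ^ 2; ring
  · change (Fintype.card K ^ 2) ^ 2 = Fintype.card K ^ 4; ring

theorem card_pos [Fintype K] : Nat.card ↥(chevF4.posUnipotent K ⊓ twistedF4 K e) = Fintype.card K ^ 12 := by
  have h1 := (grp h hf).card_pos₁ (card_sq h hf)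
  rw [Nat.card_eq_fintype_card (α := K)] at h1
  have h2 : Fintype.card K ^ 24 = (Fintype.card K ^ 12) ^ 2 := by ring
  rw [h2] at h1
  exact Nat.pow_left_injective two_ne_zero h1

theorem card_Wr_elt [Fintype K] {w : h.G.W} (hw : w ∈ h.Wr) {k : ℕ} (hk : len h.G.s w = 2 * k) :
    Nat.card ↥(US (xg chevF4 K) (h.G.Um w) ⊓ fixS σ) = Fintype.card K ^ k := by
  have h1 := (grp h hf).card_fix (card_sq h hf) hw
  rw [hk, Nat.card_eq_fintype_card (α := K), mul_comm, pow_mul] at h1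
  exact Nat.pow_left_injective two_ne_zero h1

/-- the sum over the Weyl group -/
theorem sum_Wr [Fintype K] : (∑ᶠ w : h.Wr, Nat.card ↥(US (xg chevF4 K) (h.G.Um w.1) ⊓ fixS σ)) =
    (1 + Fintype.card K) * (1 + Fintype.card K ^ 2) * (1 + Fintype.card K ^ 3) * (1 + Fintype.card K ^ 6) := by
  obtain ⟨φ, h1, h2⟩ := exists_dih h
  rw [← finsum_comp_equiv φ.toEquiv, dih_sum 7]
  have e1 : ∀ i : Fin 8, Nat.card ↥(US (xg chevF4 K) (h.G.Um (φ (.r ((i : ℕ) : ZMod 8))).1) ⊓ fixS σ) =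
      Fintype.card K ^ ((![0, 3, 6, 9, 12, 9, 6, 3] : Fin 8 → ℕ) i) := by
    intro i
    apply card_Wr_elt h hf (φ _).2
    rw [h1]
    have h3 := TF4.chk.len_wp h.G (wr i)
    rw [h3]
    refine (len_r i).trans ?_
    fin_cases i <;> rfl
  have e2 : ∀ i : Fin 8, Nat.card ↥(US (xg chevF4 K) (h.G.Um (φ (.sr ((i : ℕ) : ZMod 8))).1) ⊓ fixS σ) =
      Fintype.card K ^ ((![1, 2, 5, 8, 11, 10, 7, 4] : Fin 8 → ℕ) i) := by
    intro i
    apply card_Wr_elt h hf (φ _).2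
    rw [h2]
    have h3 := TF4.chk.len_wp h.G (ws i)
    rw [h3]
    refine (len_s i).trans ?_
    fin_cases i <;> rfl
  have e3 : (∑ i : Fin (7 + 1), Nat.card ↥(US (xg chevF4 K) (h.G.Um (φ.toEquiv (.r ((i : ℕ) : ZMod (7 + 1)))).1) ⊓ fixS σ)) =
      ∑ i : Fin 8, Fintype.card K ^ ((![0, 3, 6, 9, 12, 9, 6, 3] : Fin 8 → ℕ) i) := Finset.sum_congr rfl fun i _ => e1 i
  have e4 : (∑ i : Fin (7 + 1), Nat.card ↥(US (xg chevF4 K) (h.G.Um (φ.toEquiv (.sr ((i : ℕ) : ZMod (7 + 1)))).1) ⊓ fixS σ)) =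
      ∑ i : Fin 8, Fintype.card K ^ ((![1, 2, 5, 8, 11, 10, 7, 4] : Fin 8 → ℕ) i) := Finset.sum_congr rfl fun i _ => e2 i
  rw [e3, e4, Fin.sum_univ_eight, Fin.sum_univ_eight]
  change Fintype.card K ^ 0 + Fintype.card K ^ 3 + Fintype.card K ^ 6 + Fintype.card K ^ 9 + Fintype.card K ^ 12 + Fintype.card K ^ 9 +
    Fintype.card K ^ 6 + Fintype.card K ^ 3 + (Fintype.card K ^ 1 + Fintype.card K ^ 2 + Fintype.card K ^ 5 + Fintype.card K ^ 8 +
    Fintype.card K ^ 11 + Fintype.card K ^ 10 + Fintype.card K ^ 7 + Fintype.card K ^ 4) = _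
  ring

end
end WF4
end Cfsg.Agent.H6
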