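import Cfsg.Agent.H6.TwF4C
import Cfsg.Agent.H6.TwTorus
import Cfsg.Agent.H6.TwSimple

/-!
The large Ree groups 2F4(q): torus, order, perfectness, simplicity.
-/

set_option autoImplicit false
set_option linter.unusedSectionVars false
set_option maxHeartbeats 400000
set_option maxRecDepth 10000

namespace Cfsg.Agent.H6
open Cfsg.Lie
open scoped Matrix

section
variable {D : ChevalleyDatum} {N : ℕ} {η : ℕ → ℕ → ℤ} {rc : ℕ → ℕ → ℤ} {F : Type*} [Field F]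
  {m : ℕ} {rho inv lam pi : ℕ → ℕ} {ep : ℕ → ℤ} {e : ℕ} {σ : ↥(D.group F) →* ↥(D.group F)}
  {ι : Type} {L : ι → List (Fin D.rank)}

/-- the opposite rank one groups are in the twisted group -/
theorem TwGrp.neg_root {h : TwCtx D N η rc F m rho inv lam pi ep e σ} {G₁ : Subgroup (GL D.Idx F)} (hT : TwGrp h L G₁) {j : ι} {g : GL D.Idx F}
    (hg : g ∈ US (xg D F) {r | ∃ hr : r < D.nroots, (h.G.ngf ⟨r, hr⟩ : ℕ) ∈ h.G.Um (h.wJ L j)}) (hg' : g ∈ fixS σ) : g ∈ G₁ := by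
  obtain ⟨χ, hm⟩ := hT.nJ_mon j
  have hn := hT.nJ_mem j
  have h1 := hT.conj_fix (inv_mem (hT.le_fix hn.2)) hm.inv (S := {r | ∃ hr : r < D.nroots, (h.G.ngf ⟨r, hr⟩ : ℕ) ∈ h.G.Um (h.wJ L j)})
    (T := h.G.Um (h.wJ L j)) (fun r hr => hr.1) (fun r hr => by
      obtain ⟨hr1, hr2⟩ := hr
      have hr3 : ((h.G.ngf r : Fin D.nroots) : ℕ) ∈ h.G.Um (h.wJ L j) := hr2
      rw [h.G.mem_Um, h.G.W_neg, h.G.pos_ngf_iff, h.G.ngf_lt_iff] at hr3
      have hinv : (h.wJ L j)⁻¹ = h.wJ L j := inv_eq_of_mul_eq_one_left (h.wJ_sq hT.orb j)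
      rw [hinv, h.G.mem_Um]
      refine ⟨hr3.2, ?_⟩
      have h5 : (h.wJ L j).1 ((h.wJ L j).1 r) = r := congrArg (fun x : h.G.W => x.1 r) (h.wJ_sq hT.orb j)
      rw [h5]; exact hr3.1) (Subgroup.mem_inf.2 ⟨hg, hg'⟩)
  have hn2 : hT.nJ j ∈ G₁ := hn.2
  have h2 := mul_mem (mul_mem hn2 (hT.root j h1)) (inv_mem hn2)
  have h3 : hT.nJ j * ((hT.nJ j)⁻¹ * g * (hT.nJ j)⁻¹⁻¹) * (hT.nJ j)⁻¹ = g := by group
  rwa [h3] at h2

end

namespace WF4

section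
variable {K : Type*} [Field K] {e : ℕ}

theorem car_eq : ∀ j k : Fin 4, chevF4.cartan k (chevF4.simple j) =
    (![![2, -1, 0, 0], ![-1, 2, -1, 0], ![0, -2, 2, -1], ![0, 0, -1, 2]] : Fin 4 → Fin 4 → ℤ) j k := by
  decide +kernel

theorem ker_PhiH {x : Fin 4 → Kˣ} (hx : PhiH chevF4 K 4 x = 1) : x = 1 := by
  rw [← MonoidHom.mem_ker, TF4.good.mem_ker_PhiH (n := 4) rfl] at hx
  have h0 : ∀ j, (∑ k, (![![2, -1, 0, 0], ![-1, 2, -1, 0], ![0, -2, 2, -1], ![0, 0, -1, 2]] : Fin 4 → Fin 4 → ℤ) j k • Additive.ofMul (x k)) = 0 := by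
    intro j
    have h1 := congrFun hx j
    unfold zact at h1
    refine Eq.trans (Finset.sum_congr rfl fun k _ => ?_) h1
    rw [← car_eq]
  have e0 := h0 0
  have e1 := h0 1
  have e2 := h0 2
  have e3 := h0 3
  rw [Fin.sum_univ_four] at e0 e1 e2 e3
  change (2 : ℤ) • Additive.ofMul (x 0) + (-1 : ℤ) • Additive.ofMul (x 1) + (0 : ℤ) • Additive.ofMul (x 2) + (0 : ℤ) • Additive.ofMul (x 3) = 0 at e0
  change (-1 : ℤ) • Additive.ofMul (x 0) + (2 : ℤ) • Additive.ofMul (x 1) + (-1 : ℤ) • Additive.ofMul (x 2) + (0 : ℤ) • Additive.ofMul (x 3) = 0 at e1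
  change (0 : ℤ) • Additive.ofMul (x 0) + (-2 : ℤ) • Additive.ofMul (x 1) + (2 : ℤ) • Additive.ofMul (x 2) + (-1 : ℤ) • Additive.ofMul (x 3) = 0 at e2
  change (0 : ℤ) • Additive.ofMul (x 0) + (0 : ℤ) • Additive.ofMul (x 1) + (-1 : ℤ) • Additive.ofMul (x 2) + (2 : ℤ) • Additive.ofMul (x 3) = 0 at e3
  generalize hy0 : Additive.ofMul (x 0) = y0 at e0 e1 e2 e3
  generalize hy1 : Additive.ofMul (x 1) = y1 at e0 e1 e2 e3
  generalize hy2 : Additive.ofMul (x 2) = y2 at e0 e1 e2 e3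
  generalize hy3 : Additive.ofMul (x 3) = y3 at e0 e1 e2 e3
  have r0 : y0 = 0 := by linear_combination (norm := module) (2 : ℤ) • e0 + (3 : ℤ) • e1 + (2 : ℤ) • e2 + (1 : ℤ) • e3
  have r1 : y1 = 0 := by linear_combination (norm := module) (3 : ℤ) • e0 + (6 : ℤ) • e1 + (4 : ℤ) • e2 + (2 : ℤ) • e3
  have r2 : y2 = 0 := by linear_combination (norm := module) (4 : ℤ) • e0 + (8 : ℤ) • e1 + (6 : ℤ) • e2 + (3 : ℤ) • e3
  have r3 : y3 = 0 := by linear_combination (norm := module) (2 : ℤ) • e0 + (4 : ℤ) • e1 + (3 : ℤ) • e2 + (2 : ℤ) • e3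
  funext i
  fin_cases i
  · exact Additive.ofMul.injective (hy0.trans r0)
  · exact Additive.ofMul.injective (hy1.trans r1)
  · exact Additive.ofMul.injective (hy2.trans r2)
  · exact Additive.ofMul.injective (hy3.trans r3)

theorem PhiH_inj {x y : Fin 4 → Kˣ} (h : PhiH chevF4 K 4 x = PhiH chevF4 K 4 y) : x = y := by
  have h1 : PhiH chevF4 K 4 (x * y⁻¹) = 1 := by rw [map_mul, map_inv, h, mul_inv_cancel]
  exact mul_inv_eq_one.1 (ker_PhiH h1)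

/-- torus elements -/
noncomputable def hh (K : Type*) [Field K] (e : ℕ) (x y : Kˣ) : GL chevF4.Idx K := PhiH chevF4 K 4 ![x ^ e, y ^ e, y, x]

theorem hh_mul (x y x' y' : Kˣ) : hh K e (x * x') (y * y') = hh K e x y * hh K e x' y' := by
  unfold hh
  rw [← map_mul]
  congr 1
  funext i
  fin_cases i
  · exact mul_pow x x' e
  · exact mul_pow y y' e
  · rfl
  · rfl

theorem hu (hf : Fl K e) (x : Kˣ) : (x ^ e) ^ (2 * e) = x := Units.ext (by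
  rw [Units.val_pow_eq_pow_val, Units.val_pow_eq_pow_val]; exact hf.sq x)

/-- units are squares -/
theorem sq_root (hf : Fl K e) (x : Kˣ) : x = ((x ^ e) ^ e) ^ 2 := by
  rw [← pow_mul, mul_comm e 2, hu hf]

/-- the permutation of the simple roots -/
def sw : Fin 4 → Fin 4 := ![3, 2, 1, 0]

variable {σ : ↥(chevF4.group K) →* ↥(chevF4.group K)} (h : Ctx K e σ) (hf : Fl K e)

include h in
theorem sgf_PhiH (c : Fin 4 → Kˣ) : sgf σ (PhiH chevF4 K 4 c) = PhiH chevF4 K 4 ![c 3 ^ e, c 2 ^ e, c 1 ^ (2 * e), c 0 ^ (2 * e)] := by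
  refine h.sgf_PhiH (c := c) (c' := (![c 3 ^ e, c 2 ^ e, c 1 ^ (2 * e), c 0 ^ (2 * e)] : Fin 4 → Kˣ)) ?_
  have key : ∀ k : Fin 4, (![c 3 ^ e, c 2 ^ e, c 1 ^ (2 * e), c 0 ^ (2 * e)] : Fin 4 → Kˣ) (sw k) = c k ^ (lamF 2 LT (chevF4.simple k) * e) := by
    intro k
    fin_cases k
    · change c 0 ^ (2 * e) = c 0 ^ (lamF 2 LT (chevF4.simple 0) * e)
      rw [l0]
    · change c 1 ^ (2 * e) = c 1 ^ (lamF 2 LT (chevF4.simple 1) * e)
      rw [l1]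
    · change c 2 ^ e = c 2 ^ (lamF 2 LT (chevF4.simple 2) * e)
      rw [l2, one_mul]
    · change c 3 ^ e = c 3 ^ (lamF 2 LT (chevF4.simple 3) * e)
      rw [l3, one_mul]
  have hp : ∀ k : Fin 4, sP PT k = (sw k : ℕ) := by decide +kernel
  intro k
  have h1 : h.pF k = sw k := Fin.ext (hp k)
  rw [h1]
  exact key k

/-- coefficients as a function on the naturals -/
def cF (x : Kˣ) (e : ℕ) : ℕ → K := fun i => if i = 0 then ((x ^ e : Kˣ) : K) else (x : K)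

theorem perm4 : ([(0 : Fin 4), 3, 1, 2] : List (Fin 4)).Perm (List.finRange 4) := by decide +kernel

theorem hh_mem0 (h : Ctx K e σ) (hf : Fl K e) (x : Kˣ) : hh K e x 1 ∈ twistedF4 K e := by
  have h2 := PhiH_eq_prod (F := K) TF4.good (![x ^ e, 1 ^ e, 1, x] : Fin 4 → Kˣ) (M := ([(0 : Fin 4), 3, 1, 2] : List (Fin 4))) perm4
  have h3 : (List.map (fun i : Fin chevF4.rank => hX chevF4 (xg chevF4 K) (chevF4.simple (i : ℕ)) (((![x ^ e, 1 ^ e, 1, x] : Fin 4 → Kˣ) i : Kˣ) : K))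
      ([(0 : Fin 4), 3, 1, 2] : List (Fin 4))).prod =
      hX chevF4 (xg chevF4 K) (chevF4.simple ((0 : Fin 4) : ℕ)) ((x ^ e : Kˣ) : K) *
      (hX chevF4 (xg chevF4 K) (chevF4.simple ((3 : Fin 4) : ℕ)) (x : K) *
      (hX chevF4 (xg chevF4 K) (chevF4.simple ((1 : Fin 4) : ℕ)) ((1 ^ e : Kˣ) : K) *
      (hX chevF4 (xg chevF4 K) (chevF4.simple ((2 : Fin 4) : ℕ)) ((1 : Kˣ) : K) * 1))) := rfl
  have h4 : ∀ i : ℕ, i < chevF4.rank → hX chevF4 (xg chevF4 K) (chevF4.simple i) ((1 : Kˣ) : K) = 1 := by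
    intro i hi
    rw [hX_eq_tor TF4.good hi]
    simp only [one_zpow]
    exact tor_one
  have h5 : hh K e x 1 = ((LL 0).map fun i : Fin chevF4.rank => hX chevF4 (xg chevF4 K) (chevF4.simple i) (f0 e (x : K) (i : ℕ))).prod := by
    change PhiH chevF4 K 4 ![x ^ e, 1 ^ e, 1, x] = _
    refine h2.trans (h3.trans ?_)
    rw [one_pow, h4 _ (by decide +kernel), h4 _ (by decide +kernel)]
    change _ = hX chevF4 (xg chevF4 K) (chevF4.simple ((0 : Fin 4) : ℕ)) (f0 e (x : K) 0) *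
      (hX chevF4 (xg chevF4 K) (chevF4.simple ((3 : Fin 4) : ℕ)) (f0 e (x : K) 3) * 1)
    rw [f0_0, f0_3, Units.val_pow_eq_pow_val]
    simp only [mul_one]
  rw [h5]
  exact TwCtx.pw_units gen_mem (fun i t => neg_pow_of_add (h.add _ (h.G.simple_lt i i.2)) t) corb0 (key0 hf _)

theorem wneg : ∀ r < 48, chevF4.cartan 1 (chevF4.reflectRoot 2 (chevF4.reflectRoot 1 (chevF4.reflectRoot 2 (chevF4.reflectRoot 1 r)))) = - chevF4.cartan 1 r ∧
    chevF4.cartan 2 (chevF4.reflectRoot 2 (chevF4.reflectRoot 1 (chevF4.reflectRoot 2 (chevF4.reflectRoot 1 r)))) = - chevF4.cartan 2 r := by decide +kernel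

theorem nwd_conj (χ : ℕ → Kˣ) : Good.nwd (xg chevF4 K) (LL 1) * tor chevF4 K χ * (Good.nwd (xg chevF4 K) (LL 1))⁻¹ =
    tor chevF4 K (fun r => χ (chevF4.reflectRoot 2 (chevF4.reflectRoot 1 (chevF4.reflectRoot 2 (chevF4.reflectRoot 1 r))))) := by
  have e1 : Good.nwd (xg chevF4 K) (LL 1) = ng chevF4 K 1 * (ng chevF4 K 2 * (ng chevF4 K 1 * (ng chevF4 K 2 * 1))) := rfl
  have a1 := TF4.good.ng_conj_tor (F := K) (i := 1) (by decide +kernel)
  have a2 := TF4.good.ng_conj_tor (F := K) (i := 2) (by decide +kernel)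
  rw [e1]
  calc _ = ng chevF4 K 1 * (ng chevF4 K 2 * (ng chevF4 K 1 * (ng chevF4 K 2 * tor chevF4 K χ * (ng chevF4 K 2)⁻¹) * (ng chevF4 K 1)⁻¹) * (ng chevF4 K 2)⁻¹) * (ng chevF4 K 1)⁻¹ := by group
    _ = _ := by rw [a2, a1, a2, a1]

theorem conj_inv1 (y : Kˣ) : Good.nwd (xg chevF4 K) (LL 1) * (hh K e 1 y)⁻¹ * (Good.nwd (xg chevF4 K) (LL 1))⁻¹ = hh K e 1 y := by
  have h1 : (hh K e 1 y)⁻¹ = hh K e 1 y⁻¹ := by
    rw [inv_eq_iff_mul_eq_one, ← hh_mul, mul_inv_cancel, mul_one]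
    change PhiH chevF4 K 4 ![1 ^ e, 1 ^ e, 1, 1] = 1
    have : (![1 ^ e, 1 ^ e, 1, 1] : Fin 4 → Kˣ) = 1 := by
      rw [one_pow]
      funext i
      fin_cases i <;> rfl
    rw [this, map_one]
  rw [h1]
  have h2 : ∀ z : Kˣ, hh K e 1 z = tor chevF4 K (fun s => (z ^ e) ^ chevF4.cartan 1 s * z ^ chevF4.cartan 2 s) := by
    intro z
    change tor chevF4 K _ = _
    congr 1
    funext s
    rw [Fin.prod_univ_four]
    change (1 ^ e) ^ chevF4.cartan 0 s * (z ^ e) ^ chevF4.cartan 1 s * z ^ chevF4.cartan 2 s * 1 ^ chevF4.cartan 3 s = _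
    rw [one_pow, one_zpow, one_zpow, one_mul, mul_one]
  rw [h2, h2, nwd_conj, tor_eq_iff]
  intro r hr
  rw [nr] at hr
  obtain ⟨b1, b2⟩ := wneg r hr
  simp only [b1, b2, inv_pow, inv_zpow, zpow_neg, inv_inv]

theorem hh_fix (h : Ctx K e σ) (hf : Fl K e) (x y : Kˣ) : hh K e x y ∈ fixS σ := by
  constructor
  · exact TF4.good.diagonal_le (by rw [← TF4.good.range_PhiH (n := 4) rfl]; exact ⟨_, rfl⟩)
  · unfold hh
    rw [sgf_PhiH h]
    congr 1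
    funext i
    fin_cases i
    · rfl
    · rfl
    · exact hu hf y
    · exact hu hf x

include h hf

theorem hh_mem1 (y : Kˣ) : hh K e 1 y ∈ twistedF4 K e := by
  have hT := grp h hf
  have hk : ∀ z : Kˣ, hh K e 1 z ∈ fixS σ := hh_fix h hf 1
  have hmon : ∀ z : Kˣ, ∃ χ, Mon h.G (xg chevF4 K) (hh K e 1 z) 1 χ := fun z => ⟨_, TF4.good.mon_PhiH (![1 ^ e, z ^ e, z, 1] : Fin 4 → Kˣ)⟩
  have hf1 : ∀ z : Kˣ, hh K e 1 z * RF K e true 1 0 * (hh K e 1 z)⁻¹ ∈ twistedF4 K e := by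
    intro z
    obtain ⟨χ, hm⟩ := hmon z
    exact hT.root 1 (hT.conj_fix (hk z) hm (fun r hr => hr.1) (fun r hr => hr) ((fix_iff h hf).2 ⟨1, 0, rfl⟩))
  have hf2 : ∀ z : Kˣ, hh K e 1 z * RF K e false 1 0 * (hh K e 1 z)⁻¹ ∈ twistedF4 K e := by
    intro z
    obtain ⟨χ, hm⟩ := hmon z
    have hS : ∀ i, i = 20 ∨ i = 22 ∨ i = 19 ∨ i = 17 → i ∈ {r | ∃ hr : r < chevF4.nroots, (h.G.ngf ⟨r, hr⟩ : ℕ) ∈ h.G.Um (h.wJ LL 1)} := by
      intro i hi
      have hi' : i < chevF4.nroots := by rw [nr]; omega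
      refine ⟨hi', (mem_Um1 h).2 ?_⟩
      change chevF4.neg i = 25 ∨ chevF4.neg i = 27 ∨ chevF4.neg i = 28 ∨ chevF4.neg i = 30
      have key : ∀ i < 48, i = 20 ∨ i = 22 ∨ i = 19 ∨ i = 17 → chevF4.neg i = 25 ∨ chevF4.neg i = 27 ∨ chevF4.neg i = 28 ∨ chevF4.neg i = 30 := by decide +kernel
      exact key i (by omega) hi
    have h1 : RF K e false 1 0 ∈ US (xg chevF4 K) {r | ∃ hr : r < chevF4.nroots, (h.G.ngf ⟨r, hr⟩ : ℕ) ∈ h.G.Um (h.wJ LL 1)} ⊓ fixS σ := by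
      refine Subgroup.mem_inf.2 ⟨?_, RF_fix h hf false 1 0⟩
      unfold RF NF
      exact mul_mem (mul_mem (mem_US (hS 20 (by norm_num)) _) (mem_US (hS 22 (by norm_num)) _))
        (mul_mem (mem_US (hS 19 (by norm_num)) _) (mem_US (hS 17 (by norm_num)) _))
    have h2 := hT.conj_fix (hk z) hm (fun r hr => hr.1) (fun r hr => hr) h1
    exact hT.neg_root (j := 1) h2.1 h2.2
  have hn : Good.nwd (xg chevF4 K) (LL 1) ∈ twistedF4 K e := by
    rw [n1_eq hf]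
    exact mul_mem (mul_mem (mul_mem (inv_mem (RF_mem _ _ _)) (RF_mem _ _ _)) (inv_mem (RF_mem _ _ _))) (inv_mem (RF_mem _ _ _))
  have hkn : ∀ z : Kˣ, hh K e 1 z * Good.nwd (xg chevF4 K) (LL 1) * (hh K e 1 z)⁻¹ ∈ twistedF4 K e := by
    intro z
    rw [n1_eq hf]
    have h3 : hh K e 1 z * ((RF K e true 1 0)⁻¹ * RF K e false 1 0 * (RF K e true 1 0)⁻¹ * (RF K e true 1 0)⁻¹) * (hh K e 1 z)⁻¹ =
        (hh K e 1 z * RF K e true 1 0 * (hh K e 1 z)⁻¹)⁻¹ * (hh K e 1 z * RF K e false 1 0 * (hh K e 1 z)⁻¹) *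
        (hh K e 1 z * RF K e true 1 0 * (hh K e 1 z)⁻¹)⁻¹ * (hh K e 1 z * RF K e true 1 0 * (hh K e 1 z)⁻¹)⁻¹ := by group
    rw [h3]
    exact mul_mem (mul_mem (mul_mem (inv_mem (hf1 z)) (hf2 z)) (inv_mem (hf1 z))) (inv_mem (hf1 z))
  have hsq : ∀ z : Kˣ, hh K e 1 (z ^ 2) ∈ twistedF4 K e := by
    intro z
    have h4 : hh K e 1 (z ^ 2) = (hh K e 1 z * Good.nwd (xg chevF4 K) (LL 1) * (hh K e 1 z)⁻¹) * (Good.nwd (xg chevF4 K) (LL 1))⁻¹ := by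
      have h5 := conj_inv1 (e := e) z
      have h6 : hh K e 1 (z ^ 2) = hh K e 1 z * hh K e 1 z := by rw [← hh_mul, one_mul, pow_two]
      rw [h6]
      nth_rw 2 [← h5]
      group
    rw [h4]
    exact mul_mem (hkn z) (inv_mem hn)
  rw [sq_root hf y]
  exact hsq _

theorem hh_mem (x y : Kˣ) : hh K e x y ∈ twistedF4 K e := by
  have h1 : hh K e x y = hh K e x 1 * hh K e 1 y := by rw [← hh_mul, mul_one, one_mul]
  rw [h1]
  exact mul_mem (hh_mem0 h hf x) (hh_mem1 h hf y)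

theorem diag_iff {g : GL chevF4.Idx K} : g ∈ chevF4.diagonalSubgroup K ⊓ twistedF4 K e ↔ ∃ x y : Kˣ, g = hh K e x y := by
  constructor
  · rintro ⟨h1, h2⟩
    rw [SetLike.mem_coe, ← TF4.good.range_PhiH (n := 4) rfl] at h1
    obtain ⟨c, rfl⟩ := h1
    have h3 := (le_fix h hf h2).2
    rw [sgf_PhiH h] at h3
    have h4 := PhiH_inj h3
    have a0 : c 3 ^ e = c 0 := congrFun h4 0
    have a1 : c 2 ^ e = c 1 := congrFun h4 1
    refine ⟨c 3, c 2, ?_⟩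
    unfold hh
    congr 1
    funext i
    fin_cases i
    · exact a0.symm
    · exact a1.symm
    · rfl
    · rfl
  · rintro ⟨x, y, rfl⟩
    refine Subgroup.mem_inf.2 ⟨?_, hh_mem h hf x y⟩
    rw [← TF4.good.range_PhiH (n := 4) rfl]
    exact ⟨_, rfl⟩

theorem card_diag [Fintype K] : Nat.card ↥(chevF4.diagonalSubgroup K ⊓ twistedF4 K e) = (Fintype.card K - 1) ^ 2 := by
  let f : Kˣ × Kˣ → ↥(chevF4.diagonalSubgroup K ⊓ twistedF4 K e) := fun x => ⟨hh K e x.1 x.2, (diag_iff h hf).2 ⟨x.1, x.2, rfl⟩⟩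
  have hb : Function.Bijective f := by
    constructor
    · rintro ⟨x, y⟩ ⟨x', y'⟩ he
      have h0 := PhiH_inj (congrArg Subtype.val he)
      have h1 : y = y' := congrFun h0 2
      have h2 : x = x' := congrFun h0 3
      rw [h1, h2]
    · rintro ⟨g, hg⟩
      obtain ⟨x, y, rfl⟩ := (diag_iff h hf).1 hg
      exact ⟨(x, y), rfl⟩
  rw [← Nat.card_congr (Equiv.ofBijective f hb), Nat.card_prod, Nat.card_units, Nat.card_eq_fintype_card, pow_two]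

theorem card_group [Fintype K] : Nat.card ↥(twistedF4 K e) =
    Fintype.card K ^ 12 * (Fintype.card K - 1) * (Fintype.card K ^ 3 + 1) * (Fintype.card K ^ 4 - 1) * (Fintype.card K ^ 6 + 1) := by
  rw [(grp h hf).card_group₁, card_pos h hf, card_diag h hf, sum_Wr h hf]
  have hq : 1 ≤ Fintype.card K := Fintype.card_pos
  obtain ⟨k, hk⟩ : ∃ k, Fintype.card K = k + 1 := ⟨Fintype.card K - 1, by omega⟩
  rw [hk, Nat.add_sub_cancel]
  have h4 : (k + 1) ^ 4 - 1 = k * (k + 2) * (1 + (k + 1) ^ 2) := by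
    have : (k + 1) ^ 4 = k * (k + 2) * (1 + (k + 1) ^ 2) + 1 := by ring
    omega
  rw [h4]
  ring

end
end WF4
end Cfsg.Agent.H6
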