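import Cfsg.Agent.H6.TwChk
import Cfsg.Agent.H6.TabG2
import Cfsg.Agent.H6.TabB2
import Cfsg.Agent.H6.TabD4
import Cfsg.Agent.H6.TabF4
import Cfsg.Agent.H6.TabE6

/-!
Twisting data for E6, D4 (two 3-cycles), F4 and B2 in characteristic 2, G2 in characteristic 3.
-/

set_option autoImplicit false
set_option maxRecDepth 100000
namespace Cfsg.Agent.H6
open Cfsg.Lie

namespace WE6
def RT : ℕ := nat_lit 0x47464542374441363f34313c2d2926244340353e33303d322f2e3b2c28253a2b27392a380f1d0e201c0d221f1b0c1918150a17140912070423211e1a0b1613081106031005020100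
def IT : ℕ := nat_lit 0x47464542374441363f34313c2d2926244340353e33303d322f2e3b2c28253a2b27392a380f1d0e201c0d221f1b0c1918150a17140912070423211e1a0b1613081106031005020100
def LT : ℕ := nat_lit 0x0
def PT : ℕ := nat_lit 0x203040105
def ET : ℕ := nat_lit 0x96ad22942944b5690
theorem t1 : chkT1 (nat_lit 0) (nat_lit 72) (nat_lit 36) RT IT LT ET = true := by decide +kernel
theorem t2 : chkT2 (nat_lit 0) (nat_lit 6) (nat_lit 72) RT LT PT ET TE6.S TE6.P TE6.E TE6.CA = true := by decide +kernel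
theorem t3 : chkT3 (nat_lit 0) (nat_lit 72) (nat_lit 11) TE6.G RT LT ET = true := by decide +kernel
theorem tw : Tw chevE6 36 (etF TE6.E) 0 (sP RT) (sP IT) (lamF 0 LT) (sP PT) (epF ET) := TE6.chk.tw t1 t2 t3
end WE6


namespace WD4a
def RT : ℕ := nat_lit 0x17161115100d140f130e0c12050b090408030a0702060100
def IT : ℕ := nat_lit 0x171614110f0c1513100e120d0a05090704020b0806030100
def LT : ℕ := nat_lit 0x0
def PT : ℕ := nat_lit 0x30102
def ET : ℕ := nat_lit 0x2a8154
theorem t1 : chkT1 (nat_lit 0) (nat_lit 24) (nat_lit 12) RT IT LT ET = true := by decide +kernel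
theorem t2 : chkT2 (nat_lit 0) (nat_lit 4) (nat_lit 24) RT LT PT ET TD4.S TD4.P TD4.E TD4.CA = true := by decide +kernel
theorem t3 : chkT3 (nat_lit 0) (nat_lit 24) (nat_lit 11) TD4.G RT LT ET = true := by decide +kernel
theorem tw : Tw chevD4 12 (etF TD4.E) 0 (sP RT) (sP IT) (lamF 0 LT) (sP PT) (epF ET) := TD4.chk.tw t1 t2 t3
end WD4a


namespace WD4b
def RT : ℕ := nat_lit 0x171614110f0c1513100e120d0a05090704020b0806030100
def IT : ℕ := nat_lit 0x17161115100d140f130e0c12050b090408030a0702060100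
def LT : ℕ := nat_lit 0x0
def PT : ℕ := nat_lit 0x2000103
def ET : ℕ := nat_lit 0x1b00d8
theorem t1 : chkT1 (nat_lit 0) (nat_lit 24) (nat_lit 12) RT IT LT ET = true := by decide +kernel
theorem t2 : chkT2 (nat_lit 0) (nat_lit 4) (nat_lit 24) RT LT PT ET TD4.S TD4.P TD4.E TD4.CA = true := by decide +kernel
theorem t3 : chkT3 (nat_lit 0) (nat_lit 24) (nat_lit 11) TD4.G RT LT ET = true := by decide +kernel
theorem tw : Tw chevD4 12 (etF TD4.E) 0 (sP RT) (sP IT) (lamF 0 LT) (sP PT) (epF ET) := TD4.chk.tw t1 t2 t3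
end WD4b


namespace WF4
def RT : ℕ := nat_lit 0x2c28272f26241d2e2d2b202a1f1a1825231c291e19221b210e140d161106130c0a171510050f040201120b0900080703
def IT : ℕ := nat_lit 0x2c28272f26241d2e2d2b202a1f1a1825231c291e19221b210e140d161106130c0a171510050f040201120b0900080703
def LT : ℕ := nat_lit 0x11fe381c7f88
def PT : ℕ := nat_lit 0x10203
def ET : ℕ := nat_lit 0x0
theorem t1 : chkT1 (nat_lit 2) (nat_lit 48) (nat_lit 24) RT IT LT ET = true := by decide +kernel
theorem t2 : chkT2 (nat_lit 2) (nat_lit 4) (nat_lit 48) RT LT PT ET TF4.S TF4.P TF4.E TF4.CA = true := by decide +kernel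
theorem t3 : chkT3 (nat_lit 2) (nat_lit 48) (nat_lit 33) TF4.G RT LT ET = true := by decide +kernel
theorem tw : Tw chevF4 24 (etF TF4.E) 2 (sP RT) (sP IT) (lamF 2 LT) (sP PT) (epF ET) := TF4.chk.tw t1 t2 t3
end WF4


namespace WB2
def RT : ℕ := nat_lit 0x607040502030001
def IT : ℕ := nat_lit 0x607040502030001
def LT : ℕ := nat_lit 0x66
def PT : ℕ := nat_lit 0x1
def ET : ℕ := nat_lit 0x0
theorem t1 : chkT1 (nat_lit 2) (nat_lit 8) (nat_lit 4) RT IT LT ET = true := by decide +kernel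
theorem t2 : chkT2 (nat_lit 2) (nat_lit 2) (nat_lit 8) RT LT PT ET TB2.S TB2.P TB2.E TB2.CA = true := by decide +kernel
theorem t3 : chkT3 (nat_lit 2) (nat_lit 8) (nat_lit 33) TB2.G RT LT ET = true := by decide +kernel
theorem tw : Tw chevB2 4 (etF TB2.E) 2 (sP RT) (sP IT) (lamF 2 LT) (sP PT) (epF ET) := TB2.chk.tw t1 t2 t3
end WB2


namespace WG2
def RT : ℕ := nat_lit 0x9080b0a0607040501000302
def IT : ℕ := nat_lit 0x9080b0a0607040501000302
def LT : ℕ := nat_lit 0x39c
def PT : ℕ := nat_lit 0x1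
def ET : ℕ := nat_lit 0x0
theorem t1 : chkT1 (nat_lit 3) (nat_lit 12) (nat_lit 6) RT IT LT ET = true := by decide +kernel
theorem t2 : chkT2 (nat_lit 3) (nat_lit 2) (nat_lit 12) RT LT PT ET TG2.S TG2.P TG2.E TG2.CA = true := by decide +kernel
theorem t3 : chkT3 (nat_lit 3) (nat_lit 12) (nat_lit 33) TG2.G RT LT ET = true := by decide +kernel
theorem tw : Tw chevG2 6 (etF TG2.E) 3 (sP RT) (sP IT) (lamF 3 LT) (sP PT) (epF ET) := TG2.chk.tw t1 t2 t3
end WG2


end Cfsg.Agent.H6
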