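import Cfsg.Agent.H6.TwPerf

/-!
Perfectness of 2E6(q), 3D4(q).
-/

set_option autoImplicit false
set_option linter.unusedSectionVars false
set_option maxHeartbeats 400000
set_option maxRecDepth 10000

namespace Cfsg.Agent.H6
open Cfsg.Lie
open scoped Matrix

theorem exists_sq_ne {K : Type*} [Field K] [Fintype K] (h : 4 ≤ Fintype.card K) : ∃ a : Kˣ, a ^ 2 ≠ 1 := by
  classical
  by_contra hc
  push Not at hc
  have h1 : Nat.card {a : Kˣ // a ^ 2 = 1} ≤ 2 := by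
    have := card_rootsOfUnity K 2
    calc Nat.card {a : Kˣ // a ^ 2 = 1} = Nat.card (rootsOfUnity 2 K) :=
          Nat.card_congr (Equiv.subtypeEquivRight fun a => by rw [mem_rootsOfUnity])
      _ ≤ 2 := this
  have h2 : Nat.card {a : Kˣ // a ^ 2 = 1} = Nat.card Kˣ :=
    Nat.card_congr (Equiv.subtypeUnivEquiv hc)
  rw [h2, Nat.card_eq_fintype_card, Fintype.card_units] at h1
  omega

theorem pow_sq_ne {K : Type*} [Field K] {q n : ℕ} (hq : ∀ t : K, (t ^ q) ^ n = t) {a : Kˣ} (ha : a ^ 2 ≠ 1) : (a ^ q) ^ 2 ≠ 1 := by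
  intro h
  apply ha
  have hu : (a ^ q) ^ n = a := Units.ext (by rw [Units.val_pow_eq_pow_val, Units.val_pow_eq_pow_val]; exact hq a)
  rw [← hu, ← pow_mul, mul_comm, pow_mul, h, one_pow]

theorem wg_single' (D : ChevalleyDatum) {F : Type*} [Field F] (r : ℕ) (t : F) : wg D F [(r, t)] = xg D F r t := by
  simp [wg]

namespace WE6
variable {K : Type*} [Field K] {q : ℕ}

theorem cartanE : ∀ k i : Fin 6, chevE6.cartan k (chevE6.simple i) = (![![2, 0, -1, 0, 0, 0], ![0, 2, 0, -1, 0, 0], ![-1, 0, 2, -1, 0, 0], ![0, -1, -1, 2, -1, 0],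
  ![0, 0, 0, -1, 2, -1], ![0, 0, 0, 0, -1, 2]] : Fin 6 → Fin 6 → ℤ) i k := by decide +kernel

theorem hum (j : Fin 4) {σ : ↥(chevE6.group K) →* ↥(chevE6.group K)} (h : Ctx K q σ) : ∀ r ∈ h.G.Um (h.wJ LL j), ∃ i ∈ LL j, r = chevE6.simple i :=
  TE6.chk.umS h j (ums j)

theorem card_ge (hq : IsPrimePow q) : 4 ≤ q ^ 2 := by
  have := hq.two_le
  nlinarith

theorem torus_aux (c : Fin 6 → Kˣ) (i : Fin 6) : (∏ k : Fin 6, c k ^ chevE6.cartan k (chevE6.simple i)) =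
    ∏ k : Fin 6, c k ^ (![![2, 0, -1, 0, 0, 0], ![0, 2, 0, -1, 0, 0], ![-1, 0, 2, -1, 0, 0], ![0, -1, -1, 2, -1, 0],
  ![0, 0, 0, -1, 2, -1], ![0, 0, 0, 0, -1, 2]] : Fin 6 → Fin 6 → ℤ) i k :=
  Finset.prod_congr rfl fun k _ => by rw [cartanE]

theorem dS2 [Fintype K] (hq : IsPrimePow q) (hK : Fintype.card K = q ^ 2) {σ : ↥(chevE6.group K) →* ↥(chevE6.group K)} (h : Ctx K q σ) :
    US (xg chevE6 K) (h.G.Um (h.wJ LL 2)) ⊓ fixS σ ≤ dS (twistedE6 K q) := by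
  have hq2 := pow_pow hK
  obtain ⟨a, ha⟩ := exists_sq_ne (K := K) (by rw [hK]; exact card_ge hq)
  have haq : (a ^ q) ^ 2 ≠ 1 := pow_sq_ne hq2 ha
  have hu : ∀ t : Kˣ, (t ^ q) ^ q = t := fun t => Units.ext (by rw [Units.val_pow_eq_pow_val, Units.val_pow_eq_pow_val]; exact hq2 t)
  have hc : (![1, 1, a, 1, a ^ q, 1] : Fin 6 → Kˣ) ∈ Tq K q := by
    rw [mem_Tq]
    funext i
    fin_cases i <;> simp [shat, hu]
  refine (grp h hq2).torus_dS (PhiH_mem h hc) (h.G.mon_PhiH (![1, 1, a, 1, a ^ q, 1] : Fin 6 → Kˣ)) ?_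
  intro r hr
  obtain ⟨i, hi, hri⟩ := hum 2 h r hr
  rw [hri]
  rcases mem2 i hi with hi' | hi'
  · have : i = (2 : Fin 6) := Fin.ext hi'
    subst this
    have h1 := torus_aux (![1, 1, a, 1, a ^ q, 1] : Fin 6 → Kˣ) 2
    change (∏ k : Fin 6, (![1, 1, a, 1, a ^ q, 1] : Fin 6 → Kˣ) k ^ chevE6.cartan k (chevE6.simple (2 : Fin 6))) ≠ 1
    rw [h1]
    simpa [Fin.prod_univ_succ] using ha
  · have : i = (4 : Fin 6) := Fin.ext hi'
    subst this
    have h1 := torus_aux (![1, 1, a, 1, a ^ q, 1] : Fin 6 → Kˣ) 4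
    change (∏ k : Fin 6, (![1, 1, a, 1, a ^ q, 1] : Fin 6 → Kˣ) k ^ chevE6.cartan k (chevE6.simple (4 : Fin 6))) ≠ 1
    rw [h1]
    simpa [Fin.prod_univ_succ] using haq

theorem dS3 [Fintype K] (hq : IsPrimePow q) (hK : Fintype.card K = q ^ 2) {σ : ↥(chevE6.group K) →* ↥(chevE6.group K)} (h : Ctx K q σ) :
    US (xg chevE6 K) (h.G.Um (h.wJ LL 3)) ⊓ fixS σ ≤ dS (twistedE6 K q) := by
  have hq2 := pow_pow hK
  obtain ⟨a, ha⟩ := exists_sq_ne (K := K) (by rw [hK]; exact card_ge hq)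
  have haq : (a ^ q) ^ 2 ≠ 1 := pow_sq_ne hq2 ha
  have hu : ∀ t : Kˣ, (t ^ q) ^ q = t := fun t => Units.ext (by rw [Units.val_pow_eq_pow_val, Units.val_pow_eq_pow_val]; exact hq2 t)
  have hc : (![a, 1, 1, 1, 1, a ^ q] : Fin 6 → Kˣ) ∈ Tq K q := by
    rw [mem_Tq]
    funext i
    fin_cases i <;> simp [shat, hu]
  refine (grp h hq2).torus_dS (PhiH_mem h hc) (h.G.mon_PhiH (![a, 1, 1, 1, 1, a ^ q] : Fin 6 → Kˣ)) ?_
  intro r hr
  obtain ⟨i, hi, hri⟩ := hum 3 h r hr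
  rw [hri]
  rcases mem3 i hi with hi' | hi'
  · have : i = (0 : Fin 6) := Fin.ext hi'
    subst this
    have h1 := torus_aux (![a, 1, 1, 1, 1, a ^ q] : Fin 6 → Kˣ) 0
    change (∏ k : Fin 6, (![a, 1, 1, 1, 1, a ^ q] : Fin 6 → Kˣ) k ^ chevE6.cartan k (chevE6.simple (0 : Fin 6))) ≠ 1
    rw [h1]
    simpa [Fin.prod_univ_succ] using ha
  · have : i = (5 : Fin 6) := Fin.ext hi'
    subst this
    have h1 := torus_aux (![a, 1, 1, 1, 1, a ^ q] : Fin 6 → Kˣ) 5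
    change (∏ k : Fin 6, (![a, 1, 1, 1, 1, a ^ q] : Fin 6 → Kˣ) k ^ chevE6.cartan k (chevE6.simple (5 : Fin 6))) ≠ 1
    rw [h1]
    simpa [Fin.prod_univ_succ] using haq

/-- the fixed root `p2 + p4` -/
theorem mem47 {σ : ↥(chevE6.group K) →* ↥(chevE6.group K)} (h : Ctx K q σ) (hq2 : ∀ t : K, (t ^ q) ^ q = t) : xg chevE6 K 47 1 ∈ twistedE6 K q := by
  apply (grp h hq2).pos_le
  refine Subgroup.mem_inf.2 ⟨?_, ?_⟩
  · rw [h.G.posUnipotent_eq_US]
    exact mem_US (by constructor <;> decide) _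
  · exact h.xg_fix (by decide) (by decide +kernel) (by decide +kernel) (one_pow _)

theorem const_pw (b : Bool) (j : Fin 4) {t : K} (ht : t ^ q = t) : pw chevE6 K b (LL j) (fun _ => t) ∈ twistedE6 K q :=
  gen_mem j b _ (key1 t ht _)

theorem ct1 : chevE6.commTerms 32 47 = [(46, 1, 1, 1)] := by decide +kernel
theorem ct2 : chevE6.commTerms 25 47 = [(39, -1, 1, 1)] := by decide +kernel

theorem dS0 {σ : ↥(chevE6.group K) →* ↥(chevE6.group K)} (h : Ctx K q σ) (hq2 : ∀ t : K, (t ^ q) ^ q = t) :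
    US (xg chevE6 K) (h.G.Um (h.wJ LL 0)) ⊓ fixS σ ≤ dS (twistedE6 K q) := by
  apply h.corb_root orbL (corb 0) (hum 0 h)
  intro f hf
  have h1 := hf _ in0
  rw [lam_one, one_mul] at h1
  change f (sP PT 1) = _ at h1
  rw [p1] at h1
  rw [pw0]
  have h2 : xg chevE6 K 32 (f 1) ∈ twistedE6 K q := by
    have := const_pw (q := q) false 1 (t := f 1) h1.symm
    rw [pw1, wg_single'] at this
    exact this
  have h3 := h.G.pure_mem h.E (r := 32) (s := 47) (k := 46) (c := 1) (by decide) (by decide) (by decide) (by decide +kernel) (Or.inl rfl) ct1 h2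
    (mem47 h hq2)
  rw [mul_one] at h3
  rw [wg_single']
  exact h3

theorem dS1 {σ : ↥(chevE6.group K) →* ↥(chevE6.group K)} (h : Ctx K q σ) (hq2 : ∀ t : K, (t ^ q) ^ q = t) :
    US (xg chevE6 K) (h.G.Um (h.wJ LL 1)) ⊓ fixS σ ≤ dS (twistedE6 K q) := by
  apply h.corb_root orbL (corb 1) (hum 1 h)
  intro f hf
  have h1 := hf _ in1
  rw [lam_one, one_mul] at h1
  change f (sP PT 3) = _ at h1
  rw [p3] at h1
  rw [pw1]
  have h2 : xg chevE6 K 25 (f 3) ∈ twistedE6 K q := by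
    have := const_pw (q := q) false 0 (t := f 3) h1.symm
    rw [pw0, wg_single'] at this
    exact this
  have h3 := h.G.pure_mem h.E (r := 25) (s := 47) (k := 39) (c := -1) (by decide) (by decide) (by decide) (by decide +kernel) (Or.inr rfl) ct2 h2
    (mem47 h hq2)
  rw [mul_one] at h3
  rw [wg_single']
  exact h3

theorem perfect [Fintype K] (hq : IsPrimePow q) (hK : Fintype.card K = q ^ 2) : commutator ↥(twistedE6 K q) = ⊤ := by
  obtain ⟨σ, h⟩ := exists_ctx (K := K) (by norm_num : (2 : ℕ) ≠ 0) hq hK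
  have hq2 := pow_pow hK
  apply commutator_eq_top
  apply gen_le h.G
  intro w hw
  obtain ⟨j, b, f, hf, he⟩ := word_cases hq2 hw
  rw [he]
  refine (grp h hq2).pw_dS (corb j) ?_ b hf
  fin_cases j
  · exact dS0 h hq2
  · exact dS1 h hq2
  · exact dS2 hq hK h
  · exact dS3 hq hK h

end WE6

namespace WD4a
variable {K : Type*} [Field K] {q : ℕ}

theorem cartanE : ∀ k i : Fin 4, chevD4.cartan k (chevD4.simple i) = (![![2, -1, 0, 0], ![-1, 2, -1, -1], ![0, -1, 2, 0], ![0, -1, 0, 2]] : Fin 4 → Fin 4 → ℤ) i k := by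
  decide +kernel

theorem hum (j : Fin 2) {σ : ↥(chevD4.group K) →* ↥(chevD4.group K)} (h : Ctx K q σ) : ∀ r ∈ h.G.Um (h.wJ LL j), ∃ i ∈ LL j, r = chevD4.simple i :=
  TD4.chk.umS h j (ums j)

theorem card_ge (hq : IsPrimePow q) : 4 ≤ q ^ 3 := by
  have := hq.two_le
  calc 4 ≤ 2 ^ 3 := by norm_num
    _ ≤ q ^ 3 := Nat.pow_le_pow_left this 3

theorem torus_aux (c : Fin 4 → Kˣ) (i : Fin 4) : (∏ k : Fin 4, c k ^ chevD4.cartan k (chevD4.simple i)) =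
    ∏ k : Fin 4, c k ^ (![![2, -1, 0, 0], ![-1, 2, -1, -1], ![0, -1, 2, 0], ![0, -1, 0, 2]] : Fin 4 → Fin 4 → ℤ) i k :=
  Finset.prod_congr rfl fun k _ => by rw [cartanE]

theorem dS1 [Fintype K] (hq : IsPrimePow q) (hK : Fintype.card K = q ^ 3) {σ : ↥(chevD4.group K) →* ↥(chevD4.group K)} (h : Ctx K q σ) :
    US (xg chevD4 K) (h.G.Um (h.wJ LL 1)) ⊓ fixS σ ≤ dS (twistedD4 K q) := by
  have hq3 := pow_pow hK
  obtain ⟨a, ha⟩ := exists_sq_ne (K := K) (by rw [hK]; exact card_ge hq)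
  have hq3' : ∀ t : K, (t ^ q) ^ (q ^ 2) = t := fun t => by rw [← pow_mul, mul_comm, pow_mul]; exact hq3 t
  have haq : (a ^ q) ^ 2 ≠ 1 := pow_sq_ne hq3' ha
  have haqq : ((a ^ q) ^ q) ^ 2 ≠ 1 := pow_sq_ne hq3' haq
  have hu : ∀ t : Kˣ, ((t ^ q) ^ q) ^ q = t := hu3 hq3
  have hc : (![a, 1, a ^ q, (a ^ q) ^ q] : Fin 4 → Kˣ) ∈ Tq K q := by
    rw [mem_Tq]
    funext i
    fin_cases i <;> simp [shat, hu]
  refine (grp h hq3).torus_dS (PhiH_mem h hc) (h.G.mon_PhiH (![a, 1, a ^ q, (a ^ q) ^ q] : Fin 4 → Kˣ)) ?_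
  intro r hr
  obtain ⟨i, hi, hri⟩ := hum 1 h r hr
  rw [hri]
  rcases mem1 i hi with hi' | hi' | hi'
  · have : i = (0 : Fin 4) := Fin.ext hi'
    subst this
    have h1 := torus_aux (![a, 1, a ^ q, (a ^ q) ^ q] : Fin 4 → Kˣ) 0
    change (∏ k : Fin 4, (![a, 1, a ^ q, (a ^ q) ^ q] : Fin 4 → Kˣ) k ^ chevD4.cartan k (chevD4.simple (0 : Fin 4))) ≠ 1
    rw [h1]
    simpa [Fin.prod_univ_succ] using ha
  · have : i = (2 : Fin 4) := Fin.ext hi'
    subst this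
    have h1 := torus_aux (![a, 1, a ^ q, (a ^ q) ^ q] : Fin 4 → Kˣ) 2
    change (∏ k : Fin 4, (![a, 1, a ^ q, (a ^ q) ^ q] : Fin 4 → Kˣ) k ^ chevD4.cartan k (chevD4.simple (2 : Fin 4))) ≠ 1
    rw [h1]
    simpa [Fin.prod_univ_succ] using haq
  · have : i = (3 : Fin 4) := Fin.ext hi'
    subst this
    have h1 := torus_aux (![a, 1, a ^ q, (a ^ q) ^ q] : Fin 4 → Kˣ) 3
    change (∏ k : Fin 4, (![a, 1, a ^ q, (a ^ q) ^ q] : Fin 4 → Kˣ) k ^ chevD4.cartan k (chevD4.simple (3 : Fin 4))) ≠ 1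
    rw [h1]
    simpa [Fin.prod_univ_succ] using haqq

/-- the highest root -/
theorem mem23 {σ : ↥(chevD4.group K) →* ↥(chevD4.group K)} (h : Ctx K q σ) (hq3 : ∀ t : K, (t ^ q ^ 2) ^ q = t) : xg chevD4 K 23 1 ∈ twistedD4 K q := by
  apply (grp h hq3).pos_le
  refine Subgroup.mem_inf.2 ⟨?_, ?_⟩
  · rw [h.G.posUnipotent_eq_US]
    exact mem_US (by constructor <;> decide) _
  · exact h.xg_fix (by decide) (by decide +kernel) (by decide +kernel) (one_pow _)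

theorem ct1 : chevD4.commTerms 1 23 = [(14, -1, 1, 1)] := by decide +kernel

/-- the negative of the other fixed root -/
theorem mem1' {σ : ↥(chevD4.group K) →* ↥(chevD4.group K)} (h : Ctx K q σ) (hq3 : ∀ t : K, (t ^ q ^ 2) ^ q = t) :
    ∃ c : K, c ≠ 0 ∧ c ^ q = c ∧ ∀ s : K, s ^ q = s → xg chevD4 K 1 (c * s) ∈ twistedD4 K q := by
  obtain ⟨χ, hm⟩ := (grp h hq3).nJ_mon 1
  have hn := (grp h hq3).nJ_mem 1
  have h9 : ∀ s : K, s ^ q = s → xg chevD4 K 9 s ∈ twistedD4 K q := by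
    intro s hs
    have h1 := gen_mem (q := q) 0 false (fun _ => s) (key0 s hs _)
    rw [pw0, wg_single'] at h1
    exact h1
  have hw : ((h.wJ LL 1).1 ⟨9, by decide⟩ : ℕ) = 1 := by
    unfold TwCtx.wJ
    rw [wp_val]
    change rfw chevD4 (L 1) 9 = 1
    decide +kernel
  have hall : ∀ s : K, s ^ q = s → xg chevD4 K 1 ((χ ⟨9, by decide⟩ : K) * s) ∈ twistedD4 K q := by
    intro s hs
    have h1 := hm.act ⟨9, by decide⟩ s
    rw [hw] at h1
    rw [← h1]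
    exact mul_mem (mul_mem hn.2 (h9 s hs)) (inv_mem hn.2)
  refine ⟨(χ ⟨9, by decide⟩ : K), Units.ne_zero _, ?_, hall⟩
  have h2 := (grp h hq3).le_fix (hall 1 (one_pow _))
  have h3 := h2.2
  rw [h.S.x 1 (by decide)] at h3
  have h4 : tX chevD4 K (sP RT) (lamF 0 LT) (epF ET) q 1 ((χ ⟨9, by decide⟩ : K) * 1) = xg chevD4 K 1 ((χ ⟨9, by decide⟩ : K) ^ q) := by
    unfold tX
    have e1 : sP RT 1 = 1 := by decide +kernel
    have e2 : epF ET 1 = 1 := by decide +kernel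
    rw [e1, e2, lam_one, one_mul, mul_one, Int.cast_one, one_mul]
  rw [h4, mul_one] at h3
  exact h.G.xg_inj' h.E (by decide) h3

theorem dS0 {σ : ↥(chevD4.group K) →* ↥(chevD4.group K)} (h : Ctx K q σ) (hq3 : ∀ t : K, (t ^ q ^ 2) ^ q = t) :
    US (xg chevD4 K) (h.G.Um (h.wJ LL 0)) ⊓ fixS σ ≤ dS (twistedD4 K q) := by
  apply h.corb_root orbL (corb 0) (hum 0 h)
  intro f hf
  have h1 := hf _ in0
  rw [lam_one, one_mul] at h1
  change f (sP PT 1) = _ at h1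
  rw [p1] at h1
  rw [pw0, wg_single']
  obtain ⟨c, hc0, hc, hall⟩ := mem1' h hq3
  have h2 := hall (c⁻¹ * f 1) (by rw [mul_pow, inv_pow, hc, ← h1])
  rw [mul_inv_cancel_left₀ hc0] at h2
  have h3 := h.G.pure_mem h.E (r := 1) (s := 23) (k := 14) (c := -1) (by decide) (by decide) (by decide) (by decide +kernel) (Or.inr rfl) ct1 h2
    (mem23 h hq3)
  rw [mul_one] at h3
  exact h3

theorem perfect [Fintype K] (hq : IsPrimePow q) (hK : Fintype.card K = q ^ 3) : commutator ↥(twistedD4 K q) = ⊤ := by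
  obtain ⟨σ, h⟩ := exists_ctx (K := K) (by norm_num : (3 : ℕ) ≠ 0) hq hK
  have hq3 := pow_pow hK
  apply commutator_eq_top
  apply gen_le h.G
  intro w hw
  obtain ⟨j, b, f, hf, he⟩ := word_cases hq3 hw
  rw [he]
  refine (grp h hq3).pw_dS (corb j) ?_ b hf
  fin_cases j
  · exact dS0 h hq3
  · exact dS1 hq hK h

end WD4a

end Cfsg.Agent.H6
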