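import Cfsg.Agent.H6.TwOrbTab
import Cfsg.Agent.H6.TwComm3
import Cfsg.Agent.H6.TwCard
import Cfsg.Prelude.Def_LieTwisted

/-!
The Ree groups 2G2(q): fixed points of `σ` in `U` and `V`.
-/

set_option autoImplicit false
set_option linter.unusedSectionVars false
set_option maxHeartbeats 400000
set_option maxRecDepth 10000

namespace Cfsg.Agent.H6
open Cfsg.Lie
open scoped Matrix

section ab4
variable {K A : Type*} [Field K] [Group A]

/-- four commuting additive families -/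
structure Ab4 (Y : Fin 4 → K → A) : Prop where
  add : ∀ i a b, Y i (a + b) = Y i a * Y i b
  comm : ∀ i j a b, Commute (Y i a) (Y j b)

/-- product of four elements -/
def ab4 (Y : Fin 4 → K → A) (a b c d : K) : A := Y 0 a * Y 1 b * Y 2 c * Y 3 d

theorem Ab4.mul {Y : Fin 4 → K → A} (h : Ab4 Y) (a b c d a' b' c' d' : K) :
    ab4 Y a b c d * ab4 Y a' b' c' d' = ab4 Y (a + a') (b + b') (c + c') (d + d') := by
  unfold ab4
  rw [h.add, h.add, h.add, h.add]
  have h1 : Commute (Y 1 b * Y 2 c * Y 3 d) (Y 0 a') := ((h.comm 1 0 b a').mul_left (h.comm 2 0 c a')).mul_left (h.comm 3 0 d a')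
  have h2 : Commute (Y 2 c * Y 3 d) (Y 1 b') := (h.comm 2 1 c b').mul_left (h.comm 3 1 d b')
  have h3 := h.comm 3 2 d c'
  calc Y 0 a * Y 1 b * Y 2 c * Y 3 d * (Y 0 a' * Y 1 b' * Y 2 c' * Y 3 d')
      = Y 0 a * ((Y 1 b * Y 2 c * Y 3 d) * Y 0 a') * Y 1 b' * Y 2 c' * Y 3 d' := by simp only [mul_assoc]
    _ = Y 0 a * Y 0 a' * Y 1 b * ((Y 2 c * Y 3 d) * Y 1 b') * Y 2 c' * Y 3 d' := by rw [h1.eq]; simp only [mul_assoc]
    _ = Y 0 a * Y 0 a' * Y 1 b * Y 1 b' * Y 2 c * (Y 3 d * Y 2 c') * Y 3 d' := by rw [h2.eq]; simp only [mul_assoc]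
    _ = _ := by rw [h3.eq]; simp only [mul_assoc]

theorem Ab4.reorder {Y : Fin 4 → K → A} (h : Ab4 Y) (a b c d : K) :
    Y 2 c * Y 3 d * Y 0 a * Y 1 b = ab4 Y a b c d := by
  unfold ab4
  have h1 : Commute (Y 2 c * Y 3 d) (Y 0 a * Y 1 b) :=
    ((h.comm 2 0 c a).mul_left (h.comm 3 0 d a)).mul_right ((h.comm 2 1 c b).mul_left (h.comm 3 1 d b))
  calc Y 2 c * Y 3 d * Y 0 a * Y 1 b = (Y 2 c * Y 3 d) * (Y 0 a * Y 1 b) := by simp only [mul_assoc]
    _ = _ := by rw [h1.eq]; simp only [mul_assoc]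

end ab4

namespace WG2

abbrev Ctx (K : Type*) [Field K] (e : ℕ) (σ : ↥(chevG2.group K) →* ↥(chevG2.group K)) : Prop :=
  TwCtx chevG2 6 (etF TG2.E) (cO TG2.MO) K 3 (sP RT) (sP IT) (lamF 3 LT) (sP PT) (epF ET) e σ

/-- field hypotheses -/
structure Fl (K : Type*) [Field K] (e : ℕ) : Prop where
  three : (3 : K) = 0
  add : ∀ a b : K, (a + b) ^ e = a ^ e + b ^ e
  add3 : ∀ a b : K, (a + b) ^ (3 * e) = a ^ (3 * e) + b ^ (3 * e)
  sq : ∀ a : K, (a ^ e) ^ (3 * e) = a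

theorem lam_or (r : ℕ) : lamF 3 LT r = 1 ∨ lamF 3 LT r = 3 := by
  unfold lamF
  cases Nat.beq (Nat.land (Nat.shiftRight LT r) (nat_lit 1)) (nat_lit 0)
  · right; rfl
  · left; rfl

theorem fl_of_card {K : Type*} [Field K] [Fintype K] {m : ℕ} (hK : Fintype.card K = 3 ^ (2 * m + 1)) : Fl K (3 ^ m) where
  three := by
    have := charP_of_card Nat.prime_three (Nat.succ_ne_zero _) hK
    exact_mod_cast CharP.cast_eq_zero K 3
  add := ff_add Nat.prime_three (Nat.succ_ne_zero _) hK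
  add3 := by
    intro a b
    have := ff_add (a := m + 1) Nat.prime_three (Nat.succ_ne_zero _) hK a b
    rwa [pow_succ, mul_comm (3 ^ m) 3] at this
  sq := by
    intro a
    rw [← pow_mul]
    have : 3 ^ m * (3 * 3 ^ m) = Fintype.card K := by rw [hK]; ring
    rw [this]
    exact FiniteField.pow_card a

theorem exists_ctx {K : Type*} [Field K] [Fintype K] {m : ℕ} (hK : Fintype.card K = 3 ^ (2 * m + 1)) :
    ∃ σ, Ctx K (3 ^ m) σ := by
  have hf := fl_of_card hK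
  refine H6.exists_ctx TG2.good TG2.ext tw (by exact_mod_cast hf.three) ?_ ?_
  · intro r _ t u
    rcases lam_or r with h | h
    · rw [h, one_mul]; exact hf.add t u
    · rw [h]; exact hf.add3 t u
  · intro r _
    rcases lam_or r with h | h
    · rw [h, one_mul]; exact ff_surj Nat.prime_three (Nat.succ_ne_zero _) hK
    · rw [h]
      have := ff_surj (a := m + 1) Nat.prime_three (Nat.succ_ne_zero _) hK
      rwa [pow_succ, mul_comm (3 ^ m) 3] at this

/-! ### relations -/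

theorem ctp : chevG2.commTerms 7 6 = [(8, -1, 1, 1), (9, 1, 2, 1), (10, 1, 3, 1), (11, 1, 3, 2)] := by decide +kernel
theorem ctn : chevG2.commTerms 4 5 = [(3, 1, 1, 1), (2, 1, 2, 1), (1, -1, 3, 1), (0, 1, 3, 2)] := by decide +kernel

/-- indices of the roots `a+b, 2a+b, 3a+b, 3a+2b` -/
def ic : Fin 4 → ℕ := ![8, 9, 10, 11]
/-- their negatives -/
def icn : Fin 4 → ℕ := ![3, 2, 1, 0]

theorem cmp : ∀ i j : Fin 4, cm0 3 chevG2.chainEntry (ic i) (ic j) = true ∧ ic j ≠ chevG2.neg (ic i) ∧ ic i < 12 := by decide +kernel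
theorem cmn : ∀ i j : Fin 4, cm0 3 chevG2.chainEntry (icn i) (icn j) = true ∧ icn j ≠ chevG2.neg (icn i) ∧ icn i < 12 := by decide +kernel

section
variable {K : Type*} [Field K] {e : ℕ}

/-- root elements with a sign: `true` positive, `false` negative -/
noncomputable def Zc (K : Type*) [Field K] (b : Bool) (i : Fin 4) (z : K) : GL chevG2.Idx K :=
  cond b (xg chevG2 K (ic i) z) (xg chevG2 K (icn i) (-z))
noncomputable def Za (K : Type*) [Field K] (b : Bool) (z : K) : GL chevG2.Idx K :=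
  cond b (xg chevG2 K 7 z) (xg chevG2 K 4 (-z))
noncomputable def Zb (K : Type*) [Field K] (b : Bool) (z : K) : GL chevG2.Idx K :=
  cond b (xg chevG2 K 6 z) (xg chevG2 K 5 (-z))

theorem nr : chevG2.nroots = 12 := by decide +kernel

theorem ab_Zc (h3 : (3 : K) = 0) (b : Bool) : Ab4 (Zc K b) where
  add := by
    intro i x y
    cases b
    · change xg chevG2 K (icn i) (-(x + y)) = xg chevG2 K (icn i) (-x) * xg chevG2 K (icn i) (-y)
      rw [neg_add, TG2.good.xg_add]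
    · exact TG2.good.xg_add _ _ _
  comm := by
    intro i j x y
    cases b
    · have h := cmn i j
      exact comm_of_cm0 TG2.good TG2.ext (by exact_mod_cast h3) (by rw [nr]; exact h.2.2) (by rw [nr]; exact (cmn j i).2.2) h.2.1 h.1 _ _
    · have h := cmp i j
      exact comm_of_cm0 TG2.good TG2.ext (by exact_mod_cast h3) (by rw [nr]; exact h.2.2) (by rw [nr]; exact (cmp j i).2.2) h.2.1 h.1 _ _

/-- the commutator relation -/
theorem rel_ba (b : Bool) (x y : K) : Zb K b y * Za K b x = Za K b x * Zb K b y *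
    ab4 (Zc K b) (x * y) (x ^ 2 * y) (-(x ^ 3 * y)) (-(x ^ 3 * y ^ 2)) := by
  cases b
  · have h := TG2.good.comm (F := K) TG2.ext (r := 4) (s := 5) (by decide +kernel) (by decide +kernel) (by decide) (by decide +kernel) (-x) (-y)
    change xg chevG2 K 5 (-y) * xg chevG2 K 4 (-x) = xg chevG2 K 4 (-x) * xg chevG2 K 5 (-y) *
      (xg chevG2 K 3 (-(x * y)) * xg chevG2 K 2 (-(x ^ 2 * y)) * xg chevG2 K 1 (-(-(x ^ 3 * y))) * xg chevG2 K 0 (-(-(x ^ 3 * y ^ 2))))
    rw [h]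
    congr 1
    unfold ChevalleyDatum.commWord wg
    rw [ctn]
    simp only [List.map_cons, List.map_nil, List.prod_cons, List.prod_nil, mul_one, neg_neg, pow_one, mul_assoc]
    congr 1
    · congr 1; push_cast; ring
    congr 1
    · congr 1; push_cast; ring
    congr 1
    · congr 1; push_cast; ring
    · congr 1; push_cast; ring
  · have h := TG2.good.comm (F := K) TG2.ext (r := 7) (s := 6) (by decide +kernel) (by decide +kernel) (by decide) (by decide +kernel) x y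
    change xg chevG2 K 6 y * xg chevG2 K 7 x = xg chevG2 K 7 x * xg chevG2 K 6 y *
      (xg chevG2 K 8 (x * y) * xg chevG2 K 9 (x ^ 2 * y) * xg chevG2 K 10 (-(x ^ 3 * y)) * xg chevG2 K 11 (-(x ^ 3 * y ^ 2)))
    rw [h]
    congr 1
    unfold ChevalleyDatum.commWord wg
    rw [ctp]
    simp only [List.map_cons, List.map_nil, List.prod_cons, List.prod_nil, mul_one, pow_one, mul_assoc]
    congr 1
    · congr 1; push_cast; ring
    congr 1
    · congr 1; push_cast; ring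
    congr 1
    · congr 1; push_cast; ring
    · congr 1; push_cast; ring

/-- normal form -/
noncomputable def NF (K : Type*) [Field K] (b : Bool) (x y p q r s : K) : GL chevG2.Idx K :=
  Za K b x * Zb K b y * ab4 (Zc K b) p q r s


theorem rho_a : sP RT 7 = 6 ∧ sP RT 4 = 5 ∧ lamF 3 LT 7 = 3 ∧ lamF 3 LT 4 = 3 ∧ epF ET 7 = 1 ∧ epF ET 4 = 1 := by decide +kernel
theorem rho_b : sP RT 6 = 7 ∧ sP RT 5 = 4 ∧ lamF 3 LT 6 = 1 ∧ lamF 3 LT 5 = 1 ∧ epF ET 6 = 1 ∧ epF ET 5 = 1 := by decide +kernel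
/-- the permutation of the last four roots -/
def pc : Fin 4 → Fin 4 := ![2, 3, 0, 1]
/-- the exponents of the last four roots -/
def lc : Fin 4 → ℕ := ![3, 3, 1, 1]
theorem rho_c : ∀ i : Fin 4, sP RT (ic i) = ic (pc i) ∧ lamF 3 LT (ic i) = lc i ∧ epF ET (ic i) = 1 ∧
    sP RT (icn i) = icn (pc i) ∧ lamF 3 LT (icn i) = lc i ∧ epF ET (icn i) = 1 ∧ ic i < 12 ∧ icn i < 12 := by decide +kernel

theorem neg_pow_e (hf : Fl K e) (z : K) : (-z) ^ e = -z ^ e := neg_pow_of_add hf.add z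
theorem neg_pow_3e (hf : Fl K e) (z : K) : (-z) ^ (3 * e) = -z ^ (3 * e) := neg_pow_of_add hf.add3 z

variable {σ : ↥(chevG2.group K) →* ↥(chevG2.group K)} (h : Ctx K e σ) (hf : Fl K e)

include h

theorem Za_mem (b : Bool) (z : K) : Za K b z ∈ chevG2.group K := by
  cases b <;> exact TG2.good.xg_mem_group _ _
theorem Zb_mem (b : Bool) (z : K) : Zb K b z ∈ chevG2.group K := by
  cases b <;> exact TG2.good.xg_mem_group _ _
theorem Zc_mem (b : Bool) (i : Fin 4) (z : K) : Zc K b i z ∈ chevG2.group K := by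
  cases b <;> exact TG2.good.xg_mem_group _ _

include hf

theorem sgf_Za (b : Bool) (z : K) : sgf σ (Za K b z) = Zb K b (z ^ (3 * e)) := by
  obtain ⟨h1, h2, h3, h4, h5, h6⟩ := rho_a
  cases b
  · change sgf σ (xg chevG2 K 4 (-z)) = xg chevG2 K 5 (-(z ^ (3 * e)))
    rw [h.S.x 4 (by rw [nr]; decide)]
    unfold tX
    rw [h2, h4, h6, Int.cast_one, one_mul, neg_pow_3e hf]
  · change sgf σ (xg chevG2 K 7 z) = xg chevG2 K 6 (z ^ (3 * e))
    rw [h.S.x 7 (by rw [nr]; decide)]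
    unfold tX
    rw [h1, h3, h5, Int.cast_one, one_mul]

theorem sgf_Zb (b : Bool) (z : K) : sgf σ (Zb K b z) = Za K b (z ^ e) := by
  obtain ⟨h1, h2, h3, h4, h5, h6⟩ := rho_b
  cases b
  · change sgf σ (xg chevG2 K 5 (-z)) = xg chevG2 K 4 (-(z ^ e))
    rw [h.S.x 5 (by rw [nr]; decide)]
    unfold tX
    rw [h2, h4, h6, Int.cast_one, one_mul, one_mul, neg_pow_e hf]
  · change sgf σ (xg chevG2 K 6 z) = xg chevG2 K 7 (z ^ e)
    rw [h.S.x 6 (by rw [nr]; decide)]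
    unfold tX
    rw [h1, h3, h5, Int.cast_one, one_mul, one_mul]

theorem sgf_Zc (b : Bool) (i : Fin 4) (z : K) : sgf σ (Zc K b i z) = Zc K b (pc i) (z ^ (lc i * e)) := by
  obtain ⟨h1, h2, h3, h4, h5, h6, h7, h8⟩ := rho_c i
  cases b
  · change sgf σ (xg chevG2 K (icn i) (-z)) = xg chevG2 K (icn (pc i)) (-(z ^ (lc i * e)))
    rw [h.S.x (icn i) (by rw [nr]; exact h8)]
    unfold tX
    rw [h4, h5, h6, Int.cast_one, one_mul]
    congr 1
    have : lc i = 1 ∨ lc i = 3 := by fin_cases i <;> decide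
    rcases this with h9 | h9
    · rw [h9, one_mul]; exact neg_pow_e hf z
    · rw [h9]; exact neg_pow_3e hf z
  · change sgf σ (xg chevG2 K (ic i) z) = xg chevG2 K (ic (pc i)) (z ^ (lc i * e))
    rw [h.S.x (ic i) (by rw [nr]; exact h7)]
    unfold tX
    rw [h1, h2, h3, Int.cast_one, one_mul]

theorem sgf_ab4 (b : Bool) (p q r s : K) : sgf σ (ab4 (Zc K b) p q r s) =
    ab4 (Zc K b) (r ^ e) (s ^ e) (p ^ (3 * e)) (q ^ (3 * e)) := by
  unfold ab4
  have m0 := Zc_mem h b 0 p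
  have m1 := Zc_mem h b 1 q
  have m2 := Zc_mem h b 2 r
  have m3 := Zc_mem h b 3 s
  rw [sgf_mul (mul_mem (mul_mem m0 m1) m2) m3, sgf_mul (mul_mem m0 m1) m2, sgf_mul m0 m1,
    sgf_Zc h hf, sgf_Zc h hf, sgf_Zc h hf, sgf_Zc h hf]
  have := (ab_Zc hf.three b).reorder (r ^ (1 * e)) (s ^ (1 * e)) (p ^ (3 * e)) (q ^ (3 * e))
  rw [one_mul] at this
  unfold ab4 at this
  change Zc K b 2 (p ^ (3 * e)) * Zc K b 3 (q ^ (3 * e)) * Zc K b 0 (r ^ (1 * e)) * Zc K b 1 (s ^ (1 * e)) = _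
  rw [one_mul]
  exact this

theorem sgf_NF (b : Bool) (x y p q r s : K) : sgf σ (NF K b x y p q r s) =
    NF K b (y ^ e) (x ^ (3 * e)) (y ^ e * x ^ (3 * e) + r ^ e) ((y ^ e) ^ 2 * x ^ (3 * e) + s ^ e)
      (-((y ^ e) ^ 3 * x ^ (3 * e)) + p ^ (3 * e)) (-((y ^ e) ^ 3 * (x ^ (3 * e)) ^ 2) + q ^ (3 * e)) := by
  unfold NF
  have ma := Za_mem h b x
  have mb := Zb_mem h b y
  have mc : ab4 (Zc K b) p q r s ∈ chevG2.group K :=
    mul_mem (mul_mem (mul_mem (Zc_mem h b 0 p) (Zc_mem h b 1 q)) (Zc_mem h b 2 r)) (Zc_mem h b 3 s)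
  rw [sgf_mul (mul_mem ma mb) mc, sgf_mul ma mb, sgf_Za h hf, sgf_Zb h hf, sgf_ab4 h hf, rel_ba, mul_assoc, (ab_Zc hf.three b).mul]

/-- the fixed elements -/
theorem NF_fix (b : Bool) (t u v : K) : NF K b (t ^ e) t (t ^ (e + 1) + u ^ e) (t ^ (2 * e + 1) + v ^ e) u v ∈ fixS σ := by
  constructor
  · exact mul_mem (mul_mem (Za_mem h b _) (Zb_mem h b _)) (mul_mem (mul_mem (mul_mem (Zc_mem h b 0 _) (Zc_mem h b 1 _)) (Zc_mem h b 2 _)) (Zc_mem h b 3 _))
  · rw [sgf_NF h hf]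
    have e1 : ∀ a : K, (a ^ e) ^ (3 * e) = a := hf.sq
    have e2 : (t ^ (e + 1) + u ^ e) ^ (3 * e) = t * t ^ (3 * e) + u := by
      rw [hf.add3, e1, pow_succ, mul_pow, e1]
    have e3 : (t ^ (2 * e + 1) + v ^ e) ^ (3 * e) = t ^ 2 * t ^ (3 * e) + v := by
      rw [hf.add3, e1, pow_succ, mul_pow, pow_mul t 2 e, e1]
    rw [e1, e2, e3]
    congr 1
    · ring
    · ring
    · ring
    · ring

end
end WG2
end Cfsg.Agent.H6
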