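import Cfsg.Agent.H6.TwReeA
import Cfsg.Agent.H6.TwWr

/-!
The Ree groups 2G2(q): the structure `TwGrp`.
-/

set_option autoImplicit false
set_option linter.unusedSectionVars false
set_option maxHeartbeats 400000
set_option maxRecDepth 10000

namespace Cfsg.Agent.H6
open Cfsg.Lie
open scoped Matrix

namespace WG2
section
variable {K : Type*} [Field K] {e : ℕ}

/-- coefficient function of an ordered product -/
def tf (K : Type*) [Field K] (y x p q r s : K) : ℕ → K := fun k =>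
  if k = 6 then y else if k = 7 then x else if k = 8 then p else if k = 9 then q else if k = 10 then r else if k = 11 then s else 0

theorem tf6 (y x p q r s : K) : tf K y x p q r s 6 = y := rfl
theorem tf7 (y x p q r s : K) : tf K y x p q r s 7 = x := rfl
theorem tf8 (y x p q r s : K) : tf K y x p q r s 8 = p := rfl
theorem tf9 (y x p q r s : K) : tf K y x p q r s 9 = q := rfl
theorem tf10 (y x p q r s : K) : tf K y x p q r s 10 = r := rfl
theorem tf11 (y x p q r s : K) : tf K y x p q r s 11 = s := rfl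

theorem op_eq (t : ℕ → K) : op (xg chevG2 K) t 6 6 = Zb K true (t 6) * Za K true (t 7) * ab4 (Zc K true) (t 8) (t 9) (t 10) (t 11) := by
  change ((List.range' 6 6).map fun r => xg chevG2 K r (t r)).prod = xg chevG2 K 6 (t 6) * xg chevG2 K 7 (t 7) *
    (xg chevG2 K 8 (t 8) * xg chevG2 K 9 (t 9) * xg chevG2 K 10 (t 10) * xg chevG2 K 11 (t 11))
  rw [show List.range' 6 6 = [6, 7, 8, 9, 10, 11] from rfl]
  simp only [List.map_cons, List.map_nil, List.prod_cons, List.prod_nil, mul_one, mul_assoc]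

variable (h3 : (3 : K) = 0)
include h3

theorem NF_eq_op (x y p q r s : K) : NF K true x y p q r s =
    op (xg chevG2 K) (tf K y x (p - x * y) (q - x ^ 2 * y) (r + x ^ 3 * y) (s + x ^ 3 * y ^ 2)) 6 6 := by
  rw [op_eq, tf6, tf7, tf8, tf9, tf10, tf11, rel_ba, mul_assoc, (ab_Zc h3 true).mul]
  unfold NF
  congr 2 <;> ring

theorem NF_surj {g : GL chevG2.Idx K} (hg : g ∈ chevG2.posUnipotent K) : ∃ x y p q r s, g = NF K true x y p q r s := by
  obtain ⟨t, rfl⟩ := (TG2.good.mem_pos_iff TG2.ext).1 hg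
  refine ⟨t 7, t 6, t 8 + t 7 * t 6, t 9 + t 7 ^ 2 * t 6, t 10 - t 7 ^ 3 * t 6, t 11 - t 7 ^ 3 * t 6 ^ 2, ?_⟩
  rw [NF_eq_op h3, op_eq, op_eq]
  rw [tf6, tf7, tf8, tf9, tf10, tf11]
  congr 2 <;> ring

theorem NF_inj {x y p q r s x' y' p' q' r' s' : K} (h : NF K true x y p q r s = NF K true x' y' p' q' r' s') :
    x = x' ∧ y = y' ∧ p = p' ∧ q = q' ∧ r = r' ∧ s = s' := by
  rw [NF_eq_op h3, NF_eq_op h3] at h
  have h1 := TG2.good.op_inj TG2.ext _ _ 6 6 (by rw [nr]) le_rfl h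
  have a6 := h1 6 (by norm_num) (by rw [nr]; norm_num)
  have a7 := h1 7 (by norm_num) (by rw [nr]; norm_num)
  have a8 := h1 8 (by norm_num) (by rw [nr]; norm_num)
  have a9 := h1 9 (by norm_num) (by rw [nr]; norm_num)
  have a10 := h1 10 (by norm_num) (by rw [nr]; norm_num)
  have a11 := h1 11 (by norm_num) (by rw [nr]; norm_num)
  rw [tf6, tf6] at a6
  rw [tf7, tf7] at a7
  subst a6; subst a7
  rw [tf8, tf8] at a8
  rw [tf9, tf9] at a9
  rw [tf10, tf10] at a10
  rw [tf11, tf11] at a11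
  exact ⟨rfl, rfl, sub_left_injective a8, sub_left_injective a9, add_left_injective _ a10, add_left_injective _ a11⟩

theorem NF_mem (x y p q r s : K) : NF K true x y p q r s ∈ chevG2.posUnipotent K := by
  rw [NF_eq_op h3]; exact TG2.good.op_mem_pos _

omit h3

/-- the element of `U¹` (`b = true`) or `V¹` (`b = false`) -/
noncomputable def RE (K : Type*) [Field K] (e : ℕ) (b : Bool) (t u v : K) : GL chevG2.Idx K :=
  NF K b (t ^ e) t (t ^ (e + 1) + u ^ e) (t ^ (2 * e + 1) + v ^ e) u v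

theorem RE_wg (t u v : K) : RE K e true t u v = wg chevG2 K (reeWordU e t u v) := by
  change xg chevG2 K 7 (t ^ e) * xg chevG2 K 6 t * (xg chevG2 K 8 (t ^ (e + 1) + u ^ e) * xg chevG2 K 9 (t ^ (2 * e + 1) + v ^ e) *
    xg chevG2 K 10 u * xg chevG2 K 11 v) = _
  unfold wg reeWordU g2a g2b g2ab g2aab g2aaab g2aaabb
  simp only [List.map_cons, List.map_nil, List.prod_cons, List.prod_nil, mul_one, mul_assoc]

theorem RE_wg' (t u v : K) : RE K e false t u v = wg chevG2 K (reeWordV e t u v) := by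
  change xg chevG2 K 4 (-(t ^ e)) * xg chevG2 K 5 (-t) * (xg chevG2 K 3 (-(t ^ (e + 1) + u ^ e)) * xg chevG2 K 2 (-(t ^ (2 * e + 1) + v ^ e)) *
    xg chevG2 K 1 (-u) * xg chevG2 K 0 (-v)) = _
  have : (reeWordV e t u v : List (ℕ × K)) = [(4, -(t ^ e)), (5, -t), (3, -(t ^ (e + 1) + u ^ e)), (2, -(t ^ (2 * e + 1) + v ^ e)), (1, -u), (0, -v)] := by
    unfold reeWordV reeWordU ChevalleyDatum.negWord g2a g2b g2ab g2aab g2aaab g2aaabb
    simp only [List.map_cons, List.map_nil]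
    rw [show chevG2.negIdx.getD 7 0 = 4 by decide +kernel, show chevG2.negIdx.getD 6 0 = 5 by decide +kernel,
      show chevG2.negIdx.getD 8 0 = 3 by decide +kernel, show chevG2.negIdx.getD 9 0 = 2 by decide +kernel,
      show chevG2.negIdx.getD 10 0 = 1 by decide +kernel, show chevG2.negIdx.getD 11 0 = 0 by decide +kernel]
  rw [this]
  unfold wg
  simp only [List.map_cons, List.map_nil, List.prod_cons, List.prod_nil, mul_one, mul_assoc]

theorem RE_mem (b : Bool) (t u v : K) : RE K e b t u v ∈ twistedG2 K e := by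
  cases b
  · rw [RE_wg']; exact mem_gen TG2.good ⟨t, u, v, Or.inr rfl⟩
  · rw [RE_wg]; exact mem_gen TG2.good ⟨t, u, v, Or.inl rfl⟩

variable {σ : ↥(chevG2.group K) →* ↥(chevG2.group K)} (h : Ctx K e σ) (hf : Fl K e)
include h hf

theorem le_fix : twistedG2 K e ≤ fixS σ := by
  apply gen_le TG2.good
  rintro w ⟨t, u, v, rfl | rfl⟩
  · rw [← RE_wg]; exact NF_fix h hf true t u v
  · rw [← RE_wg']; exact NF_fix h hf false t u v

theorem fix_iff {g : GL chevG2.Idx K} : g ∈ chevG2.posUnipotent K ⊓ fixS σ ↔ ∃ t u v, g = RE K e true t u v := by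
  constructor
  · rintro ⟨hg, hg'⟩
    obtain ⟨x, y, p, q, r, s, rfl⟩ := NF_surj hf.three hg
    have h1 := hg'.2
    rw [sgf_NF h hf] at h1
    obtain ⟨h2, h3, h4, h5, h6, h7⟩ := NF_inj hf.three h1
    refine ⟨y, r, s, ?_⟩
    unfold RE
    rw [← h2] at h3 h4 h5 ⊢
    rw [hf.sq] at h4 h5
    rw [← h4, ← h5]
    congr 1
    · ring
    · ring
  · rintro ⟨t, u, v, rfl⟩
    exact Subgroup.mem_inf.2 ⟨NF_mem hf.three _ _ _ _ _ _, NF_fix h hf true t u v⟩

omit h in
/-- uniqueness -/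
theorem RE_inj {t u v t' u' v' : K} (h1 : RE K e true t u v = RE K e true t' u' v') : t = t' ∧ u = u' ∧ v = v' := by
  obtain ⟨-, h2, -, -, h3, h4⟩ := NF_inj hf.three h1
  exact ⟨h2, h3, h4⟩

theorem pos_fix_le : chevG2.posUnipotent K ⊓ fixS σ ≤ twistedG2 K e := by
  intro g hg
  obtain ⟨t, u, v, rfl⟩ := (fix_iff h hf).1 hg
  exact RE_mem true t u v

end
end WG2
end Cfsg.Agent.H6
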