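import Cfsg.Agent.H6.TwReeB
import Cfsg.Agent.H6.TwPerf

/-!
The Ree groups 2G2(q): the structure `TwGrp`.
-/

set_option autoImplicit false
set_option linter.unusedSectionVars false
set_option maxHeartbeats 400000
set_option maxRecDepth 10000

namespace Cfsg.Agent.H6
open Cfsg.Lie
open scoped Matrix

namespace WG2

/-- the orbit words with the right type -/
def LL : Fin 1 → List (Fin chevG2.rank) := L
theorem orbL : TwOrb chevG2 6 (cO TG2.MO) (sP RT) (sP PT) LL := orb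
theorem memLL : ∀ i : Fin chevG2.rank, i ∈ LL 0 := by decide +kernel

section
variable {K : Type*} [Field K] {e : ℕ}
variable {σ : ↥(chevG2.group K) →* ↥(chevG2.group K)} (h : Ctx K e σ) (hf : Fl K e)
include h

/-- the group `W¹` -/
theorem mem_Wr_iff {w : h.G.W} : w ∈ h.Wr ↔ w = 1 ∨ w = h.wJ LL 0 := by
  constructor
  · intro hw
    obtain ⟨A, hA⟩ := h.G.genInv.exists_word w
    exact h.eq_one_or_wJ orbL hw A (fun i _ => memLL i) hA.symm
  · rintro (rfl | rfl)
    · exact one_mem _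
    · exact h.wJ_mem orbL 0

theorem Um_eq : h.G.Um (h.wJ LL 0) = posS chevG2 6 := by
  ext r
  constructor
  · intro hr; exact h.G.Um_sub _ hr
  · rintro hr
    have h1 := (h.mem_Um_wJ orbL (j := 0) (r := ⟨r, hr.2⟩)).2 ⟨hr.1, fun i hi => absurd (memLL i) hi⟩
    exact h1

theorem len_wJ : len h.G.s (h.wJ LL 0) = 6 := by
  apply h.G.len_longest
  intro r
  constructor
  · intro hr
    have h1 : (r : ℕ) ∈ h.G.Um (h.wJ LL 0) := by rw [Um_eq h]; exact ⟨hr, r.2⟩
    exact (h.G.mem_Um.1 h1).2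
  · intro hr
    by_contra hc
    push Not at hc
    have h1 : 6 ≤ ((h.G.ngf r : Fin chevG2.nroots) : ℕ) := (h.G.pos_ngf_iff r).2 hc
    have h2 : ((h.G.ngf r : Fin chevG2.nroots) : ℕ) ∈ h.G.Um (h.wJ LL 0) := by rw [Um_eq h]; exact ⟨h1, Fin.is_lt _⟩
    have h3 := (h.G.mem_Um.1 h2).2
    rw [h.G.W_neg] at h3
    have := (h.G.pos_ngf_iff ((h.wJ LL 0).1 r)).2 hr
    omega

include hf

theorem grp : TwGrp h LL (twistedG2 K e) where
  orb := orbL
  le_fix := le_fix h hf
  rep := by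
    intro j
    have hj : j = 0 := Subsingleton.elim _ _
    subst hj
    have hgm : RE K e false 0 1 0 ∈ twistedG2 K e := RE_mem false 0 1 0
    have hgf := le_fix h hf hgm
    obtain ⟨u₁, hu₁, n, hn, w, χ, hw, hm, u₂, hu₂, he⟩ := h.fix_canon hgf
    have hu₁' : u₁ ∈ twistedG2 K e := pos_fix_le h hf hu₁
    have hu₂p : u₂ ∈ chevG2.posUnipotent K := h.US_le_pos (h.G.Um_sub w) hu₂.1
    have hu₂' : u₂ ∈ twistedG2 K e := pos_fix_le h hf (Subgroup.mem_inf.2 ⟨hu₂p, hu₂.2⟩)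
    have hn' : n ∈ twistedG2 K e := by
      have : n = u₁⁻¹ * RE K e false 0 1 0 * u₂⁻¹ := by rw [he]; group
      rw [this]
      exact mul_mem (mul_mem (inv_mem hu₁') hgm) (inv_mem hu₂')
    rcases (mem_Wr_iff h).1 hw with hw | hw
    · exfalso
      subst hw
      have h1 := h.G.mem_diagonal_of_mon h.E hn.1 hm
      have h2 : RE K e false 0 1 0 ∈ chevG2.borelSubgroup K := by
        rw [he]
        exact mul_mem (mul_mem (le_sup_left (a := chevG2.posUnipotent K) hu₁.1) (le_sup_right (a := chevG2.posUnipotent K) h1))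
          (le_sup_left (a := chevG2.posUnipotent K) hu₂p)
      have h0 : (0 : K) ^ e = 0 := by
        have := neg_pow_of_add hf.add (0 : K)
        have h3 := hf.add 0 0
        rw [add_zero] at h3
        exact left_eq_add.1 h3
      have h4 : RE K e false 0 1 0 = xg chevG2 K 3 (-1) * xg chevG2 K 1 (-1) := by
        unfold RE NF ab4
        have z1 : (0 : K) ^ (e + 1) + 1 ^ e = 1 := by rw [pow_succ, mul_zero, one_pow, zero_add]
        have z2 : (0 : K) ^ (2 * e + 1) + 0 ^ e = 0 := by rw [pow_succ, mul_zero, h0, zero_add]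
        rw [z1, z2, h0]
        change xg chevG2 K 4 (-0) * xg chevG2 K 5 (-0) * (xg chevG2 K 3 (-1) * xg chevG2 K 2 (-0) * xg chevG2 K 1 (-1) * xg chevG2 K 0 (-0)) = _
        rw [neg_zero, TG2.good.xg_zero, TG2.good.xg_zero, TG2.good.xg_zero, TG2.good.xg_zero]
        simp only [one_mul, mul_one]
      have h5 : RE K e false 0 1 0 ∈ chevG2.negUnipotent K := by
        rw [h4, h.G.negUnipotent_eq_US]
        refine mul_mem (mem_US ?_ _) (mem_US ?_ _) <;> simp
      have h6 : RE K e false 0 1 0 ∈ chevG2.borelSubgroup K ⊓ chevG2.negUnipotent K := ⟨h2, h5⟩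
      rw [h.G.borel_inf_neg, Subgroup.mem_bot, h4] at h6
      have h7 : xg chevG2 K 3 (-1 : K) = xg chevG2 K 1 (-(-1 : K)) := by
        rw [TG2.good.xg_neg 1]
        exact eq_inv_of_mul_eq_one_left h6
      have h8 := TG2.good.xg_inj TG2.ext (by rw [nr]; norm_num) (by rw [nr]; norm_num) (neg_ne_zero.2 one_ne_zero) h7
      omega
    · subst hw
      exact ⟨n, ⟨hn.1, hn'⟩, χ, hm⟩
  root := by
    intro j g hg
    exact pos_fix_le h hf (Subgroup.mem_inf.2 ⟨h.US_le_pos (h.G.Um_sub _) hg.1, hg.2⟩)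
  supp := by
    intro j i _
    have hj : j = 0 := Subsingleton.elim _ _
    subst hj
    refine ⟨tf K 1 1 ((1 ^ (e + 1) + 0 ^ e) - 1 * 1) ((1 ^ (2 * e + 1) + 0 ^ e) - 1 ^ 2 * 1) (0 + 1 ^ 3 * 1) (0 + 1 ^ 3 * 1 ^ 2), ?_, ?_, ?_⟩
    · intro r hr
      rw [Um_eq h] at hr
      have h1 : r ≠ 6 ∧ r ≠ 7 ∧ r ≠ 8 ∧ r ≠ 9 ∧ r ≠ 10 ∧ r ≠ 11 := by
        refine ⟨?_, ?_, ?_, ?_, ?_, ?_⟩ <;>
        · rintro rfl
          exact hr ⟨by norm_num, by rw [nr]; norm_num⟩
      unfold tf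
      rw [if_neg h1.1, if_neg h1.2.1, if_neg h1.2.2.1, if_neg h1.2.2.2.1, if_neg h1.2.2.2.2.1, if_neg h1.2.2.2.2.2]
    · rw [← NF_eq_op hf.three]
      have := le_fix h hf (RE_mem true 1 0 0)
      unfold RE at this
      rwa [one_pow e] at this
    · have h1 : ∀ i : Fin chevG2.rank, chevG2.simple i = 6 ∨ chevG2.simple i = 7 := by decide +kernel
      rcases h1 i with h2 | h2
      · rw [h2, tf6]; exact one_ne_zero
      · rw [h2, tf7]; exact one_ne_zero

end
end WG2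
end Cfsg.Agent.H6
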