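import Cfsg.Agent.H6.TwReeC
import Cfsg.Agent.H6.TwBN
import Cfsg.Agent.H6.TwWr

/-!
The Ree groups 2G2(q): unipotent group, Weyl group.
-/

set_option autoImplicit false
set_option linter.unusedSectionVars false
set_option maxHeartbeats 400000
set_option maxRecDepth 10000

namespace Cfsg.Agent.H6
open Cfsg.Lie
open scoped Matrix

namespace WG2

section
variable {K : Type*} [Field K] {e : ℕ}
variable {σ : ↥(chevG2.group K) →* ↥(chevG2.group K)} (h : Ctx K e σ) (hf : Fl K e)
include h hf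

theorem pos_iff {g : GL chevG2.Idx K} : g ∈ chevG2.posUnipotent K ⊓ twistedG2 K e ↔ ∃ t u v, g = RE K e true t u v := by
  rw [(grp h hf).pos_inf, fix_iff h hf]

theorem card_pos [Fintype K] : Nat.card ↥(chevG2.posUnipotent K ⊓ twistedG2 K e) = Fintype.card K ^ 3 := by
  let f : K × K × K → ↥(chevG2.posUnipotent K ⊓ twistedG2 K e) := fun p => ⟨RE K e true p.1 p.2.1 p.2.2, (pos_iff h hf).2 ⟨_, _, _, rfl⟩⟩
  have hb : Function.Bijective f := by
    constructor
    · rintro ⟨t, u, v⟩ ⟨t', u', v'⟩ he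
      obtain ⟨h1, h2, h3⟩ := RE_inj hf (congrArg Subtype.val he)
      change t = t' at h1
      change u = u' at h2
      change v = v' at h3
      rw [h1, h2, h3]
    · rintro ⟨g, hg⟩
      obtain ⟨t, u, v, rfl⟩ := (pos_iff h hf).1 hg
      exact ⟨(t, u, v), rfl⟩
  rw [← Nat.card_congr (Equiv.ofBijective f hb), Nat.card_eq_fintype_card, Fintype.card_prod, Fintype.card_prod]
  ring

theorem pos_word {g : GL chevG2.Idx K} : g ∈ chevG2.posUnipotent K ⊓ twistedG2 K e ↔
    ∃ t u v, (g : Matrix chevG2.Idx chevG2.Idx K) = chevG2.wordMat K (reeWordU e t u v) := by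
  rw [pos_iff h hf]
  constructor
  · rintro ⟨t, u, v, rfl⟩
    refine ⟨t, u, v, ?_⟩
    rw [RE_wg, TG2.good.coe_wg]
  · rintro ⟨t, u, v, he⟩
    refine ⟨t, u, v, ?_⟩
    apply Units.ext
    rw [he, RE_wg, TG2.good.coe_wg]

omit hf
/-- `W¹` has order 2 -/
theorem exists_Wr : Nonempty (h.Wr ≃* Multiplicative (ZMod 2)) := by
  have h2 : h.wJ LL 0 ≠ 1 := by
    intro h1
    have h3 := Um_eq h
    rw [h1, h.G.Um_one] at h3
    have h4 : 6 ∈ posS chevG2 6 := ⟨by norm_num, by rw [nr]; norm_num⟩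
    rw [← h3] at h4
    exact h4
  have hc : Nat.card h.Wr = 2 := by
    rw [Nat.card_eq_two_iff]
    refine ⟨1, ⟨h.wJ LL 0, h.wJ_mem orbL 0⟩, fun he => h2 (congrArg Subtype.val he).symm, ?_⟩
    ext w
    simp only [Set.mem_insert_iff, Set.mem_singleton_iff, Set.mem_univ, iff_true]
    rcases (mem_Wr_iff h).1 w.2 with h3 | h3
    · left; exact Subtype.ext h3
    · right; exact Subtype.ext h3
  have hcyc : IsCyclic h.Wr := isCyclic_of_prime_card (p := 2) (hp := ⟨Nat.prime_two⟩) hc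
  have h4 : Nat.card (Multiplicative (ZMod 2)) = 2 := by
    rw [Nat.card_congr Multiplicative.toAdd, Nat.card_zmod]
  exact ⟨mulEquivOfCyclicCardEq (by rw [hc, h4])⟩

end
end WG2
end Cfsg.Agent.H6
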