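import Cfsg.Agent.H6.TwReeD
import Cfsg.Agent.H6.PVmod
import Cfsg.Agent.H6.TwTorus

/-!
The Ree groups 2G2(q): the torus.
-/

set_option autoImplicit false
set_option linter.unusedSectionVars false
set_option maxHeartbeats 400000
set_option maxRecDepth 10000

namespace Cfsg.Agent.H6
open Cfsg.Lie
open scoped Matrix

namespace WG2

def w1 : List (ℕ × ℤ) := [(3, -1), (2, -1), (1, -1), (0, -1)]
def wu : List (ℕ × ℤ) := [(8, 1), (9, 1), (10, 1), (11, 1)]
def wn : List (ℕ × ℤ) := [(8, 1), (3, -1), (8, 1), (10, 1), (1, -1), (10, 1)]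
def wi : List (ℕ × ℤ) := [(7, -1), (4, 1), (7, -1), (7, -1), (4, 1), (7, -1), (6, -1), (5, 1), (6, -1), (6, -1), (5, 1), (6, -1)]
def wu2 : List (ℕ × ℤ) := [(7, 1), (6, 1), (8, 2), (9, 0), (10, 1), (11, -1)]

theorem chk : ∀ j < 14, eqPVm 3 (applyW (imD chevG2) (cwd w1) (unitV j)) (applyW (imD chevG2) (cwd (wu ++ wn ++ wi ++ wu2)) (unitV j)) = true := by
  decide +kernel

section
variable {K : Type*} [Field K] {e : ℕ}

theorem idt (h3 : (3 : K) = 0) : wg chevG2 K (cwF K w1) =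
    wg chevG2 K (cwF K wu) * wg chevG2 K (cwF K wn) * wg chevG2 K (cwF K wi) * wg chevG2 K (cwF K wu2) := by
  have h := wg_eq_mod (F := K) TG2.good (m := 3) (by exact_mod_cast h3) w1 (wu ++ wn ++ wi ++ wu2)
    (by rw [nr]; decide) (by rw [nr]; decide) (by
      have h1 : chevG2.rank + chevG2.nroots = 14 := by decide +kernel
      rw [h1]; exact chk)
  rw [h]
  unfold cwF wg
  simp only [List.map_append, List.prod_append]

theorem c810 (h3 : (3 : K) = 0) (t u : K) : Commute (xg chevG2 K 8 t) (xg chevG2 K 10 u) := (ab_Zc h3 true).comm 0 2 t u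
theorem c31 (h3 : (3 : K) = 0) (t u : K) : Commute (xg chevG2 K 3 t) (xg chevG2 K 1 u) := by
  have := (ab_Zc h3 false).comm 0 2 (-t) (-u)
  change Commute (xg chevG2 K 3 (- -t)) (xg chevG2 K 1 (- -u)) at this
  rwa [neg_neg, neg_neg] at this
theorem c81 (h3 : (3 : K) = 0) (t u : K) : Commute (xg chevG2 K 8 t) (xg chevG2 K 1 u) :=
  comm_of_cm0 TG2.good TG2.ext (m := 3) (by exact_mod_cast h3) (by decide +kernel) (by decide +kernel) (by decide +kernel) (by decide +kernel) t u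
theorem c310 (h3 : (3 : K) = 0) (t u : K) : Commute (xg chevG2 K 3 t) (xg chevG2 K 10 u) :=
  comm_of_cm0 TG2.good TG2.ext (m := 3) (by exact_mod_cast h3) (by decide +kernel) (by decide +kernel) (by decide +kernel) (by decide +kernel) t u

theorem pow_e_zero (hf : Fl K e) : (0 : K) ^ e = 0 := by
  have h3 := hf.add 0 0
  rw [add_zero] at h3
  exact left_eq_add.1 h3

theorem e_ne (hf : Fl K e) : e ≠ 0 := by
  rintro rfl
  have := pow_e_zero hf
  rw [pow_zero] at this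
  exact one_ne_zero this

theorem RE0t (hf : Fl K e) (u : K) : RE K e true 0 u 0 = xg chevG2 K 8 (u ^ e) * xg chevG2 K 10 u := by
  unfold RE NF ab4
  have z1 : (0 : K) ^ (e + 1) + u ^ e = u ^ e := by rw [pow_succ, mul_zero, zero_add]
  have z2 : (0 : K) ^ (2 * e + 1) + 0 ^ e = 0 := by rw [pow_succ, mul_zero, pow_e_zero hf, zero_add]
  rw [z1, z2, pow_e_zero hf]
  change xg chevG2 K 7 0 * xg chevG2 K 6 0 * (xg chevG2 K 8 (u ^ e) * xg chevG2 K 9 0 * xg chevG2 K 10 u * xg chevG2 K 11 0) = _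
  rw [TG2.good.xg_zero, TG2.good.xg_zero, TG2.good.xg_zero, TG2.good.xg_zero]
  simp only [one_mul, mul_one]

theorem RE0f (hf : Fl K e) (u : K) : RE K e false 0 u 0 = xg chevG2 K 3 (-(u ^ e)) * xg chevG2 K 1 (-u) := by
  unfold RE NF ab4
  have z1 : (0 : K) ^ (e + 1) + u ^ e = u ^ e := by rw [pow_succ, mul_zero, zero_add]
  have z2 : (0 : K) ^ (2 * e + 1) + 0 ^ e = 0 := by rw [pow_succ, mul_zero, pow_e_zero hf, zero_add]
  rw [z1, z2, pow_e_zero hf]
  change xg chevG2 K 4 (-0) * xg chevG2 K 5 (-0) * (xg chevG2 K 3 (-(u ^ e)) * xg chevG2 K 2 (-0) * xg chevG2 K 1 (-u) * xg chevG2 K 0 (-0)) = _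
  rw [neg_zero, TG2.good.xg_zero, TG2.good.xg_zero, TG2.good.xg_zero, TG2.good.xg_zero]
  simp only [one_mul, mul_one]

/-- the element `n` of the rank one torus normaliser -/
noncomputable def nn (K : Type*) [Field K] (e : ℕ) (u : K) : GL chevG2.Idx K :=
  nX chevG2 (xg chevG2 K) 8 (u ^ e) * nX chevG2 (xg chevG2 K) 10 u

theorem nn_eq (hf : Fl K e) (u : K) : nn K e u = RE K e true 0 u 0 * RE K e false 0 u⁻¹ 0 * RE K e true 0 u 0 := by
  rw [RE0t hf, RE0f hf]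
  change xg chevG2 K 8 (u ^ e) * xg chevG2 K (chevG2.neg 8) (-(u ^ e)⁻¹) * xg chevG2 K 8 (u ^ e) *
    (xg chevG2 K 10 u * xg chevG2 K (chevG2.neg 10) (-u⁻¹) * xg chevG2 K 10 u) = _
  rw [show chevG2.neg 8 = 3 by decide +kernel, show chevG2.neg 10 = 1 by decide +kernel, inv_pow]
  have h3 := hf.three
  generalize u ^ e = a
  have e1 := (c810 h3 a u).eq
  have e2 := (c310 h3 (-a⁻¹) u).eq
  have e3 := (c81 h3 a (-u⁻¹)).eq
  have e4 := (c810 h3 a u).eq
  calc xg chevG2 K 8 a * xg chevG2 K 3 (-a⁻¹) * xg chevG2 K 8 a * (xg chevG2 K 10 u * xg chevG2 K 1 (-u⁻¹) * xg chevG2 K 10 u)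
      = xg chevG2 K 8 a * xg chevG2 K 3 (-a⁻¹) * (xg chevG2 K 8 a * xg chevG2 K 10 u) * xg chevG2 K 1 (-u⁻¹) * xg chevG2 K 10 u := by
        simp only [mul_assoc]
    _ = xg chevG2 K 8 a * (xg chevG2 K 3 (-a⁻¹) * xg chevG2 K 10 u) * (xg chevG2 K 8 a * xg chevG2 K 1 (-u⁻¹)) * xg chevG2 K 10 u := by
        rw [e1]; simp only [mul_assoc]
    _ = _ := by rw [e2, e3]; simp only [mul_assoc]

theorem nn_mem (hf : Fl K e) (u : K) : nn K e u ∈ twistedG2 K e := by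
  rw [nn_eq hf]
  exact mul_mem (mul_mem (RE_mem _ _ _ _) (RE_mem _ _ _ _)) (RE_mem _ _ _ _)

theorem nX_comm (h3 : (3 : K) = 0) (t u : K) : Commute (nX chevG2 (xg chevG2 K) 8 t) (nX chevG2 (xg chevG2 K) 10 u) := by
  have h8 : nX chevG2 (xg chevG2 K) 8 t = xg chevG2 K 8 t * xg chevG2 K 3 (-t⁻¹) * xg chevG2 K 8 t := by
    change xg chevG2 K 8 t * xg chevG2 K (chevG2.neg 8) (-t⁻¹) * xg chevG2 K 8 t = _
    rw [show chevG2.neg 8 = 3 by decide +kernel]
  have h10 : nX chevG2 (xg chevG2 K) 10 u = xg chevG2 K 10 u * xg chevG2 K 1 (-u⁻¹) * xg chevG2 K 10 u := by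
    change xg chevG2 K 10 u * xg chevG2 K (chevG2.neg 10) (-u⁻¹) * xg chevG2 K 10 u = _
    rw [show chevG2.neg 10 = 1 by decide +kernel]
  rw [h8, h10]
  have a1 : Commute (xg chevG2 K 8 t) (xg chevG2 K 10 u * xg chevG2 K 1 (-u⁻¹) * xg chevG2 K 10 u) :=
    ((c810 h3 t u).mul_right (c81 h3 _ _)).mul_right (c810 h3 t u)
  have a2 : Commute (xg chevG2 K 3 (-t⁻¹)) (xg chevG2 K 10 u * xg chevG2 K 1 (-u⁻¹) * xg chevG2 K 10 u) :=
    ((c310 h3 _ _).mul_right (c31 h3 _ _)).mul_right (c310 h3 _ _)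
  exact (a1.mul_left a2).mul_left a1

theorem hX_prod (hf : Fl K e) (u : K) : hX chevG2 (xg chevG2 K) 8 (u ^ e) * hX chevG2 (xg chevG2 K) 10 u = nn K e u * nn K e (-1) := by
  have hm : (-1 : K) ^ e = -1 := by rw [neg_pow_e hf, one_pow]
  unfold nn
  rw [hm]
  change nX chevG2 (xg chevG2 K) 8 (u ^ e) * nX chevG2 (xg chevG2 K) 8 (-1) * (nX chevG2 (xg chevG2 K) 10 u * nX chevG2 (xg chevG2 K) 10 (-1)) = _
  have h1 := (nX_comm hf.three (-1) u).eq
  calc _ = nX chevG2 (xg chevG2 K) 8 (u ^ e) * (nX chevG2 (xg chevG2 K) 8 (-1) * nX chevG2 (xg chevG2 K) 10 u) * nX chevG2 (xg chevG2 K) 10 (-1) := by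
        simp only [mul_assoc]
    _ = _ := by rw [h1]; simp only [mul_assoc]

/-- torus elements -/
noncomputable def hh (K : Type*) [Field K] (e : ℕ) (x : Kˣ) : GL chevG2.Idx K := PhiH chevG2 K 2 ![x ^ e, x]

theorem hh_mul (x y : Kˣ) : hh K e (x * y) = hh K e x * hh K e y := by
  unfold hh
  rw [← map_mul]
  congr 1
  funext i
  fin_cases i
  · exact mul_pow x y e
  · rfl

theorem car8 : ∀ s < 12, chevG2.pairing 8 s = chevG2.cartan 0 s + 3 * chevG2.cartan 1 s ∧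
    chevG2.pairing 10 s = chevG2.cartan 0 s + chevG2.cartan 1 s := by decide +kernel

theorem hu (hf : Fl K e) (x : Kˣ) : (x ^ e) ^ (3 * e) = x := Units.ext (by
  rw [Units.val_pow_eq_pow_val, Units.val_pow_eq_pow_val]; exact hf.sq x)

/-- the elements coming from the roots `a+b`, `3a+b` -/
theorem hh_sq (hf : Fl K e) (d : Kˣ) : hh K e (d ^ (3 * e + 1)) ∈ twistedG2 K e := by
  have h1 : hh K e (d ^ (3 * e + 1)) = hX chevG2 (xg chevG2 K) 8 ((d ^ e : Kˣ) : K) * hX chevG2 (xg chevG2 K) 10 (d : K) := by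
    have h8 := TG2.good.hgr_eq_tor (F := K) 8 (by rw [nr]; decide) (d ^ e)
    have h10 := TG2.good.hgr_eq_tor (F := K) 10 (by rw [nr]; decide) d
    change hX chevG2 (xg chevG2 K) 8 ((d ^ e : Kˣ) : K) = _ at h8
    change hX chevG2 (xg chevG2 K) 10 (d : K) = _ at h10
    rw [h8, h10, ← tor_mul]
    unfold hh
    change tor chevG2 K _ = _
    rw [tor_eq_iff]
    intro r hr
    rw [nr] at hr
    obtain ⟨a1, a2⟩ := car8 r hr
    rw [Fin.prod_univ_two, Pi.mul_apply]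
    change ((d ^ (3 * e + 1)) ^ e) ^ chevG2.cartan 0 r * (d ^ (3 * e + 1)) ^ chevG2.cartan 1 r = _
    rw [a1, a2]
    generalize chevG2.cartan 0 r = a
    generalize chevG2.cartan 1 r = b
    have h4 : (d ^ (3 * e + 1)) ^ e = d ^ (e + 1) := by
      have := hu hf d
      calc (d ^ (3 * e + 1)) ^ e = ((d ^ e) ^ (3 * e)) * d ^ e := by
            rw [← pow_mul, ← pow_mul, ← pow_add]; congr 1; ring
        _ = _ := by rw [this, pow_succ, mul_comm]
    rw [h4]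
    have e1 : (d ^ (e + 1)) = (d ^ (((e : ℤ) + 1)) : Kˣ) := by rw [← zpow_natCast]; push_cast; rfl
    have e2 : (d ^ (3 * e + 1)) = (d ^ ((3 * (e : ℤ) + 1)) : Kˣ) := by rw [← zpow_natCast]; push_cast; rfl
    have e3 : (d ^ e) = (d ^ ((e : ℤ)) : Kˣ) := by rw [← zpow_natCast]
    rw [e1, e2, e3, ← zpow_mul, ← zpow_mul, ← zpow_mul, ← zpow_add, ← zpow_add]
    congr 1
    ring
  rw [h1, Units.val_pow_eq_pow_val, hX_prod hf]
  exact mul_mem (nn_mem hf _) (nn_mem hf _)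

theorem sq_eq (hf : Fl K e) (y : Kˣ) : y ^ 2 = (y ^ (3 * e - 1)) ^ (3 * e + 1) := by
  have he : e ≠ 0 := e_ne hf
  have h1 : (y ^ e) ^ (3 * e) = y := hu hf y
  have h2 : (3 * e - 1) * (3 * e + 1) + 1 = 3 * (e * (3 * e)) := by
    obtain ⟨k, hk⟩ : ∃ k, 3 * e = k + 1 := ⟨3 * e - 1, by omega⟩
    have h3 : 3 * (e * (3 * e)) = (3 * e) * (3 * e) := by ring
    rw [h3, hk]
    simp only [Nat.add_sub_cancel]
    ring
  have h3 : (y ^ (3 * e - 1)) ^ (3 * e + 1) * y = y ^ 3 := by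
    rw [← pow_mul, ← pow_succ, h2, mul_comm 3, pow_mul, pow_mul, h1]
  have h4 : y ^ 2 * y = y ^ 3 := by rw [← pow_succ]
  exact mul_right_cancel (h4.trans h3.symm)

theorem hh_neg_one (hf : Fl K e) : hh K e (-1) = wg chevG2 K (cwF K wi) := by
  have hm : (-1 : Kˣ) ^ e = -1 := by
    apply Units.ext
    rw [Units.val_pow_eq_pow_val, Units.val_neg, Units.val_one, neg_pow_e hf, one_pow]
  have h2 := PhiH_eq_prod (F := K) TG2.good (![-1, -1] : Fin 2 → Kˣ) (M := [(0 : Fin 2), (1 : Fin 2)]) (by decide +kernel)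
  change PhiH chevG2 K 2 ![-1, -1] = _ at h2
  unfold hh
  rw [hm, h2]
  have s0 : chevG2.simple ((0 : Fin 2) : ℕ) = 7 := by decide +kernel
  have s1 : chevG2.simple ((1 : Fin 2) : ℕ) = 6 := by decide +kernel
  have s2 : (List.map (fun i : Fin chevG2.rank => hX chevG2 (xg chevG2 K) (chevG2.simple (i : ℕ)) (((![-1, -1] : Fin 2 → Kˣ) i : Kˣ) : K)) [(0 : Fin 2), (1 : Fin 2)]).prod =
      hX chevG2 (xg chevG2 K) (chevG2.simple ((0 : Fin 2) : ℕ)) (((-1 : Kˣ) : Kˣ) : K) *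
        (hX chevG2 (xg chevG2 K) (chevG2.simple ((1 : Fin 2) : ℕ)) (((-1 : Kˣ) : Kˣ) : K) * 1) := rfl
  refine s2.trans ?_
  rw [mul_one, s0, s1, Units.val_neg, Units.val_one]
  change (xg chevG2 K 7 (-1) * xg chevG2 K (chevG2.neg 7) (-(-1)⁻¹) * xg chevG2 K 7 (-1)) * (xg chevG2 K 7 (-1) * xg chevG2 K (chevG2.neg 7) (-(-1)⁻¹) * xg chevG2 K 7 (-1)) *
    ((xg chevG2 K 6 (-1) * xg chevG2 K (chevG2.neg 6) (-(-1)⁻¹) * xg chevG2 K 6 (-1)) * (xg chevG2 K 6 (-1) * xg chevG2 K (chevG2.neg 6) (-(-1)⁻¹) * xg chevG2 K 6 (-1))) = _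
  rw [show chevG2.neg 7 = 4 by decide +kernel, show chevG2.neg 6 = 5 by decide +kernel, inv_neg, inv_one, neg_neg]
  unfold wg cwF wi
  simp only [List.map_cons, List.map_nil, List.prod_cons, List.prod_nil, mul_one, mul_assoc, Int.cast_neg, Int.cast_one]

theorem hh_neg_one_mem (hf : Fl K e) : hh K e (-1) ∈ twistedG2 K e := by
  rw [hh_neg_one hf]
  have h := idt (K := K) hf.three
  have hm : (-1 : K) ^ e = -1 := by rw [neg_pow_e hf, one_pow]
  have a1 : wg chevG2 K (cwF K w1) = RE K e false 0 1 1 := by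
    unfold RE NF ab4
    have z1 : (0 : K) ^ (e + 1) + 1 ^ e = 1 := by rw [pow_succ, mul_zero, one_pow, zero_add]
    have z2 : (0 : K) ^ (2 * e + 1) + 1 ^ e = 1 := by rw [pow_succ, mul_zero, one_pow, zero_add]
    rw [z1, z2, pow_e_zero hf]
    change _ = xg chevG2 K 4 (-0) * xg chevG2 K 5 (-0) * (xg chevG2 K 3 (-1) * xg chevG2 K 2 (-1) * xg chevG2 K 1 (-1) * xg chevG2 K 0 (-1))
    rw [neg_zero, TG2.good.xg_zero, TG2.good.xg_zero]
    unfold wg cwF w1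
    simp only [List.map_cons, List.map_nil, List.prod_cons, List.prod_nil, mul_one, one_mul, mul_assoc, Int.cast_neg, Int.cast_one]
  have a2 : wg chevG2 K (cwF K wu) = RE K e true 0 1 1 := by
    unfold RE NF ab4
    have z1 : (0 : K) ^ (e + 1) + 1 ^ e = 1 := by rw [pow_succ, mul_zero, one_pow, zero_add]
    have z2 : (0 : K) ^ (2 * e + 1) + 1 ^ e = 1 := by rw [pow_succ, mul_zero, one_pow, zero_add]
    rw [z1, z2, pow_e_zero hf]
    change _ = xg chevG2 K 7 0 * xg chevG2 K 6 0 * (xg chevG2 K 8 1 * xg chevG2 K 9 1 * xg chevG2 K 10 1 * xg chevG2 K 11 1)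
    rw [TG2.good.xg_zero, TG2.good.xg_zero]
    unfold wg cwF wu
    simp only [List.map_cons, List.map_nil, List.prod_cons, List.prod_nil, mul_one, one_mul, mul_assoc, Int.cast_one]
  have a3 : wg chevG2 K (cwF K wn) = nn K e 1 := by
    unfold nn
    rw [one_pow]
    change _ = xg chevG2 K 8 1 * xg chevG2 K (chevG2.neg 8) (-1⁻¹) * xg chevG2 K 8 1 *
      (xg chevG2 K 10 1 * xg chevG2 K (chevG2.neg 10) (-1⁻¹) * xg chevG2 K 10 1)
    rw [show chevG2.neg 8 = 3 by decide +kernel, show chevG2.neg 10 = 1 by decide +kernel, inv_one]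
    unfold wg cwF wn
    simp only [List.map_cons, List.map_nil, List.prod_cons, List.prod_nil, mul_one, mul_assoc, Int.cast_neg, Int.cast_one]
  have a4 : wg chevG2 K (cwF K wu2) = RE K e true 1 1 (-1) := by
    unfold RE NF ab4
    have z1 : (1 : K) ^ (e + 1) + 1 ^ e = 2 := by rw [one_pow, one_pow]; norm_num
    have z2 : (1 : K) ^ (2 * e + 1) + (-1) ^ e = 0 := by rw [one_pow, hm]; norm_num
    rw [z1, z2, one_pow]
    change _ = xg chevG2 K 7 1 * xg chevG2 K 6 1 * (xg chevG2 K 8 2 * xg chevG2 K 9 0 * xg chevG2 K 10 1 * xg chevG2 K 11 (-1))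
    unfold wg cwF wu2
    simp only [List.map_cons, List.map_nil, List.prod_cons, List.prod_nil, mul_one, mul_assoc, Int.cast_neg, Int.cast_one,
      Int.cast_zero, Int.cast_ofNat]
  rw [a1, a2, a3, a4] at h
  have h5 : wg chevG2 K (cwF K wi) = (nn K e 1)⁻¹ * (RE K e true 0 1 1)⁻¹ * RE K e false 0 1 1 * (RE K e true 1 1 (-1))⁻¹ := by
    rw [h]; group
  rw [h5]
  exact mul_mem (mul_mem (mul_mem (inv_mem (nn_mem hf 1)) (inv_mem (RE_mem _ _ _ _))) (RE_mem _ _ _ _)) (inv_mem (RE_mem _ _ _ _))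

end
end WG2
end Cfsg.Agent.H6
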